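import Cfsg.Agent.Lib.Known.AutPSL.GraphFieldCent
import Cfsg.Agent.Lib.Classical.Unitary.MatrixStructure

/-!
# Semilinear automorphisms of `PSU`: the kernel consists of the scalars
-/

set_option autoImplicit false
set_option linter.unusedSectionVars false

open Matrix

namespace CfsgLib.Known.AutPSU

open CfsgLib.Classical
open CfsgLib.Known.AutPSL (glMap glIota slConjHom)

variable {n : ℕ} {F : Type*} [Field F] [Fintype F] {q : ℕ}

/-- The `q`-th power automorphism. -/
noncomputable def frob (hF : Fintype.card F = q ^ 2) : F ≃+* F :=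
  RingEquiv.ofBijective (Herm.powHom hF) (Finite.injective_iff_bijective.1 (Herm.powHom hF).injective)

theorem frob_apply (hF : Fintype.card F = q ^ 2) (a : F) : frob hF a = a ^ q :=
  Herm.powHom_apply hF a

theorem frob_frob (hF : Fintype.card F = q ^ 2) (a : F) : frob hF (frob hF a) = a :=
  (Herm.powHom_isInvol hF).invol a

theorem orderOf_frob (hF : Fintype.card F = q ^ 2) : orderOf (frob hF) = 2 := by
  refine orderOf_eq_prime (RingEquiv.ext fun a => frob_frob hF a) fun h => ?_
  exact (Herm.powHom_isInvol hF).ne_id (RingHom.ext fun a => RingEquiv.congr_fun h a)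

theorem eq_frob_of_orderOf (hF : Fintype.card F = q ^ 2) {σ : F ≃+* F} (hσ : orderOf σ = 2) :
    σ = frob hF := by
  obtain ⟨p, f, hp, -, hq⟩ := Herm.exists_prime_pow_root hF
  haveI : Fact p.Prime := ⟨hp⟩
  have hq2 := CfsgLib.Classical.two_le_of_card_sq hF
  have hf : 1 ≤ f := by
    rcases Nat.eq_zero_or_pos f with rfl | h
    · simp at hq; omega
    · exact h
  have hF' : Fintype.card F = p ^ (2 * f) := by rw [hF, hq, ← pow_mul, mul_comm]
  obtain ⟨-, h⟩ := AutPSL.involution_eq_pow hF' (by omega) σ hσ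
  refine RingEquiv.ext fun a => ?_
  rw [h, frob_apply, hq, Nat.mul_div_cancel_left _ two_pos]

theorem exists_norm_one_gen (hF : Fintype.card F = q ^ 2) :
    ∃ a : F, a * a ^ q = 1 ∧ a ≠ 0 ∧ a ^ 2 ≠ 1 ∧ a ≠ 1 ∧
      ∀ ρ : F ≃+* F, ρ a = a → ρ = RingEquiv.refl F := by
  classical
  have hq := CfsgLib.Classical.two_le_of_card_sq hF
  obtain ⟨u, hu⟩ := IsCyclic.exists_ofOrder_eq_natCard (α := Fˣ)
  rw [CfsgLib.Classical.card_units_field, hF] at hu
  set a := u ^ (q - 1) with ha
  have hfac : q ^ 2 - 1 = (q + 1) * (q - 1) := by rw [← Nat.sq_sub_sq, one_pow]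
  have hord : orderOf a = q + 1 := by
    rw [ha, orderOf_pow' _ (by omega), hu, hfac, Nat.gcd_mul_left_left,
      Nat.mul_div_cancel _ (by omega)]
  have ha1 : a ≠ 1 := fun h => by rw [h, orderOf_one] at hord; omega
  refine ⟨a, ?_, a.ne_zero, fun h => ?_, fun h => ha1 (Units.ext h), fun ρ hρ => ?_⟩
  · rw [← Units.val_pow_eq_pow_val, ← Units.val_mul, ← pow_succ', ← hord, pow_orderOf_eq_one,
      Units.val_one]
  · have h' : a ^ 2 = 1 := Units.ext (by rw [Units.val_pow_eq_pow_val]; exact h)
    have := Nat.le_of_dvd two_pos (orderOf_dvd_of_pow_eq_one h')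
    omega
  · set L := ρ.toRingHom.eqLocusField (RingHom.id F) with hL
    have hmem : ∀ k : ℕ, ((a ^ k : Fˣ) : F) ∈ L := fun k => by
      rw [Units.val_pow_eq_pow_val]
      exact pow_mem (show (a : F) ∈ L from hρ) k
    haveI : Fintype L := Fintype.ofFinite L
    have hpos : q + 1 < Nat.card L := by
      let g : Option (Fin (q + 1)) → L := fun i => i.elim 0 fun k => ⟨_, hmem k⟩
      have hinj : Function.Injective g := by
        rintro (_ | i) (_ | j) h
        · rfl
        · exact absurd (congrArg Subtype.val h).symm (a ^ (j : ℕ)).ne_zero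
        · exact absurd (congrArg Subtype.val h) (a ^ (i : ℕ)).ne_zero
        · have h' : a ^ (i : ℕ) = a ^ (j : ℕ) := Units.ext (congrArg Subtype.val h)
          exact congrArg some (Fin.ext (pow_injOn_Iio_orderOf
            (show (i : ℕ) < orderOf a by rw [hord]; exact i.2)
            (show (j : ℕ) < orderOf a by rw [hord]; exact j.2) h'))
      have := Nat.card_le_card_of_injective g hinj
      simpa using this
    have hc := Module.natCard_eq_pow_finrank (K := L) (V := F)
    rw [Nat.card_eq_fintype_card, hF] at hc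
    have hr : Module.finrank L F = 1 := by
      rcases Nat.lt_or_ge (Module.finrank L F) 2 with h | h
      · have : Module.finrank L F ≠ 0 := (Module.finrank_pos).ne'
        omega
      · exfalso
        have h2 : Nat.card L ^ 2 ≤ Nat.card L ^ Module.finrank L F :=
          Nat.pow_le_pow_right (by omega) h
        rw [← hc] at h2
        nlinarith
    refine RingEquiv.ext fun x => ?_
    rw [hr, pow_one] at hc
    have hsurj : Function.Surjective (Subtype.val : L → F) :=
      ((Fintype.bijective_iff_injective_and_card _).2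
        ⟨Subtype.val_injective, by rw [hF, hc, Nat.card_eq_fintype_card]⟩).2
    obtain ⟨⟨y, hy⟩, rfl⟩ := hsurj x
    exact hy

/-- A monomial matrix. -/
def mono (d : Fin n → F) (π : Equiv.Perm (Fin n)) : Matrix (Fin n) (Fin n) F :=
  Matrix.of fun i j => if π i = j then d i else 0

theorem mono_mulVec (d : Fin n → F) (π : Equiv.Perm (Fin n)) (v : Fin n → F) (i : Fin n) :
    (mono d π *ᵥ v) i = d i * v (π i) := by
  simp [mono, mulVec, dotProduct]

theorem mono_eq (d : Fin n → F) (π : Equiv.Perm (Fin n)) :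
    mono d π = Matrix.diagonal d * π.permMatrix F := by
  ext i j
  rw [diagonal_mul]
  simp [mono, Equiv.Perm.permMatrix, PEquiv.toMatrix_apply]

theorem exists_mono_SU (d : Fin n → F) (π : Equiv.Perm (Fin n)) (hd : ∀ i, d i * d i ^ q = 1)
    (hdet : ((Equiv.Perm.sign π : ℤ) : F) * ∏ i, d i = 1) :
    ∃ s : Cfsg.SU n F q,
      ((s : Matrix.SpecialLinearGroup (Fin n) F) : Matrix (Fin n) (Fin n) F) = mono d π := by
  have h1 : (mono d π).det = 1 := by
    rw [mono_eq, det_mul, det_diagonal, det_permutation, mul_comm]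
    exact hdet
  refine ⟨⟨⟨mono d π, h1⟩, fun u v => ?_⟩, rfl⟩
  show Cfsg.hermForm n F q (mono d π *ᵥ u) (mono d π *ᵥ v) = _
  simp only [Cfsg.hermForm, mono_mulVec, mul_pow]
  rw [← Equiv.sum_comp π (fun i => u i * v i ^ q)]
  exact Finset.sum_congr rfl fun i _ => by linear_combination (u (π i) * v (π i) ^ q) * hd i

theorem eq_scalar_of_intertwine (hF : Fintype.card F = q ^ 2) (hn : 3 ≤ n) (N : GL (Fin n) F)
    (ρ : F ≃+* F) (h : ∀ s : Cfsg.SU n F q, (N : Matrix (Fin n) (Fin n) F) *
      ((s : Matrix.SpecialLinearGroup (Fin n) F) : Matrix (Fin n) (Fin n) F).map ρ =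
      ((s : Matrix.SpecialLinearGroup (Fin n) F) : Matrix (Fin n) (Fin n) F) *
        (N : Matrix (Fin n) (Fin n) F)) :
    ρ = RingEquiv.refl F ∧ ∃ c : Fˣ, (N : Matrix (Fin n) (Fin n) F) = (c : F) • 1 := by
  classical
  obtain ⟨a, ha, ha0, ha2, ha1, hgen⟩ := exists_norm_one_gen hF
  have hq := CfsgLib.Classical.two_le_of_card_sq hF
  set M := (N : Matrix (Fin n) (Fin n) F)
  have hone : (1 : F) * 1 ^ q = 1 := by simp
  have hinv : a⁻¹ * a⁻¹ ^ q = 1 := by rw [inv_pow, ← mul_inv, ha, inv_one]
  have hainv : a⁻¹ ≠ a := fun h => ha2 (by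
    rw [sq]; nth_rw 1 [← h]; exact inv_mul_cancel₀ ha0)
  have hcol : ∀ y, ∃ x, M x y ≠ 0 := fun y => by
    by_contra hc
    push Not at hc
    exact (GeneralLinearGroup.det N).ne_zero (Matrix.det_eq_zero_of_column_eq_zero y hc)
  have hdiag : ∀ d : Fin n → F, (∀ i, d i * d i ^ q = 1) → ∏ i, d i = 1 →
      ∀ x y, M x y * ρ (d y) = d x * M x y := by
    intro d hd hp x y
    obtain ⟨s, hs⟩ := exists_mono_SU (q := q) d 1 hd (by simp [hp])
    have h1 := congrFun (congrFun (h s) x) y
    have hd1 : mono d 1 = Matrix.diagonal d := by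
      ext i j; by_cases hij : i = j <;> simp [mono, hij]
    rw [hs, hd1, Matrix.diagonal_map (map_zero ρ), mul_diagonal, diagonal_mul] at h1
    exact h1
  -- the two diagonal elements
  have pair : ∀ i j : Fin n, i ≠ j → ∀ x y, M x y * ρ (Function.update (Function.update (1 : Fin n → F) j a⁻¹) i a y) =
      Function.update (Function.update (1 : Fin n → F) j a⁻¹) i a x * M x y := by
    intro i j hij
    refine hdiag _ (fun k => ?_) ?_
    · by_cases hk : k = i
      · simp [hk, ha]
      · by_cases hk' : k = j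
        · rw [Function.update_of_ne hk, hk', Function.update_self]
          exact hinv
        · simp [hk, hk']
    · rw [Finset.prod_update_of_mem (Finset.mem_univ _), Finset.prod_update_of_mem
        (by simp [hij.symm])]
      simp [mul_inv_cancel₀ ha0]
  obtain ⟨i₀, j₀, k₀, hij, hik, hjk⟩ : ∃ i j k : Fin n, i ≠ j ∧ i ≠ k ∧ j ≠ k :=
    ⟨⟨0, by omega⟩, ⟨1, by omega⟩, ⟨2, by omega⟩, by simp, by simp, by simp⟩
  have hρa : ρ a = a := by
    obtain ⟨x, hx⟩ := hcol i₀
    have h1 := pair i₀ j₀ hij x i₀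
    rw [mul_comm _ (M x i₀), Function.update_self] at h1
    have h1' := mul_left_cancel₀ hx h1
    have hne1 : ρ a ≠ 1 := fun h => ha1 (ρ.injective (h.trans (map_one ρ).symm))
    have h2 := hdiag (Function.update (Function.update (Function.update (1 : Fin n → F) k₀ (a⁻¹ * a⁻¹)) j₀ a) i₀ a)
      (fun k => ?_) ?_ x i₀
    · rw [mul_comm _ (M x i₀), Function.update_self] at h2
      have h2' := mul_left_cancel₀ hx h2
      rw [h1'] at h2'
      by_cases hxi : x = i₀
      · subst hxi; rw [h1', Function.update_self]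
      · exfalso
        by_cases hxj : x = j₀
        · subst hxj
          simp [hij.symm] at h2'
          exact hainv h2'
        · by_cases hxk : x = k₀
          · subst hxk
            simp [hik.symm, hjk.symm] at h1'
            exact ha1 h1'
          · simp [hxi, hxj] at h1'
            exact ha1 h1'
    · by_cases hk : k = i₀
      · simp [hk, ha]
      · by_cases hk' : k = j₀
        · simp [hk', hij.symm, ha]
        · by_cases hk'' : k = k₀
          · simp [hk'', hik.symm, hjk.symm, mul_pow]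
            linear_combination (a⁻¹ * a⁻¹ ^ q + 1) * hinv
          · simp [hk, hk', hk'']
    · rw [Finset.prod_update_of_mem (Finset.mem_univ _), Finset.prod_update_of_mem
        (by simp [hij.symm]), Finset.prod_update_of_mem (by simp [hik.symm, hjk.symm])]
      simp only [Pi.one_apply, Finset.prod_const_one, mul_one]
      field_simp
  have hρ := hgen ρ hρa
  subst hρ
  refine ⟨rfl, ?_⟩
  have hoff : ∀ x y, x ≠ y → M x y = 0 := by
    intro x y hxy
    have h1 := pair x y hxy x y
    simp [hxy.symm] at h1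
    exact (mul_eq_zero.1 (show M x y * (a⁻¹ - a) = 0 by linear_combination h1)).resolve_right
      (sub_ne_zero.2 hainv)
  have heq : ∀ x y, x ≠ y → M x x = M y y := by
    intro x y hxy
    obtain ⟨s, hs⟩ := exists_mono_SU (q := q) (Function.update (1 : Fin n → F) y (-1 : F)) (Equiv.swap x y)
      (fun k => by
        by_cases hk : k = y
        · simp only [hk, Function.update_self]
          obtain ⟨p, f, hp, hchar, rfl⟩ := Herm.exists_prime_pow_root hF
          haveI := hchar
          haveI : Fact p.Prime := ⟨hp⟩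
          rw [neg_one_pow_char_pow F p f]
          simp
        · simp [hk])
      (by simp [Equiv.Perm.sign_swap hxy, Finset.prod_update_of_mem (Finset.mem_univ _)])
    have h1 := congrFun (congrFun (h s) x) y
    rw [hs] at h1
    rw [Matrix.mul_apply, Matrix.mul_apply, Finset.sum_eq_single x (fun b _ hb => by
        rw [hoff x b hb.symm, zero_mul]) (by simp),
      Finset.sum_eq_single y (fun b _ hb => by rw [hoff b y hb, mul_zero]) (by simp)] at h1
    simpa [mono, hxy] using h1
  have hd : M i₀ i₀ ≠ 0 := by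
    obtain ⟨x, hx⟩ := hcol i₀
    rcases eq_or_ne x i₀ with rfl | h'
    · exact hx
    · exact absurd (hoff x i₀ h') hx
  refine ⟨Units.mk0 _ hd, Matrix.ext fun x y => ?_⟩
  rcases eq_or_ne x y with rfl | hxy
  · rcases eq_or_ne x i₀ with rfl | h'
    · simp
    · simp [heq x i₀ h']
  · simp [hoff x y hxy, hxy]

theorem commutator_SU (hF : Fintype.card F = q ^ 2) (hn : 3 ≤ n) (hex : n = 3 → q ≠ 2) :
    commutator ↥(Cfsg.SU n F q) = ⊤ := by
  rw [eq_top_iff, ← Herm.su_closure_transvections hF n (by omega) hex, Subgroup.closure_le]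
  rintro A ⟨v, c, hv, hA⟩
  rw [SetLike.mem_coe, commutator_eq_closure]
  exact Subgroup.subset_closure (Herm.transvection_mem_commutatorSet hF hn A v c hv hA)

theorem eq_scalar_of_intertwine_projective (hF : Fintype.card F = q ^ 2) (hn : 3 ≤ n)
    (hex : n = 3 → q ≠ 2) (N : GL (Fin n) F) (ρ : F ≃+* F)
    (h : ∀ s : Cfsg.SU n F q, ∃ c : F, (N : Matrix (Fin n) (Fin n) F) *
      ((s : Matrix.SpecialLinearGroup (Fin n) F) : Matrix (Fin n) (Fin n) F).map ρ =
      c • (((s : Matrix.SpecialLinearGroup (Fin n) F) : Matrix (Fin n) (Fin n) F) *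
        (N : Matrix (Fin n) (Fin n) F))) :
    ρ = RingEquiv.refl F ∧ ∃ c : Fˣ, (N : Matrix (Fin n) (Fin n) F) = (c : F) • 1 := by
  haveI : Nonempty (Fin n) := ⟨⟨0, by omega⟩⟩
  choose c hc using h
  set M := (N : Matrix (Fin n) (Fin n) F)
  have hne : ∀ s : Cfsg.SU n F q,
      ((s : Matrix.SpecialLinearGroup (Fin n) F) : Matrix (Fin n) (Fin n) F) * M ≠ 0 := fun s h0 => by
    have := congrArg Matrix.det h0
    rw [det_mul, Matrix.SpecialLinearGroup.det_coe, one_mul, det_zero] at this
    exact (GeneralLinearGroup.det N).ne_zero this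
  have hmul : ∀ s t, c (s * t) = c s * c t := fun s t => by
    have h1 := hc (s * t)
    rw [Subgroup.coe_mul, Matrix.SpecialLinearGroup.coe_mul, Matrix.map_mul, ← mul_assoc, hc,
      Matrix.smul_mul, mul_assoc (G := Matrix (Fin n) (Fin n) F), hc, Matrix.mul_smul, smul_smul,
      ← mul_assoc] at h1
    exact smul_left_injective F (by rw [mul_assoc]; exact fun h0 => hne (s * t) (by
      rw [Subgroup.coe_mul, Matrix.SpecialLinearGroup.coe_mul, mul_assoc]; exact h0)) h1.symm
  have hc1 : c 1 = 1 := by
    have h1 := hc 1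
    simp at h1
    by_contra h0
    exact N.ne_zero ((smul_eq_zero.1 (show (1 - c 1) • M = 0 by
      rw [sub_smul, one_smul, ← h1, sub_self])).resolve_left (sub_ne_zero.2 (Ne.symm h0)))
  let χ : Cfsg.SU n F q →* F := ⟨⟨c, hc1⟩, hmul⟩
  have hle : commutator ↥(Cfsg.SU n F q) ≤ χ.toHomUnits.ker := Abelianization.commutator_subset_ker _
  refine eq_scalar_of_intertwine hF hn N ρ fun s => ?_
  have : c s = 1 := congrArg Units.val (hle (by rw [commutator_SU hF hn hex]; exact Subgroup.mem_top s))
  rw [hc, this, one_smul]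

end CfsgLib.Known.AutPSU
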