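import Cfsg.Agent.Lib.Known.AutPSU.TransTheta

/-!
# Every automorphism of `PSU` is semilinear
-/

set_option autoImplicit false
set_option linter.style.haveILetI false
set_option linter.unusedSectionVars false

namespace CfsgLib.Known.AutPSU.Trans

open scoped Matrix
open CfsgLib.Classical

variable {n : ℕ} {F : Type*} [Field F] [Fintype F] {q : ℕ} {hF : Fintype.card F = q ^ 2}
variable {e f : Vec n F}

theorem bf_map (θ : F ≃+* F) (u v : Vec n F) :
    bf hF (fun i => θ (u i)) (fun i => θ (v i)) = θ (bf hF u v) := by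
  simp only [bf, Herm.hermStd_apply, Cfsg.hermForm, map_sum, map_mul, map_pow]

theorem cj_comm (θ : F ≃+* F) (a : F) : θ (cj hF a) = cj hF (θ a) := by
  simp only [cj, Herm.powHom_apply, map_pow]

/-- a semilinear isometry is given by a unitary matrix -/
theorem exists_gu_of_semilinear (θ : F ≃+* F) (G : Vec n F → Vec n F) (hadd : ∀ u v, G (u + v) = G u + G v)
    (hsmul : ∀ (a : F) u, G (a • u) = θ a • G u) (hiso : ∀ u v, bf hF (G u) (G v) = θ (bf hF u v)) :
    ∃ (g : GL (Fin n) F) (_ : g ∈ Cfsg.GU n F q),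
      ∀ y, (g : Matrix (Fin n) (Fin n) F) *ᵥ (fun i => θ (y i)) = G y := by
  let M : Vec n F →ₗ[F] Vec n F :=
    { toFun := fun y => G fun i => θ.symm (y i)
      map_add' := fun u v => by
        rw [← hadd]
        congr 1
        funext i
        exact map_add _ _ _
      map_smul' := fun a u => by
        show G (fun i => θ.symm ((a • u) i)) = a • G (fun i => θ.symm (u i))
        conv_rhs => rw [← θ.apply_symm_apply a, ← hsmul]
        congr 1
        funext i
        exact map_mul _ _ _ }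
  have hM : ∀ u v, bf hF (M u) (M v) = bf hF u v := fun u v => by
    show bf hF (G _) (G _) = _
    rw [hiso, ← bf_map]
    congr <;> funext i <;> exact θ.apply_symm_apply _
  let g := (Herm.guEquiv n hF).symm ((Herm.hermStd_isHerm hF).ofPreserves M hM)
  refine ⟨(g : GL (Fin n) F), g.2, fun y => ?_⟩
  rw [← Herm.guEquiv_apply hF g, MulEquiv.apply_symm_apply, Herm.IsHerm.ofPreserves_apply]
  show G _ = G y
  congr 1
  funext i
  exact θ.symm_apply_apply _

theorem act_suSemi (g : uGL n hF) (θ : F ≃+* F) (s : Cfsg.SU n F q) (y : Vec n F) :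
    act (suSemiHom hF g θ s) (((g : GL (Fin n) F) : Matrix (Fin n) (Fin n) F) *ᵥ fun i => θ (y i)) =
      ((g : GL (Fin n) F) : Matrix (Fin n) (Fin n) F) *ᵥ fun i => θ (act s y i) := by
  show (((g : GL (Fin n) F) : Matrix (Fin n) (Fin n) F) *
      ((s : Matrix.SpecialLinearGroup (Fin n) F) : Matrix (Fin n) (Fin n) F).map θ *
      (((g : GL (Fin n) F)⁻¹ : GL (Fin n) F) : Matrix (Fin n) (Fin n) F)) *ᵥ _ = _
  rw [← Matrix.mulVec_mulVec, Matrix.mulVec_mulVec _ _ ((g : GL (Fin n) F) : Matrix (Fin n) (Fin n) F), Units.inv_mul,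
    Matrix.one_mulVec, ← Matrix.mulVec_mulVec]
  congr 1
  funext i
  exact (RingHom.map_mulVec θ.toRingHom _ _ i).symm

/-- the action of a semilinear automorphism on transvections -/
theorem semi_T {g : uGL n hF} {θ : F ≃+* F} {G : Vec n F → Vec n F}
    (hG : ∀ y, ((g : GL (Fin n) F) : Matrix (Fin n) (Fin n) F) *ᵥ (fun i => θ (y i)) = G y)
    (hiso : ∀ u v, bf hF (G u) (G v) = θ (bf hF u v)) (hadd : ∀ u v, G (u + v) = G u + G v)
    (hsmul : ∀ (a : F) u, G (a • u) = θ a • G u) (hsurj : Function.Surjective G)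
    {v : Vec n F} {c : F} (hv : bf hF v v = 0) (hc : IsSk hF c) :
    uSemi hF g θ (T hF v c) = T hF (G v) (θ c) := by
  have hc' : IsSk hF (θ c) := by rw [IsSk, ← cj_comm θ, ← map_add, hc, map_zero]
  show uSemi hF g θ (QuotientGroup.mk (tv hF v c)) = _
  rw [uSemi_mk]
  show proj n F q (suSemiHom hF g θ (tv hF v c)) = T hF (G v) (θ c)
  rw [T]
  congr 1
  refine ext_act fun z => ?_
  obtain ⟨y, rfl⟩ := hsurj z
  rw [tv_act hF (by rw [hiso, hv, map_zero]) hc', hiso]
  have h1 := act_suSemi g θ (tv hF v c) y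
  rw [hG, tv_act hF hv hc, hG] at h1
  rw [h1, hadd, hsmul, map_mul]

variable {β : MulAut (Cfsg.PSU n F q)} {h k : F → F} {A A' : Vec n F → Vec n F} {Φ Φ' : Vec n F → F → F}

/-- the semilinear similitude on the complement -/
theorem exists_semi_coord (S : Side (hF := hF) β e f h A Φ) (S' : Side (hF := hF) β f e k A' Φ') :
    ∃ (θ : F ≃+* F) (μ : F) (x : Fin (n - 2) → Vec n F), μ ≠ 0 ∧ cj hF μ = μ ∧ (∀ i, InW hF e f (x i)) ∧
      (∀ i j, bf hF (x i) (x j) = if i = j then 1 else 0) ∧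
      (∀ y, y = bf hF f y • e + bf hF e y • f + ∑ i, bf hF (x i) y • x i) ∧
      (∀ i j, bf hF (A (x i)) (A (x j)) = if i = j then μ else 0) ∧
      (∀ y, InW hF e f y → A y = ∑ i, θ (bf hF (x i) y) • A (x i)) ∧
      (∀ c, IsSk hF c → h c = μ * θ c ∧ k c = θ c / μ) ∧
      (∀ y a, InW hF e f y → Adm hF y a → Φ y a = μ * θ a) := by
  have hn := S.hn
  obtain ⟨σ, h1, h2, h3, h4⟩ := exists_sigma S S'
  have hs : Sigma hF σ h k := ⟨h1, h2, h3, h4⟩
  obtain ⟨x, hx, hon, hsum⟩ := S.hyp.orthonormal (by omega)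
  have hxx : ∀ i, bf hF (x i) (x i) ≠ 0 := fun i => by simp [hon]
  choose θ hθσ hθcj hθA using fun i => exists_theta S S' hs (hx i) (hxx i)
  obtain ⟨t, ht⟩ := (Herm.powHom_isInvol hF).exists_trace_eq (μ := (-1 : F)) (by rw [map_neg, map_one])
  change t + cj hF t = -1 at ht
  have hdiag : ∀ i c, IsSk hF c → h c = bf hF (A (x i)) (A (x i)) * θ i c := fun i c hc => by
    have e1 := S.comm_rule (hx i) ((hx i).smul (c * t))
    rw [bf_smul_left, bf_smul_right, hθA, bf_smul_left, bf_smul_right, hon, if_pos rfl, mul_one, mul_one, ← hθcj] at e1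
    have e2 : cj hF (c * t) - c * t = c := by rw [map_mul, hc.map]; linear_combination (-c) * ht
    rw [e2, ← sub_mul, ← map_sub, e2] at e1
    rw [e1, mul_comm]
  have hoff : ∀ i j, i ≠ j → bf hF (A (x i)) (A (x j)) = 0 := fun i j hij => by
    have key : ∀ b, θ j b * bf hF (A (x i)) (A (x j)) = cj hF (θ j b) * bf hF (A (x j)) (A (x i)) := fun b => by
      have e1 := S.comm_rule (hx i) ((hx j).smul b)
      rw [bf_smul_left, bf_smul_right, hθA, bf_smul_left, bf_smul_right, hon, if_neg (Ne.symm hij), hon, if_neg hij,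
        mul_zero, mul_zero, sub_zero, S.h_zero] at e1
      linear_combination e1
    obtain ⟨b, hb⟩ := exists_not_fixed hF
    have e1 := key 1
    rw [map_one, map_one, one_mul, one_mul] at e1
    have e2 := key b
    rw [← e1, ← hθcj] at e2
    by_contra h0
    exact hb ((θ j).injective (mul_right_cancel₀ h0 e2).symm)
  obtain ⟨a, ha⟩ := (Herm.powHom_isInvol hF).exists_norm_eq (μ := (-1 : F)) (by rw [map_neg, map_one])
  change a * cj hF a = -1 at ha
  have heq : ∀ i j b, θ i b * bf hF (A (x i)) (A (x i)) = θ j b * bf hF (A (x j)) (A (x j)) := fun i j b => by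
    rcases eq_or_ne i j with rfl | hij
    · rfl
    have hu : InW hF e f (x i + a • x j) := (hx i).add ((hx j).smul a)
    have huu : bf hF (x i + a • x j) (x i + a • x j) = 0 := by
      simp only [bf_add_left, bf_add_right, bf_smul_left, bf_smul_right, hon, if_neg hij, if_neg hij.symm, if_true]
      linear_combination ha
    have hw : bf hF (x i + a • x j) (b • (x i + a • x j)) = 0 := by rw [bf_smul_right, huu, mul_zero]
    have hww : bf hF (b • (x i + a • x j)) (b • (x i + a • x j)) = 0 := by rw [bf_self_smul, huu, mul_zero]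
    have e1 := (iso_image S S' hu (hu.smul b) huu hww hw).2
    rw [S.A_add (hx i) ((hx j).smul a), hθA j, smul_add, smul_smul, S.A_add ((hx i).smul b) ((hx j).smul (b * a)),
      hθA i, hθA j] at e1
    simp only [bf_add_left, bf_add_right, bf_smul_left, bf_smul_right, hoff i j hij, hoff j i hij.symm] at e1
    have e2 : cj hF (θ j a) * θ j a = -1 := by rw [← hθcj, ← map_mul, mul_comm, ha, map_neg, map_one]
    rw [map_mul] at e1
    linear_combination e1 - (θ j b * bf hF (A (x j)) (A (x j))) * e2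
  let i₀ : Fin (n - 2) := ⟨0, by omega⟩
  obtain ⟨μ, hμ⟩ : ∃ μ, μ = bf hF (A (x i₀)) (A (x i₀)) := ⟨_, rfl⟩
  have hμi : ∀ i, bf hF (A (x i)) (A (x i)) = μ := fun i => by
    have := heq i i₀ 1
    rwa [map_one, map_one, one_mul, one_mul, ← hμ] at this
  obtain ⟨j, hj0, hj⟩ := exists_isSk hF
  have hμ0 : μ ≠ 0 := fun e0 => hj0 (S.h_eq_zero hj (by rw [hdiag i₀ j hj, ← hμ, e0, zero_mul]))
  have hθeq : ∀ i, θ i = θ i₀ := fun i => RingHom.ext fun b => by
    have := heq i i₀ b
    rw [hμi, ← hμ] at this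
    exact mul_right_cancel₀ hμ0 this
  have hμfix : cj hF μ = μ := by rw [hμ, bf_symm]
  let φ : F ≃+* F := RingEquiv.ofBijective (θ i₀) (Finite.injective_iff_bijective.1 (θ i₀).injective)
  have hφ : ∀ b, φ b = θ i₀ b := fun b => rfl
  have hlin : ∀ y, InW hF e f y → A y = ∑ i, φ (bf hF (x i) y) • A (x i) := fun y hy => by
    conv_lhs => rw [hsum y, hy.1, hy.2, zero_smul, zero_smul, zero_add, zero_add]
    rw [S.A_sum _ fun i _ => (hx i).smul _]
    exact Finset.sum_congr rfl fun i _ => by rw [hθA, hθeq, hφ]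
  have hh : ∀ c, IsSk hF c → h c = μ * φ c := fun c hc => by rw [hdiag i₀ c hc, ← hμ, hφ]
  have hk : ∀ c, IsSk hF c → k c = φ c / μ := fun c hc => by
    have e1 := (key S S' inW_zero ((adm_zero_iff hF).2 hj) hj0).2.2 c hc
    rw [S.Φ_zero_vec hj, hh _ (hc.mul_fixed hF (cj_nm hF j)), hh j hj] at e1
    rw [eq_div_iff hμ0]
    refine mul_left_cancel₀ (mul_ne_zero hμ0 (nm_ne_zero hF ((map_ne_zero φ).2 hj0))) ?_
    rw [nm, map_mul, map_mul, cj_comm φ, nm, map_mul, hμfix] at e1
    rw [nm]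
    linear_combination -e1
  refine ⟨φ, μ, x, hμ0, hμfix, hx, hon, hsum, fun i i' => ?_, hlin, fun c hc => ⟨hh c hc, hk c hc⟩,
    fun y b hy hb => ?_⟩
  · rcases eq_or_ne i i' with rfl | hii
    · rw [if_pos rfl, hμi]
    · rw [if_neg hii, hoff i i' hii]
  · rcases eq_or_ne (bf hF y y) 0 with hyy | hyy
    · have hb' : IsSk hF b := by
        rw [Adm, hyy, neg_zero] at hb
        exact hb
      have e1 := S.Φ_add_sk hy (adm_zero hF hyy) hb'
      rwa [zero_add, (iso_image S S' hy hy hyy hyy hyy).1, zero_add, hh b hb'] at e1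
    · have e1 := (A_quot S S' hs hj hj0 hy hb (hb.ne_zero hF hyy)).1
      have e2 : A ((cj hF b / j) • y) = φ (cj hF b / j) • A y := by
        rw [hlin _ (hy.smul _), hlin y hy, Finset.smul_sum]
        exact Finset.sum_congr rfl fun i _ => by rw [bf_smul_right, map_mul, smul_smul]
      rw [e2] at e1
      have e3 := smul_left_injective F (S.A_eq_zero hy hyy) e1
      simp only [map_div₀, hh j hj, cj_comm φ] at e3
      have e4 : cj hF (Φ y b) = μ * cj hF (φ b) := by
        have hφj : φ j ≠ 0 := (map_ne_zero φ).2 hj0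
        field_simp at e3
        linear_combination -e3
      have e5 := congrArg (cj hF) e4
      rwa [cj_cj, map_mul, cj_cj, hμfix] at e5

/-- every automorphism of `PSU` fixing two opposite points is semilinear -/
theorem exists_semi_of_sides (hex : n = 3 → q ≠ 2) (S : Side (hF := hF) β e f h A Φ)
    (S' : Side (hF := hF) β f e k A' Φ') :
    ∃ (g : GL (Fin n) F) (hg : g ∈ Cfsg.GU n F q) (θ : F ≃+* F), β = uSemi hF ⟨g, GU_le_uGL hF hg⟩ θ := by
  have H := S.hyp
  obtain ⟨θ, μ, x, hμ0, hμfix, hx, hon, hsum, honA, hlin, hhk, hΦ⟩ := exists_semi_coord S S'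
  obtain ⟨s, hs⟩ := (Herm.powHom_isInvol hF).exists_norm_eq (μ := μ) hμfix
  change s * cj hF s = μ at hs
  have hs0 : s ≠ 0 := fun e0 => hμ0 (by rw [← hs, e0, zero_mul])
  have hcs0 : cj hF s ≠ 0 := (map_ne_zero _).2 hs0
  obtain ⟨G, hG⟩ : ∃ G : Vec n F → Vec n F, ∀ y, G y = θ (bf hF f y) • (cj hF s • e) +
      θ (bf hF e y) • (s⁻¹ • f) + ∑ i, θ (bf hF (x i) y) • (s⁻¹ • A (x i)) := ⟨_, fun y => rfl⟩
  have hadd : ∀ u v, G (u + v) = G u + G v := fun u v => by
    simp only [hG, map_add, add_smul, Finset.sum_add_distrib]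
    abel
  have hsmul : ∀ (a : F) u, G (a • u) = θ a • G u := fun a u => by
    simp only [hG, bf_smul_right, map_mul, smul_add, Finset.smul_sum, smul_smul, mul_assoc]
  have hiso : ∀ u v, bf hF (G u) (G v) = θ (bf hF u v) := by
    intro u v
    have hA1 : ∀ i, bf hF e (A (x i)) = 0 := fun i => (S.memW _ (hx i)).1
    have hA2 : ∀ i, bf hF f (A (x i)) = 0 := fun i => (S.memW _ (hx i)).2
    have hA3 : ∀ i, bf hF (A (x i)) e = 0 := fun i => bf_eq_zero_comm hF (hA1 i)
    have hA4 : ∀ i, bf hF (A (x i)) f = 0 := fun i => bf_eq_zero_comm hF (hA2 i)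
    have hR : bf hF u v = cj hF (bf hF f u) * bf hF e v + cj hF (bf hF e u) * bf hF f v +
        ∑ i, cj hF (bf hF (x i) u) * bf hF (x i) v := by
      conv_lhs => rw [hsum u]
      simp only [bf_add_left, bf_smul_left, map_sum, LinearMap.sum_apply]
    rw [hR]
    simp only [hG, bf_add_left, bf_add_right, bf_smul_left, bf_smul_right, map_sum, LinearMap.sum_apply,
      LinearMap.add_apply, Finset.mul_sum, H.ee, H.ff, H.ef, H.fe, hA1, hA2, hA3, hA4, honA, map_add, map_mul, cj_comm θ,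
      mul_zero, Finset.sum_const_zero, add_zero, zero_add, mul_one, mul_ite, Finset.sum_ite_eq',
      Finset.mem_univ, if_true, map_inv₀, cj_cj]
    congr 1
    · field_simp
      ring
    · refine Finset.sum_congr rfl fun i _ => ?_
      rw [← hs]
      field_simp
  obtain ⟨g, hg, hgG⟩ := exists_gu_of_semilinear θ G hadd hsmul hiso
  refine ⟨g, hg, θ, ?_⟩
  have hsurj : Function.Surjective G := fun z => ⟨fun i => θ.symm (((↑g⁻¹ : Matrix (Fin n) (Fin n) F) *ᵥ z) i), by
    rw [← hgG]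
    simp only [θ.apply_symm_apply, Matrix.mulVec_mulVec, Units.mul_inv, Matrix.one_mulVec]⟩
  set γ := uSemi hF ⟨g, GU_le_uGL hF hg⟩ θ with hγ
  have hγT : ∀ {v : Vec n F} {c : F}, bf hF v v = 0 → IsSk hF c → γ (T hF v c) = T hF (G v) (θ c) :=
    fun hv hc => semi_T (g := ⟨g, GU_le_uGL hF hg⟩) hgG hiso hadd hsmul hsurj hv hc
  have hθsk : ∀ c, IsSk hF c → IsSk hF (θ c) := fun c hc => by rw [IsSk, ← cj_comm θ, ← map_add, hc, map_zero]
  have hW0 : ∀ y, InW hF e f y → G y = s⁻¹ • A y := fun y hy => by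
    rw [hG, hy.1, hy.2, map_zero, zero_smul, zero_smul, zero_add, zero_add, hlin y hy, Finset.smul_sum]
    exact Finset.sum_congr rfl fun i _ => smul_comm _ _ _
  have hGe : G e = cj hF s • e := by
    rw [hG, H.fe, H.ee, map_one, one_smul, map_zero, zero_smul, add_zero, Finset.sum_eq_zero, add_zero]
    intro i _
    rw [bf_eq_zero_comm hF (hx i).1, map_zero, zero_smul]
  have hGf : G f = s⁻¹ • f := by
    rw [hG, H.ff, H.ef, map_one, one_smul, map_zero, zero_smul, zero_add, Finset.sum_eq_zero, add_zero]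
    intro i _
    rw [bf_eq_zero_comm hF (hx i).2, map_zero, zero_smul]
  have hTe : ∀ c, IsSk hF c → β (T hF e c) = γ (T hF e c) := fun c hc => by
    rw [hγT H.ee hc, hGe, T_smul hF _ H.ee (hθsk c hc), S.hT c hc, (hhk c hc).1, nm, cj_cj, mul_comm (cj hF s), hs]
  have hTf : ∀ c, IsSk hF c → β (T hF f c) = γ (T hF f c) := fun c hc => by
    rw [hγT H.ff hc, hGf, T_smul hF _ H.ff (hθsk c hc), S'.hT c hc, (hhk c hc).2, nm, map_inv₀, ← mul_inv, hs]
    rw [div_eq_inv_mul]
  have hel : ∀ y a, InW hF e f y → Adm hF y a → β (proj n F q (el hF e y a)) = γ (proj n F q (el hF e y a)) := by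
    intro y a hy ha
    rw [S.hel y a hy ha]
    show _ = uSemi hF ⟨g, GU_le_uGL hF hg⟩ θ (QuotientGroup.mk (el hF e y a))
    rw [uSemi_mk]
    show _ = proj n F q (suSemiHom hF ⟨g, GU_le_uGL hF hg⟩ θ (el hF e y a))
    congr 1
    have hact : ∀ z, act (suSemiHom hF ⟨g, GU_le_uGL hF hg⟩ θ (el hF e y a)) (G z) = G (act (el hF e y a) z) :=
      fun z => by
        have := act_suSemi ⟨g, GU_le_uGL hF hg⟩ θ (el hF e y a) z
        rwa [hgG, hgG] at this
    refine rad_eq H (el_mem hF) ⟨?_, fun z hz => ?_⟩ ?_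
    · have := hact e
      rw [(el_mem hF).1, hGe, act_smul] at this
      exact smul_right_injective _ hcs0 this
    · obtain ⟨w, rfl⟩ := hsurj z
      have hw : bf hF e w = 0 := by
        have h1 : bf hF (G e) (G w) = 0 := by rw [hGe, bf_smul_left, hz, mul_zero]
        rw [hiso] at h1
        exact (map_eq_zero_iff θ θ.injective).1 h1
      obtain ⟨l, hl⟩ := (el_mem hF (x := y) (a := a)).2 w hw
      exact ⟨θ l * cj hF s, by rw [hact, hl, hadd, hsmul, hGe, smul_smul]⟩
    · have h1 := hact f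
      rw [el_act_f H hy ha, hadd, hadd, hsmul, hGf, hGe, hW0 y hy, act_smul] at h1
      have h2 : act (suSemiHom hF ⟨g, GU_le_uGL hF hg⟩ θ (el hF e y a)) f = f + A y + (μ * θ a) • e := by
        have h3 := congrArg (fun v => s • v) h1
        simp only [smul_add, smul_smul, mul_inv_cancel₀ hs0, one_smul] at h3
        rw [h3, ← hs]
        congr 2
        ring
      rw [h2, el_act_f H (S.memW y hy) (S.adm y a hy ha), hΦ y a hy ha]
  -- transvections with centre not orthogonal to `e`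
  have hgen : ∀ v, bf hF v v = 0 → bf hF e v ≠ 0 → ∀ c, IsSk hF c → β (T hF v c) = γ (T hF v c) := by
    intro v hv hev c hc
    set w := (bf hF e v)⁻¹ • v with hw
    have hww : bf hF w w = 0 := by rw [bf_self_smul, hv, mul_zero]
    have hew : bf hF e w = 1 := by rw [bf_smul_right, inv_mul_cancel₀ hev]
    have hy : InW hF e f (w - f - bf hF f w • e) := by
      constructor <;> simp [map_sub, bf_smul_right, H.ee, H.ff, H.ef, H.fe, hew]
    have hwf : w = f + (w - f - bf hF f w • e) + bf hF f w • e := by abel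
    have ha : Adm hF (w - f - bf hF f w • e) (bf hF f w) := by
      have h1 := hww
      rw [hwf] at h1
      simp only [bf_add_left, bf_add_right, bf_smul_left, bf_smul_right, H.ee, H.ff, H.ef, H.fe, hy.1, hy.2,
        bf_eq_zero_comm hF hy.1, bf_eq_zero_comm hF hy.2] at h1
      rw [Adm]
      linear_combination h1
    have hv' : v = bf hF e v • w := by rw [smul_smul, mul_inv_cancel₀ hev, one_smul]
    rw [hv', T_smul hF _ hww hc, hwf, ← el_act_f H hy ha, ← conj_T hF H.ff (hc.mul_fixed hF (cj_nm hF _))]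
    simp only [map_mul, map_inv, hel _ _ hy ha, hTf _ (hc.mul_fixed hF (cj_nm hF _))]
  have step : ∀ v c z, bf hF v v = 0 → IsSk hF c → β (proj n F q z) = γ (proj n F q z) →
      β (T hF (act z v) c) = γ (T hF (act z v) c) → β (T hF v c) = γ (T hF v c) := by
    intro v c z hv hc hz hzv
    rw [← conj_T hF hv hc] at hzv
    simp only [map_mul, map_inv, hz] at hzv
    exact mul_left_cancel (mul_right_cancel hzv)
  obtain ⟨j, hj0, hj⟩ := exists_isSk hF
  refine psu_hom_ext hF S.hn hex fun v c hv hc => ?_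
  rcases eq_or_ne v 0 with rfl | hv0
  · rw [T_zero_vec, map_one, map_one]
  by_cases hev : bf hF e v = 0
  swap
  · exact hgen v hv hev c hc
  have hmove : ∀ u, bf hF u u = 0 → bf hF e u = 0 → bf hF f u ≠ 0 → β (T hF u c) = γ (T hF u c) := by
    intro u hu heu hfu
    refine step u c (tv hF f j) hu hc (hTf j hj) (hgen _ (by rw [bf_act, hu]) ?_ c hc)
    rw [tv_act hF H.ff hj, bf_add_right, bf_smul_right, heu, H.ef, zero_add, mul_one]
    exact mul_ne_zero hj0 hfu
  by_cases hfv : bf hF f v = 0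
  swap
  · exact hmove v hv hev hfv
  obtain ⟨y, hy, hyv⟩ : ∃ y, InW hF e f y ∧ bf hF y v ≠ 0 := by
    by_contra hc'
    push Not at hc'
    exact hv0 (H.eq_zero (by have := S.hn; omega) ⟨hev, hfv⟩ fun y hy => bf_eq_zero_comm hF (hc' y hy))
  obtain ⟨a, ha⟩ : ∃ a, Adm hF y a := exists_trace hF y
  refine step v c (el hF e y a) hv hc (hel y a hy ha) (hmove _ (by rw [bf_act, hv]) ?_ ?_)
  · rw [el_act H hy ha, hev, zero_smul, add_zero, mul_zero, zero_sub, bf_add_right, bf_smul_right, hev, H.ee]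
    simp
  · rw [el_act H hy ha, hev, zero_smul, add_zero, mul_zero, zero_sub, bf_add_right, bf_smul_right, hfv, H.fe,
      zero_add, mul_one]
    exact neg_ne_zero.2 hyv

/-- `Aut PSU = PΓU` -/
theorem exists_eq_uSemi (hn : 3 ≤ n) (hex : n = 3 → q ≠ 2) (β : MulAut (Cfsg.PSU n F q)) :
    ∃ (g : GL (Fin n) F) (hg : g ∈ Cfsg.GU n F q) (θ : F ≃+* F), β = uSemi hF ⟨g, GU_le_uGL hF hg⟩ θ := by
  obtain ⟨e, he0, he⟩ := (Herm.hermStd_isHerm (n := n) hF).exists_isotropic (by rw [Herm.finrank_std]; omega)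
  obtain ⟨f, hef, hff⟩ := (Herm.hermStd_isHerm hF).exists_isotropic_partner he0 he
  have H : Hyp hF e f := ⟨he, hff, hef⟩
  obtain ⟨w, hw0, hw, hwT⟩ := exists_point hF hn β he he0
  obtain ⟨w', hw'0, hw', hw'T⟩ := exists_point hF hn β hff H.swap.ne_zero
  obtain ⟨j, hj0, hj⟩ := exists_isSk hF
  obtain ⟨d, hd, hwd⟩ := hwT j hj
  obtain ⟨d', hd', hwd'⟩ := hw'T j hj
  have hd0 : d ≠ 0 := fun e0 => T_ne_one hF hn he hj he0 hj0 (β.injective (by rw [hwd, e0, T_zero, map_one]))
  have hd'0 : d' ≠ 0 := fun e0 =>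
    T_ne_one hF hn hff hj H.swap.ne_zero hj0 (β.injective (by rw [hwd', e0, T_zero, map_one]))
  have hww' : bf hF w w' ≠ 0 := fun h0 => by
    have h1 := ((T_commute_iff hF hn hw hw' hd hd' hw0 hw'0 hd0 hd'0).2 h0).map β.symm.toMonoidHom
    simp only [MulEquiv.coe_toMonoidHom, ← hwd, ← hwd', MulEquiv.symm_apply_apply] at h1
    have h2 := (T_commute_iff hF hn he hff hj hj he0 H.swap.ne_zero hj0 hj0).1 h1
    rw [H.ef] at h2
    exact one_ne_zero h2
  obtain ⟨t, hte, htf⟩ := exists_act_pair hF hn hw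
    (show bf hF ((bf hF w w')⁻¹ • w') ((bf hF w w')⁻¹ • w') = 0 by rw [bf_self_smul, hw', mul_zero])
    (show bf hF w ((bf hF w w')⁻¹ • w') = 1 by rw [bf_smul_right, inv_mul_cancel₀ hww']) he hff H.ef
  set β' := MulAut.conj (proj n F q t) * β with hβ'
  have he' : ∀ c, IsSk hF c → ∃ d, IsSk hF d ∧ β' (T hF e c) = T hF e d := fun c hc => by
    obtain ⟨d, hd, h1⟩ := hwT c hc
    exact ⟨d, hd, by rw [hβ', MulAut.mul_apply, h1, MulAut.conj_apply, conj_T hF hw hd, hte]⟩
  have hf' : ∀ c, IsSk hF c → ∃ d, IsSk hF d ∧ β' (T hF f c) = T hF f d := fun c hc => by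
    obtain ⟨d, hd, h1⟩ := hw'T c hc
    refine ⟨nm hF (bf hF w w') * d, hd.mul_fixed hF (cj_nm hF _), ?_⟩
    rw [hβ', MulAut.mul_apply, h1, MulAut.conj_apply, conj_T hF hw' hd, show act t w' = bf hF w w' • f by
      rw [← htf, ← act_smul, smul_smul, mul_inv_cancel₀ hww', one_smul], T_smul hF _ hff hd]
  obtain ⟨h, A, Φ, S⟩ := exists_side hn β' H he'
  obtain ⟨k, A', Φ', S'⟩ := exists_side hn β' H.swap hf'
  obtain ⟨g, hg, θ, hγ⟩ := exists_semi_of_sides hex S S'
  have ht : Matrix.SpecialLinearGroup.toGL (t⁻¹ : Cfsg.SU n F q).1 ∈ Cfsg.GU n F q := Herm.toGL_mem_GU _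
  refine ⟨Matrix.SpecialLinearGroup.toGL (t⁻¹ : Cfsg.SU n F q).1 * g, (Cfsg.GU n F q).mul_mem ht hg, θ, ?_⟩
  have hconj : MulAut.conj (proj n F q t⁻¹) = uSemi hF ⟨_, GU_le_uGL hF ht⟩ (RingEquiv.refl F) :=
    psu_ext fun s => by
      rw [uSemi_mk, MulAut.conj_apply]
      show proj n F q t⁻¹ * proj n F q s * (proj n F q t⁻¹)⁻¹ = proj n F q _
      rw [← map_inv, ← map_mul, ← map_mul]
      rfl
  rw [← inv_mul_cancel_left (MulAut.conj (proj n F q t)) β, ← hβ', hγ, ← map_inv, ← map_inv, hconj, uSemi_mul]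
  rfl

end CfsgLib.Known.AutPSU.Trans
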