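import Cfsg.Agent.Lib.Known.AutPSU.Faithful

/-!
# Semilinear automorphisms of `PSU` and the projective unitary similitudes
-/

set_option autoImplicit false
set_option linter.unusedSectionVars false

open Matrix

namespace CfsgLib.Known.AutPSU

open CfsgLib.Classical
open CfsgLib.Known.AutPSL (glMap glIota slConjHom coe_glMap slConjHom_slConjHom slConjHom_one)

variable {n : ℕ} {F : Type*} [Field F]

/-- The projective general linear group as a quotient by the scalars. -/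
abbrev PG (n : ℕ) (F : Type*) [Field F] : Type _ := GL (Fin n) F ⧸ Cfsg.Geo.scalars (Fin n) F

/-- The projection. -/
abbrev pr (n : ℕ) (F : Type*) [Field F] : GL (Fin n) F →* PG n F :=
  QuotientGroup.mk' (Cfsg.Geo.scalars (Fin n) F)

theorem pr_eq_iff (g h : GL (Fin n) F) : pr n F g = pr n F h ↔
    ∃ c : Fˣ, (h : Matrix (Fin n) (Fin n) F) = (c : F) • (g : Matrix (Fin n) (Fin n) F) := by
  show (QuotientGroup.mk g : PG n F) = QuotientGroup.mk h ↔ _
  rw [QuotientGroup.eq, Cfsg.Geo.mem_scalars_iff]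
  refine exists_congr fun c => ⟨fun hc => ?_, fun hc => ?_⟩
  · have := congrArg (fun X => (g : Matrix (Fin n) (Fin n) F) * X) hc
    simpa [← mul_assoc] using this
  · rw [Units.val_mul, hc, Matrix.mul_smul, Units.inv_mul]

theorem pr_eq_one_iff (g : GL (Fin n) F) : pr n F g = 1 ↔
    ∃ c : Fˣ, (g : Matrix (Fin n) (Fin n) F) = (c : F) • 1 :=
  (QuotientGroup.eq_one_iff g).trans (Cfsg.Geo.mem_scalars_iff g)

theorem pr_surjective : Function.Surjective (pr n F) := QuotientGroup.mk'_surjective _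

theorem glIota_glIota' (g : GL (Fin n) F) : glIota (glIota g) = g := by
  ext1
  show ((g : Matrix (Fin n) (Fin n) F)ᵀ)ᵀ = _
  rw [transpose_transpose]

/-- The inverse transpose as a homomorphism. -/
noncomputable def gInv : GL (Fin n) F →* GL (Fin n) F := MonoidHom.mk' glIota fun g h => by
  ext1
  show (((g * h)⁻¹ : GL (Fin n) F) : Matrix (Fin n) (Fin n) F)ᵀ = _ᵀ * _ᵀ
  rw [_root_.mul_inv_rev, Units.val_mul, transpose_mul]

theorem gInv_apply (g : GL (Fin n) F) : gInv g = glIota g := rfl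

theorem glMap_comm_gInv (ρ : F ≃+* F) (g : GL (Fin n) F) :
    glMap ρ (glIota g) = glIota (glMap ρ g) := by
  ext1
  show (((g⁻¹ : GL (Fin n) F) : Matrix (Fin n) (Fin n) F)ᵀ).map ρ =
    (((glMap ρ g)⁻¹ : GL (Fin n) F) : Matrix (Fin n) (Fin n) F)ᵀ
  rw [← map_inv, coe_glMap, Matrix.transpose_map]

theorem scalars_le_comap_gInv :
    Cfsg.Geo.scalars (Fin n) F ≤ (Cfsg.Geo.scalars (Fin n) F).comap gInv := by
  intro g hg
  obtain ⟨c, hc⟩ := (Cfsg.Geo.mem_scalars_iff g).1 hg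
  rw [Subgroup.mem_comap, Cfsg.Geo.mem_scalars_iff]
  refine ⟨c⁻¹, ?_⟩
  have : ((g⁻¹ : GL (Fin n) F) : Matrix (Fin n) (Fin n) F) = ((c⁻¹ : Fˣ) : F) • 1 := by
    refine Units.inv_eq_of_mul_eq_one_right ?_
    rw [hc, Matrix.smul_mul, Matrix.mul_smul, smul_smul, Units.mul_inv, one_smul, one_mul]
  show ((g⁻¹ : GL (Fin n) F) : Matrix (Fin n) (Fin n) F)ᵀ = _
  rw [this, transpose_smul, transpose_one]

theorem scalars_le_comap_glMap (ρ : F ≃+* F) :
    Cfsg.Geo.scalars (Fin n) F ≤ (Cfsg.Geo.scalars (Fin n) F).comap (glMap ρ) := by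
  intro g hg
  obtain ⟨c, hc⟩ := (Cfsg.Geo.mem_scalars_iff g).1 hg
  rw [Subgroup.mem_comap, Cfsg.Geo.mem_scalars_iff]
  refine ⟨Units.map (ρ : F →* F) c, ?_⟩
  rw [coe_glMap, hc]
  ext i j
  by_cases hij : i = j <;> simp [hij]

/-- The inverse transpose on `PG`. -/
noncomputable def pInv : PG n F →* PG n F :=
  QuotientGroup.map _ _ gInv scalars_le_comap_gInv

/-- A field automorphism on `PG`. -/
noncomputable def pMap (ρ : F ≃+* F) : PG n F →* PG n F :=
  QuotientGroup.map _ _ (glMap ρ) (scalars_le_comap_glMap ρ)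

@[simp] theorem pInv_pr (g : GL (Fin n) F) : pInv (pr n F g) = pr n F (glIota g) := rfl

@[simp] theorem pMap_pr (ρ : F ≃+* F) (g : GL (Fin n) F) :
    pMap ρ (pr n F g) = pr n F (glMap ρ g) := rfl

theorem pInv_pInv (x : PG n F) : pInv (pInv x) = x := by
  obtain ⟨g, rfl⟩ := pr_surjective x
  rw [pInv_pr, pInv_pr, glIota_glIota']

theorem pMap_pInv (ρ : F ≃+* F) (x : PG n F) : pMap ρ (pInv x) = pInv (pMap ρ x) := by
  obtain ⟨g, rfl⟩ := pr_surjective x
  rw [pInv_pr, pMap_pr, pMap_pr, pInv_pr, glMap_comm_gInv]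

theorem glMap_glMap_comm (ρ ρ' : F ≃+* F) (h : ∀ a, ρ (ρ' a) = ρ' (ρ a)) (g : GL (Fin n) F) :
    glMap ρ (glMap ρ' g) = glMap ρ' (glMap ρ g) :=
  Units.ext (Matrix.ext fun i j => h _)

variable [Fintype F] {q : ℕ}

theorem pMap_frob_frob (hF : Fintype.card F = q ^ 2) (x : PG n F) :
    pMap (frob hF) (pMap (frob hF) x) = x := by
  obtain ⟨g, rfl⟩ := pr_surjective x
  rw [pMap_pr, pMap_pr]
  congr 1
  exact Units.ext (Matrix.ext fun i j => frob_frob hF _)

theorem frob_comm (hF : Fintype.card F = q ^ 2) (ρ : F ≃+* F) (a : F) :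
    frob hF (ρ a) = ρ (frob hF a) := by
  rw [frob_apply, frob_apply, map_pow]

/-- The projective unitary similitudes. -/
noncomputable def uP (n : ℕ) (hF : Fintype.card F = q ^ 2) : Subgroup (PG n F) :=
  MonoidHom.eqLocus (pMap (n := n) (frob hF)) pInv

/-- The unitary similitudes. -/
noncomputable def uGL (n : ℕ) (hF : Fintype.card F = q ^ 2) : Subgroup (GL (Fin n) F) :=
  (uP n hF).comap (pr n F)

theorem mem_uP_iff (hF : Fintype.card F = q ^ 2) (x : PG n F) :
    x ∈ uP n hF ↔ pMap (frob hF) x = pInv x := Iff.rfl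

theorem mem_GU_iff (hF : Fintype.card F = q ^ 2) (g : GL (Fin n) F) :
    g ∈ Cfsg.GU n F q ↔ glMap (frob hF) g = glIota g := by
  rw [AutPSL.mem_GU_iff' (frob hF) (frob_apply hF)]
  constructor
  · intro h
    have h' : (g : Matrix (Fin n) (Fin n) F)⁻¹ = ((g : Matrix (Fin n) (Fin n) F).map (frob hF))ᵀ :=
      Matrix.inv_eq_right_inv h
    ext1
    show (g : Matrix (Fin n) (Fin n) F).map (frob hF) =
      ((g⁻¹ : GL (Fin n) F) : Matrix (Fin n) (Fin n) F)ᵀ
    rw [Matrix.coe_units_inv, h', transpose_transpose]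
  · intro h
    have h' : (g : Matrix (Fin n) (Fin n) F).map (frob hF) =
        ((g⁻¹ : GL (Fin n) F) : Matrix (Fin n) (Fin n) F)ᵀ := congrArg Units.val h
    rw [h', transpose_transpose, Units.mul_inv]

theorem GU_le_uGL (hF : Fintype.card F = q ^ 2) : Cfsg.GU n F q ≤ uGL n hF := fun g hg => by
  show pMap (frob hF) (pr n F g) = pInv (pr n F g)
  rw [pMap_pr, pInv_pr, (mem_GU_iff hF g).1 hg]

theorem mem_uGL_iff (hF : Fintype.card F = q ^ 2) (g : GL (Fin n) F) :
    g ∈ uGL n hF ↔ ∃ c : Fˣ, (glMap (frob hF) g : Matrix (Fin n) (Fin n) F) =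
      (c : F) • (glIota g : Matrix (Fin n) (Fin n) F) := by
  show pMap (frob hF) (pr n F g) = pInv (pr n F g) ↔ _
  rw [pMap_pr, pInv_pr, eq_comm, pr_eq_iff]

theorem toGL_slConjHom (g : GL (Fin n) F) (ρ : F ≃+* F) (s : Matrix.SpecialLinearGroup (Fin n) F) :
    Matrix.SpecialLinearGroup.toGL (slConjHom g ρ s) =
      g * glMap ρ (Matrix.SpecialLinearGroup.toGL s) * g⁻¹ :=
  Units.ext rfl

theorem slConj_mem_SU (hF : Fintype.card F = q ^ 2) {g : GL (Fin n) F} (hg : g ∈ uGL n hF)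
    (ρ : F ≃+* F) {s : Matrix.SpecialLinearGroup (Fin n) F} (hs : s ∈ Cfsg.SU n F q) :
    slConjHom g ρ s ∈ Cfsg.SU n F q := by
  set x := Matrix.SpecialLinearGroup.toGL s
  have hx : glMap (frob hF) x = glIota x := (mem_GU_iff hF x).1 hs
  show Matrix.SpecialLinearGroup.toGL (slConjHom g ρ s) ∈ Cfsg.GU n F q
  rw [mem_GU_iff hF, toGL_slConjHom]
  obtain ⟨c, hc⟩ := (mem_uGL_iff hF g).1 hg
  have hc' : glMap (frob hF) g = GeneralLinearGroup.scalar (Fin n) c * glIota g := by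
    ext1
    rw [hc]
    ext i j
    simp
  have hcomm : ∀ y : GL (Fin n) F, GeneralLinearGroup.scalar (Fin n) c * y *
      (GeneralLinearGroup.scalar (Fin n) c)⁻¹ = y := fun y => by
    rw [mul_inv_eq_iff_eq_mul]
    ext1
    ext i j
    simp [mul_comm]
  rw [← gInv_apply, map_mul, map_mul, map_inv, map_mul, map_mul, map_inv, gInv_apply, gInv_apply,
    hc', glMap_glMap_comm _ _ (frob_comm hF ρ), hx, glMap_comm_gInv, _root_.mul_inv_rev]
  calc _ = GeneralLinearGroup.scalar (Fin n) c * (glIota g * glIota (glMap ρ x) * (glIota g)⁻¹) *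
        (GeneralLinearGroup.scalar (Fin n) c)⁻¹ := by group
    _ = _ := hcomm _

/-- Semilinear conjugation of `SU`. -/
noncomputable def suSemiHom (hF : Fintype.card F = q ^ 2) (g : uGL n hF) (ρ : F ≃+* F) :
    Cfsg.SU n F q →* Cfsg.SU n F q :=
  ((slConjHom (g : GL (Fin n) F) ρ).comp (Cfsg.SU n F q).subtype).codRestrict _ fun s =>
    slConj_mem_SU hF g.2 ρ s.2

theorem glMap_mem_uGL (hF : Fintype.card F = q ^ 2) (ρ : F ≃+* F) {g : GL (Fin n) F}
    (hg : g ∈ uGL n hF) : glMap ρ g ∈ uGL n hF := by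
  show pMap (frob hF) (pr n F (glMap ρ g)) = pInv (pr n F (glMap ρ g))
  rw [pMap_pr, glMap_glMap_comm _ _ (frob_comm hF ρ), ← pMap_pr, ← pMap_pr,
    show pMap (frob hF) (pr n F g) = pInv (pr n F g) from hg, pMap_pInv, pMap_pr]

/-- The field action on the unitary similitudes. -/
noncomputable def uMap (hF : Fintype.card F = q ^ 2) (ρ : F ≃+* F) : uGL n hF →* uGL n hF :=
  ((glMap ρ).comp (uGL n hF).subtype).codRestrict _ fun g => glMap_mem_uGL hF ρ g.2

@[simp] theorem coe_uMap (hF : Fintype.card F = q ^ 2) (ρ : F ≃+* F) (g : uGL n hF) :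
    (uMap hF ρ g : GL (Fin n) F) = glMap ρ g := rfl

theorem suSemiHom_comp (hF : Fintype.card F = q ^ 2) (g h : uGL n hF) (ρ ρ' : F ≃+* F)
    (s : Cfsg.SU n F q) :
    suSemiHom hF g ρ (suSemiHom hF h ρ' s) = suSemiHom hF (g * uMap hF ρ h) (ρ'.trans ρ) s :=
  Subtype.ext (slConjHom_slConjHom _ _ _ _ _)

theorem suSemiHom_one (hF : Fintype.card F = q ^ 2) (s : Cfsg.SU n F q) :
    suSemiHom hF 1 (RingEquiv.refl F) s = s :=
  Subtype.ext (slConjHom_one _)

/-- Semilinear conjugation of `SU` as an automorphism. -/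
noncomputable def suSemi (hF : Fintype.card F = q ^ 2) (g : uGL n hF) (ρ : F ≃+* F) :
    MulAut (Cfsg.SU n F q) where
  toFun := suSemiHom hF g ρ
  invFun := suSemiHom hF (uMap hF ρ.symm g⁻¹) ρ.symm
  left_inv s := by
    rw [suSemiHom_comp, ← map_mul, inv_mul_cancel, map_one, RingEquiv.self_trans_symm, suSemiHom_one]
  right_inv s := by
    rw [suSemiHom_comp, show uMap hF ρ (uMap hF ρ.symm g⁻¹) = g⁻¹ from
      Subtype.ext (Units.ext (Matrix.ext fun i j => ρ.apply_symm_apply _)), mul_inv_cancel, RingEquiv.symm_trans_self, suSemiHom_one]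
  map_mul' := map_mul _

/-- The automorphism of `PSU` induced by a semilinear similitude. -/
noncomputable def uSemi (hF : Fintype.card F = q ^ 2) (g : uGL n hF) (ρ : F ≃+* F) :
    MulAut (Cfsg.PSU n F q) :=
  QuotientGroup.congr _ _ (suSemi hF g ρ) (AutPSL.map_center_eq _)

theorem uSemi_mk (hF : Fintype.card F = q ^ 2) (g : uGL n hF) (ρ : F ≃+* F) (s : Cfsg.SU n F q) :
    uSemi hF g ρ (QuotientGroup.mk s) = QuotientGroup.mk (suSemiHom hF g ρ s) := rfl

theorem psu_ext {α β : MulAut (Cfsg.PSU n F q)}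
    (h : ∀ s : Cfsg.SU n F q, α (QuotientGroup.mk s) = β (QuotientGroup.mk s)) : α = β :=
  MulEquiv.ext fun x => by
    obtain ⟨s, rfl⟩ := QuotientGroup.mk'_surjective _ x
    exact h s

theorem uSemi_mul (hF : Fintype.card F = q ^ 2) (g h : uGL n hF) (ρ ρ' : F ≃+* F) :
    uSemi hF g ρ * uSemi hF h ρ' = uSemi hF (g * uMap hF ρ h) (ρ'.trans ρ) :=
  psu_ext fun s => by rw [MulAut.mul_apply, uSemi_mk, uSemi_mk, uSemi_mk, suSemiHom_comp]

theorem uSemi_one (hF : Fintype.card F = q ^ 2) :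
    uSemi hF (1 : uGL n hF) (RingEquiv.refl F) = 1 :=
  psu_ext fun s => by rw [uSemi_mk, suSemiHom_one, MulAut.one_apply]

theorem scalar_of_mem_center (hF : Fintype.card F = q ^ 2) (hn : 3 ≤ n) (z : Cfsg.SU n F q)
    (hz : z ∈ Subgroup.center (Cfsg.SU n F q)) :
    ∃ c : Fˣ, ((z : Matrix.SpecialLinearGroup (Fin n) F) : Matrix (Fin n) (Fin n) F) = (c : F) • 1 :=
  (eq_scalar_of_intertwine hF hn
    (Matrix.SpecialLinearGroup.toGL (z : Matrix.SpecialLinearGroup (Fin n) F)) (RingEquiv.refl F)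
    fun s => by
      have h := congrArg (fun x : Cfsg.SU n F q => ((x : Matrix.SpecialLinearGroup (Fin n) F) :
        Matrix (Fin n) (Fin n) F)) (Subgroup.mem_center_iff.1 hz s)
      simp only [Subgroup.coe_mul, Matrix.SpecialLinearGroup.coe_mul] at h
      simpa using h.symm).2

theorem uSemi_eq_one_iff (hF : Fintype.card F = q ^ 2) (hn : 3 ≤ n) (hex : n = 3 → q ≠ 2)
    (g : uGL n hF) (ρ : F ≃+* F) :
    uSemi hF g ρ = 1 ↔ ρ = RingEquiv.refl F ∧ pr n F (g : GL (Fin n) F) = 1 := by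
  constructor
  · intro h
    obtain ⟨hρ, hc⟩ := eq_scalar_of_intertwine_projective hF hn hex (g : GL (Fin n) F) ρ fun s => by
      have h1 : (QuotientGroup.mk (suSemiHom hF g ρ s) : Cfsg.PSU n F q) = QuotientGroup.mk s := by
        rw [← uSemi_mk, h, MulAut.one_apply]
      rw [eq_comm, QuotientGroup.eq] at h1
      obtain ⟨c, hc⟩ := scalar_of_mem_center hF hn _ h1
      refine ⟨c, ?_⟩
      set S := ((s : Matrix.SpecialLinearGroup (Fin n) F) : Matrix (Fin n) (Fin n) F)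
      set T := ((suSemiHom hF g ρ s : Matrix.SpecialLinearGroup (Fin n) F) : Matrix (Fin n) (Fin n) F)
      have hT : T = (c : F) • S := by
        have h2 := congrArg (fun X => S * X) hc
        simp only [Subgroup.coe_mul, Matrix.SpecialLinearGroup.coe_mul, Matrix.mul_smul, mul_one,
          ← mul_assoc] at h2
        rw [← h2]
        show T = ((s * s⁻¹ * suSemiHom hF g ρ s : Cfsg.SU n F q) : Matrix.SpecialLinearGroup (Fin n) F).1
        rw [mul_inv_cancel, one_mul]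
      have hT' : T = ((g : GL (Fin n) F) : Matrix (Fin n) (Fin n) F) * S.map ρ *
          (((g : GL (Fin n) F)⁻¹ : GL (Fin n) F) : Matrix (Fin n) (Fin n) F) := rfl
      have h3 := congrArg (fun X => X * ((g : GL (Fin n) F) : Matrix (Fin n) (Fin n) F))
        (hT'.symm.trans hT)
      simpa [mul_assoc] using h3
    exact ⟨hρ, (pr_eq_one_iff _).2 hc⟩
  · rintro ⟨rfl, h⟩
    obtain ⟨c, hc⟩ := (pr_eq_one_iff _).1 h
    refine psu_ext fun s => ?_
    rw [uSemi_mk, MulAut.one_apply]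
    congr 1
    refine Subtype.ext (Subtype.ext ?_)
    show ((g : GL (Fin n) F) : Matrix (Fin n) (Fin n) F) *
      ((s : Matrix.SpecialLinearGroup (Fin n) F) : Matrix (Fin n) (Fin n) F).map (RingEquiv.refl F) * _ = _
    rw [show (((s : Matrix.SpecialLinearGroup (Fin n) F) : Matrix (Fin n) (Fin n) F).map
        (RingEquiv.refl F)) = ((s : Matrix.SpecialLinearGroup (Fin n) F) : Matrix (Fin n) (Fin n) F)
        from Matrix.ext fun _ _ => rfl, hc, Matrix.smul_mul, one_mul]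
    have h4 := Units.mul_inv (g : GL (Fin n) F)
    rw [hc, Matrix.smul_mul, one_mul] at h4
    rw [Matrix.smul_mul, ← Matrix.mul_smul, h4, mul_one]

/-- The inner-diagonal automorphisms. -/
noncomputable def uInn (n : ℕ) (hF : Fintype.card F = q ^ 2) : uGL n hF →* MulAut (Cfsg.PSU n F q) :=
  MonoidHom.mk' (fun g => uSemi hF g (RingEquiv.refl F)) fun g h => by
    rw [uSemi_mul, show uMap hF (RingEquiv.refl F) h = h from Subtype.ext (Units.ext (by
      ext i j; simp))]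
    rfl

theorem uInn_apply (hF : Fintype.card F = q ^ 2) (g : uGL n hF) :
    uInn n hF g = uSemi hF g (RingEquiv.refl F) := rfl

theorem isInnerDiagonalAutPSU_iff (hF : Fintype.card F = q ^ 2) (β : MulAut (Cfsg.PSU n F q)) :
    Cfsg.IsInnerDiagonalAutPSU β ↔
      ∃ (g : GL (Fin n) F) (hg : g ∈ Cfsg.GU n F q), β = uInn n hF ⟨g, GU_le_uGL hF hg⟩ := by
  have hrefl : ∀ X : Matrix (Fin n) (Fin n) F, X.map (RingEquiv.refl F) = X :=
    fun X => Matrix.ext fun _ _ => rfl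
  constructor
  · rintro ⟨g, hg, h⟩
    refine ⟨g, hg, psu_ext fun s => ?_⟩
    exact h s _ (by
      show _ * Matrix.map _ _ * _ = _
      rw [hrefl]
      rfl)
  · rintro ⟨g, hg, rfl⟩
    refine ⟨g, hg, fun s s' hs => ?_⟩
    rw [show s' = suSemiHom hF ⟨g, GU_le_uGL hF hg⟩ (RingEquiv.refl F) s from
      Subtype.ext (Subtype.ext (hs.trans (by
        show _ = _ * Matrix.map _ _ * _
        rw [hrefl]
        rfl)))]
    rfl

theorem isFieldAutPSUOf_iff (hF : Fintype.card F = q ^ 2) (σ : F ≃+* F)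
    (β : MulAut (Cfsg.PSU n F q)) : Cfsg.IsFieldAutPSUOf σ β ↔ β = uSemi hF 1 σ := by
  constructor
  · intro h
    exact psu_ext fun s => h s (suSemiHom hF 1 σ s) (by
      show ((1 : GL (Fin n) F) : Matrix (Fin n) (Fin n) F) * _ * _ = _
      simp)
  · rintro rfl s s' hs
    rw [show s' = suSemiHom hF 1 σ s from Subtype.ext (Subtype.ext (hs.trans (by
      show _ = ((1 : GL (Fin n) F) : Matrix (Fin n) (Fin n) F) * _ * _
      simp)))]
    rfl

theorem exists_GU_of_uGL (hF : Fintype.card F = q ^ 2) (hn : 1 ≤ n) {g : GL (Fin n) F}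
    (hg : g ∈ uGL n hF) : ∃ h ∈ Cfsg.GU n F q, pr n F h = pr n F g := by
  obtain ⟨c, hc⟩ := (mem_uGL_iff hF g).1 hg
  set τ := frob hF
  haveI : Nonempty (Fin n) := ⟨⟨0, hn⟩⟩
  set G := (g : Matrix (Fin n) (Fin n) F)
  have hc1 : G.map τ = (c : F) • ((g⁻¹ : GL (Fin n) F) : Matrix (Fin n) (Fin n) F)ᵀ := hc
  have h1 : G * (G.map τ)ᵀ = (c : F) • 1 := by
    rw [hc1, transpose_smul, transpose_transpose, Matrix.mul_smul, Units.mul_inv]
  have hfix : τ (c : F) = c := by
    have h2 := congrArg (fun X : Matrix (Fin n) (Fin n) F => (X.map τ)ᵀ) h1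
    simp only [Matrix.map_mul, transpose_mul, Matrix.transpose_map, transpose_transpose] at h2
    rw [show (G.map τ).map τ = G from Matrix.ext fun i j => frob_frob hF _, h1] at h2
    have h3 := congrFun₂ h2 ⟨0, hn⟩ ⟨0, hn⟩
    simpa using h3.symm
  obtain ⟨x, hx⟩ := (Herm.powHom_isInvol hF).exists_norm_eq (μ := (c : F)) hfix
  have hx0 : x ≠ 0 := by rintro rfl; exact c.ne_zero (by rw [← hx, zero_mul])
  let u : Fˣ := Units.mk0 x hx0
  have hval : ((GeneralLinearGroup.scalar (Fin n) u⁻¹ * g : GL (Fin n) F) :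
      Matrix (Fin n) (Fin n) F) = x⁻¹ • G := by
    rw [Units.val_mul, show ((GeneralLinearGroup.scalar (Fin n) u⁻¹ : GL (Fin n) F) :
        Matrix (Fin n) (Fin n) F) = Matrix.scalar (Fin n) x⁻¹ from rfl]
    ext i j; simp [G]
  refine ⟨GeneralLinearGroup.scalar (Fin n) u⁻¹ * g, ?_, ?_⟩
  · rw [AutPSL.mem_GU_iff' τ (frob_apply hF), hval,
      show (x⁻¹ • G).map τ = τ x⁻¹ • G.map τ from Matrix.ext fun i j => map_mul τ _ _,
      transpose_smul, Matrix.smul_mul, Matrix.mul_smul, h1, smul_smul, smul_smul, map_inv₀]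
    have hx' : x * τ x = (c : F) := by rw [frob_apply]; rw [Herm.powHom_apply] at hx; exact hx
    rw [← hx', show x⁻¹ * (τ x)⁻¹ * (x * τ x) = 1 by
      have : τ x ≠ 0 := by simpa using hx0
      field_simp, one_smul]
  · exact (pr_eq_iff _ _).2 ⟨u, by rw [hval, smul_smul]; simp [u, hx0, G]⟩

theorem inndiagPSU_eq (hF : Fintype.card F = q ^ 2) (hn : 3 ≤ n) (hex : n = 3 → q ≠ 2) :
    Cfsg.inndiagPSU n F q = (uInn n hF).range := by
  refine le_antisymm ((Subgroup.closure_le _).2 fun β hβ => ?_) ?_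
  · obtain ⟨g, hg, rfl⟩ := (isInnerDiagonalAutPSU_iff hF β).1 hβ
    exact ⟨_, rfl⟩
  · rintro _ ⟨g, rfl⟩
    obtain ⟨h, hh, hpr⟩ := exists_GU_of_uGL hF (by omega) g.2
    refine Subgroup.subset_closure ((isInnerDiagonalAutPSU_iff hF _).2 ⟨h, hh, ?_⟩)
    rw [← inv_mul_eq_one, ← map_inv, ← map_mul, uInn_apply, uSemi_eq_one_iff hF hn hex]
    refine ⟨rfl, ?_⟩
    show pr n F ((g : GL (Fin n) F)⁻¹ * h) = 1
    rw [map_mul, map_inv, hpr, inv_mul_cancel]

end CfsgLib.Known.AutPSU
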