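import Cfsg.Agent.Lib.Known.AutPSU.GraphMain
import Cfsg.Agent.Lib.Known.AutPSL.GraphSplit

/-!
# Splitting of the classes of involutory graph automorphisms of `PSU`
-/

set_option autoImplicit false
set_option linter.unusedSectionVars false

open Matrix

namespace CfsgLib.Known.AutPSU

open CfsgLib.Classical
open CfsgLib.Known.AutPSL (glMap glIota coe_glMap)
open CfsgLib.Known.AutPSL.Graph (graphAut IsAltMat)

variable {n : ℕ} {F : Type*} [Field F] [Fintype F] {q : ℕ} {F₀ : Type*} [Field F₀] [Fintype F₀]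

/-- The units of norm one. -/
abbrev normOne (F : Type*) [Field F] (q : ℕ) : Subgroup Fˣ := (powMonoidHom (q + 1) : Fˣ →* Fˣ).ker

theorem mem_normOne_iff (hF : Fintype.card F = q ^ 2) (u : Fˣ) :
    u ∈ normOne F q ↔ frob hF (u : F) = ((u⁻¹ : Fˣ) : F) := by
  rw [MonoidHom.mem_ker, powMonoidHom_apply, pow_succ, frob_apply, ← Units.val_pow_eq_pow_val,
    Units.val_inj, mul_eq_one_iff_eq_inv]

theorem card_normOne (hF : Fintype.card F = q ^ 2) : Nat.card (normOne F q) = q + 1 := by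
  rw [IsCyclic.card_powMonoidHom_ker, CfsgLib.Classical.card_units_field, hF]
  exact Nat.gcd_eq_right ⟨q - 1, by rw [← Nat.sq_sub_sq, one_pow]⟩

theorem index_normOne_pow (hF : Fintype.card F = q ^ 2) (k : ℕ) :
    (powMonoidHom k : normOne F q →* normOne F q).range.index = Nat.gcd k (q + 1) := by
  rw [ClassSplit.index_range_pow, card_normOne hF, Nat.gcd_comm]

theorem det_mem_normOne (hF : Fintype.card F = q ^ 2) (g : Cfsg.GU n F q) :
    GeneralLinearGroup.det (g : GL (Fin n) F) ∈ normOne F q := by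
  have h := congrArg (fun x : GL (Fin n) F => (x : Matrix (Fin n) (Fin n) F).det)
    ((mem_GU_iff hF _).1 g.2)
  simp only [coe_glMap] at h
  rw [show ((g : GL (Fin n) F) : Matrix (Fin n) (Fin n) F).map (frob hF) =
    (frob hF).toRingHom.mapMatrix ((g : GL (Fin n) F) : Matrix (Fin n) (Fin n) F) from rfl,
    ← RingHom.map_det] at h
  rw [mem_normOne_iff hF, GeneralLinearGroup.val_det_apply]
  refine h.trans ?_
  show (((((g : GL (Fin n) F)⁻¹ : GL (Fin n) F)) : Matrix (Fin n) (Fin n) F)ᵀ).det = _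
  rw [det_transpose, ← map_inv, GeneralLinearGroup.val_det_apply]

/-- The determinant on the unitary group. -/
noncomputable def detU (n : ℕ) (hF : Fintype.card F = q ^ 2) : Cfsg.GU n F q →* normOne F q :=
  ((GeneralLinearGroup.det).comp (Cfsg.GU n F q).subtype).codRestrict _ fun g => det_mem_normOne hF g

theorem coe_detU (hF : Fintype.card F = q ^ 2) (g : Cfsg.GU n F q) :
    ((detU n hF g : normOne F q) : Fˣ) = GeneralLinearGroup.det (g : GL (Fin n) F) := rfl

theorem detU_surjective (hn : 1 ≤ n) (hF : Fintype.card F = q ^ 2) :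
    Function.Surjective (detU n hF) := by
  rintro ⟨u, hu⟩
  have h1 : (u : F) * frob hF u = 1 := by
    rw [(mem_normOne_iff hF u).1 hu, Units.mul_inv]
  let i0 : Fin n := ⟨0, hn⟩
  let d : Fin n → F := Function.update 1 i0 (u : F)
  have hd : IsUnit (Matrix.diagonal d).det := by
    rw [Matrix.det_diagonal, isUnit_iff_ne_zero, Finset.prod_ne_zero_iff]
    intro i _
    by_cases hi : i = i0 <;> simp [d, hi]
  refine ⟨⟨GeneralLinearGroup.mk'' _ hd, ?_⟩, Subtype.ext (Units.ext ?_)⟩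
  · rw [AutPSL.mem_GU_iff' (frob hF) (frob_apply hF)]
    show Matrix.diagonal d * ((Matrix.diagonal d).map (frob hF))ᵀ = 1
    rw [Matrix.diagonal_map (map_zero _), Matrix.diagonal_transpose, Matrix.diagonal_mul_diagonal,
      ← Matrix.diagonal_one]
    congr 1
    funext i
    by_cases hi : i = i0 <;> simp [d, hi, h1]
  · show (Matrix.diagonal d).det = u
    rw [Matrix.det_diagonal, Finset.prod_update_of_mem (Finset.mem_univ _)]
    simp

section

variable (hn : 3 ≤ n) (hex : n = 3 → q ≠ 2) (hF : Fintype.card F = q ^ 2)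
include hn hex

/-- The unitary group acting on `PSU`. -/
noncomputable def guInn (n : ℕ) (hF : Fintype.card F = q ^ 2) :
    Cfsg.GU n F q →* MulAut (Cfsg.PSU n F q) :=
  (uInn n hF).comp (Subgroup.inclusion (GU_le_uGL hF))

theorem range_guInn : (guInn n hF).range = Cfsg.inndiagPSU n F q := by
  rw [inndiagPSU_eq hF hn hex]
  refine le_antisymm ?_ ?_
  · rintro _ ⟨g, rfl⟩; exact ⟨_, rfl⟩
  · rintro _ ⟨g, rfl⟩
    obtain ⟨h, hh, hpr⟩ := exists_GU_of_uGL hF (by omega) g.2
    refine ⟨⟨h, hh⟩, ?_⟩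
    show uInn n hF _ = uInn n hF g
    rw [← uAutP_proj hn hex hF, ← uAutP_proj hn hex hF]
    congr 1
    exact Subtype.ext hpr

theorem conj_eq_uInn (s : Cfsg.SU n F q) :
    MulAut.conj (QuotientGroup.mk s : Cfsg.PSU n F q) =
      guInn n hF (Herm.suToGU n F q s) := by
  refine psu_ext fun t => ?_
  show _ = QuotientGroup.mk (suSemiHom hF _ (RingEquiv.refl F) t)
  rw [MulAut.conj_apply, ← QuotientGroup.mk_inv, ← QuotientGroup.mk_mul, ← QuotientGroup.mk_mul]
  congr 1

theorem comap_inn_psu : (Cfsg.Inn (Cfsg.PSU n F q)).comap (guInn n hF) =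
    ((powMonoidHom n : normOne F q →* normOne F q).range).comap (detU n hF) := by
  ext g
  constructor
  · intro hg
    obtain ⟨y, hy⟩ := hg
    obtain ⟨s, rfl⟩ := QuotientGroup.mk'_surjective _ y
    have h1 : guInn n hF (Herm.suToGU n F q s) = guInn n hF g := by
      rw [← conj_eq_uInn hn hex hF]; exact hy
    have h2 : pr n F ((Herm.suToGU n F q s : Cfsg.GU n F q) : GL (Fin n) F) =
        pr n F (g : GL (Fin n) F) := by
      have h1' : uAutP hn hex hF (uProj n hF (Subgroup.inclusion (GU_le_uGL hF) (Herm.suToGU n F q s))) =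
          uAutP hn hex hF (uProj n hF (Subgroup.inclusion (GU_le_uGL hF) g)) := by
        rw [uAutP_proj, uAutP_proj]; exact h1
      exact congrArg Subtype.val (uAutP_injective hn hex hF h1')
    obtain ⟨c, hc⟩ := (pr_eq_iff _ _).1 h2
    set G := ((g : GL (Fin n) F) : Matrix (Fin n) (Fin n) F)
    set X := ((Herm.suToGU n F q s : GL (Fin n) F) : Matrix (Fin n) (Fin n) F)
    have hgu := (AutPSL.mem_GU_iff' (frob hF) (frob_apply hF) _).1 g.2
    have hxu := (AutPSL.mem_GU_iff' (frob hF) (frob_apply hF) _).1 (Herm.suToGU n F q s).2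
    change G * (G.map (frob hF))ᵀ = 1 at hgu
    change X * (X.map (frob hF))ᵀ = 1 at hxu
    rw [show G = (c : F) • X from hc, show ((c : F) • X).map (frob hF) =
      frob hF c • X.map (frob hF) from Matrix.ext fun i j => by simp only [Matrix.map_apply, Matrix.smul_apply, smul_eq_mul, map_mul],
      transpose_smul, Matrix.smul_mul, Matrix.mul_smul, hxu, smul_smul] at hgu
    have hc1 : (c : F) * frob hF c = 1 := by
      have := congrFun₂ hgu ⟨0, by omega⟩ ⟨0, by omega⟩
      simpa using this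
    refine ⟨⟨c, (mem_normOne_iff hF c).2 ?_⟩, Subtype.ext (Units.ext ?_)⟩
    · rw [Units.val_inv_eq_inv_val, eq_inv_of_mul_eq_one_right hc1]
    · rw [powMonoidHom_apply, SubmonoidClass.coe_pow, coe_detU, GeneralLinearGroup.val_det_apply]
      show _ = G.det
      rw [show G = (c : F) • X from hc, det_smul, Fintype.card_fin,
        show X.det = 1 from (s : Matrix.SpecialLinearGroup (Fin n) F).det_coe, mul_one]
      simp
  · rintro ⟨⟨c, hc⟩, hcd⟩
    have hd : ((c : F)) ^ n = ((g : GL (Fin n) F) : Matrix (Fin n) (Fin n) F).det := by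
      have := congrArg (fun x : normOne F q => ((x : Fˣ) : F)) hcd
      simpa [coe_detU] using this
    have hc1 : (c : F) * frob hF c = 1 := by
      rw [(mem_normOne_iff hF c).1 hc, Units.mul_inv]
    set G := ((g : GL (Fin n) F) : Matrix (Fin n) (Fin n) F) with hG
    let s₀ : Matrix.SpecialLinearGroup (Fin n) F := ⟨((c⁻¹ : Fˣ) : F) • G, by
      rw [det_smul, Fintype.card_fin, ← hd, ← mul_pow, Units.inv_mul, one_pow]⟩
    have hs₀ : s₀ ∈ Cfsg.SU n F q := by
      show Matrix.SpecialLinearGroup.toGL s₀ ∈ Cfsg.GU n F q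
      rw [AutPSL.mem_GU_iff' (frob hF) (frob_apply hF)]
      show (((c⁻¹ : Fˣ) : F) • G) * ((((c⁻¹ : Fˣ) : F) • G).map (frob hF))ᵀ = 1
      rw [show (((c⁻¹ : Fˣ) : F) • G).map (frob hF) =
          frob hF ((c⁻¹ : Fˣ) : F) • G.map (frob hF) from Matrix.ext fun i j => by simp only [Matrix.map_apply, Matrix.smul_apply, smul_eq_mul, map_mul],
        transpose_smul, Matrix.smul_mul, Matrix.mul_smul,
        (AutPSL.mem_GU_iff' (frob hF) (frob_apply hF) _).1 g.2, smul_smul, Units.val_inv_eq_inv_val,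
        map_inv₀, ← mul_inv, hc1, inv_one, one_smul]
    refine ⟨QuotientGroup.mk ⟨s₀, hs₀⟩, ?_⟩
    rw [conj_eq_uInn hn hex hF]
    show uInn n hF _ = uInn n hF _
    rw [← uAutP_proj hn hex hF, ← uAutP_proj hn hex hF]
    congr 1
    refine Subtype.ext ((pr_eq_iff _ _).2 ⟨c, ?_⟩)
    show G = (c : F) • (((c⁻¹ : Fˣ) : F) • G)
    rw [smul_smul, Units.mul_inv, one_smul]

/-- The determinants of the unitary centralizer of `γ`, together with the `n`-th powers. -/
noncomputable def detCent (hF : Fintype.card F = q ^ 2) (γ : MulAut (Cfsg.PSU n F q)) :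
    Subgroup (normOne F q) :=
  ((Subgroup.centralizer {γ}).comap (guInn n hF)).map (detU n hF) ⊔
    (powMonoidHom n : normOne F q →* normOne F q).range

theorem splitClassCount_eq_detCent (γ : MulAut (Cfsg.PSU n F q)) :
    Cfsg.splitClassCount (Cfsg.inndiagPSU n F q) (Cfsg.Inn (Cfsg.PSU n F q)) γ =
      (detCent hF γ).index := by
  rw [← range_guInn hn hex hF, ClassSplit.splitClassCount_eq_index _ _ (by
      rintro _ ⟨y, rfl⟩
      obtain ⟨s, rfl⟩ := QuotientGroup.mk'_surjective _ y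
      exact ⟨_, (conj_eq_uInn hn hex hF s).symm⟩), comap_inn_psu hn hex hF,
    ClassSplit.index_eq_index_map (detU n hF) (detU_surjective (by omega) hF) _ (fun g hg =>
      Subgroup.mem_sup_left (Subgroup.mem_comap.2 (by
        rw [MonoidHom.mem_ker.1 hg]; exact Subgroup.one_mem _))),
    Subgroup.map_sup, Subgroup.map_comap_eq_self_of_surjective (detU_surjective (by omega) hF),
    sup_comm]
  rfl

theorem guInn_comm_iff {S : GL (Fin n) F} (hS : S ∈ uGL n hF) (g : Cfsg.GU n F q) :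
    guInn n hF g * uGraph hn hex hF (uProj n hF ⟨S, hS⟩) =
        uGraph hn hex hF (uProj n hF ⟨S, hS⟩) * guInn n hF g ↔
      ∃ c : Fˣ, ((g : GL (Fin n) F) : Matrix (Fin n) (Fin n) F) * (S : Matrix (Fin n) (Fin n) F) *
        ((g : GL (Fin n) F) : Matrix (Fin n) (Fin n) F)ᵀ = (c : F) • (S : Matrix (Fin n) (Fin n) F) := by
  rw [show guInn n hF g = uAutP hn hex hF (uProj n hF (Subgroup.inclusion (GU_le_uGL hF) g)) from
    (uAutP_proj hn hex hF _).symm, comm_uGraph_iff, ← Subtype.coe_inj, Subgroup.coe_mul,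
    Subgroup.coe_mul, coe_uInvP]
  show pr n F (g : GL (Fin n) F) * pr n F S = pr n F S * pInv (pr n F (g : GL (Fin n) F)) ↔ _
  rw [pInv_pr, ← map_mul, ← map_mul, eq_comm, pr_eq_iff]
  set G := ((g : GL (Fin n) F) : Matrix (Fin n) (Fin n) F) with hG
  set G' := (((g : GL (Fin n) F)⁻¹ : GL (Fin n) F) : Matrix (Fin n) (Fin n) F)
  have h1 : G'ᵀ * Gᵀ = 1 := by rw [← transpose_mul, hG, Units.mul_inv, transpose_one]
  refine exists_congr fun c => ?_
  show G * (S : Matrix (Fin n) (Fin n) F) = (c : F) • ((S : Matrix (Fin n) (Fin n) F) * G'ᵀ) ↔ _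
  constructor
  · intro h
    rw [h, Matrix.smul_mul, mul_assoc, h1, mul_one]
  · intro h
    have h2 : Gᵀ * G'ᵀ = 1 := mul_eq_one_comm.1 h1
    rw [← Matrix.smul_mul, ← h, mul_assoc, h2, mul_one]

end

theorem det_sq_of_comm {g S : GL (Fin n) F} {c : Fˣ}
    (hc : (g : Matrix (Fin n) (Fin n) F) * (S : Matrix (Fin n) (Fin n) F) *
      (g : Matrix (Fin n) (Fin n) F)ᵀ = (c : F) • (S : Matrix (Fin n) (Fin n) F)) :
    GeneralLinearGroup.det g ^ 2 = c ^ n := by
  refine Units.ext ?_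
  have h := congrArg Matrix.det hc
  rw [det_mul, det_mul, det_transpose, det_smul, Fintype.card_fin] at h
  have hS : (S : Matrix (Fin n) (Fin n) F).det ≠ 0 := (GeneralLinearGroup.det S).ne_zero
  rw [Units.val_pow_eq_pow_val, Units.val_pow_eq_pow_val, GeneralLinearGroup.val_det_apply]
  exact mul_right_cancel₀ hS (by linear_combination h)

theorem norm_one_of_comm (hn : 1 ≤ n) (hF : Fintype.card F = q ^ 2) {g S : GL (Fin n) F}
    (hg : g ∈ Cfsg.GU n F q) (hS : S ∈ uGL n hF) {c : Fˣ}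
    (hc : (g : Matrix (Fin n) (Fin n) F) * (S : Matrix (Fin n) (Fin n) F) *
      (g : Matrix (Fin n) (Fin n) F)ᵀ = (c : F) • (S : Matrix (Fin n) (Fin n) F)) :
    c ∈ normOne F q := by
  haveI : Nonempty (Fin n) := ⟨⟨0, hn⟩⟩
  obtain ⟨e, he⟩ := (mem_uGL_iff hF S).1 hS
  have heq : g * S * (glIota g)⁻¹ = GeneralLinearGroup.scalar (Fin n) c * S := by
    ext1
    rw [Units.val_mul, Units.val_mul]
    refine hc.trans ?_
    ext a b
    simp
  have hi : (glIota g : Matrix (Fin n) (Fin n) F)ᵀ = ((g⁻¹ : GL (Fin n) F) : Matrix (Fin n) (Fin n) F) := by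
    show (((g⁻¹ : GL (Fin n) F) : Matrix (Fin n) (Fin n) F)ᵀ)ᵀ = _
    rw [transpose_transpose]
  have h1 := congrArg (fun x => (glMap (frob hF) x : Matrix (Fin n) (Fin n) F)) heq
  have h2 := congrArg (fun x => (glIota x : Matrix (Fin n) (Fin n) F)) heq
  simp only [← gInv_apply, map_mul, map_inv, Units.val_mul] at h1 h2
  have hgt : glMap (frob hF) g = gInv g := (mem_GU_iff hF g).1 hg
  have hgg : glMap (frob hF) (gInv g) = g := by
    rw [gInv_apply, glMap_comm_gInv, (mem_GU_iff hF g).1 hg, glIota_glIota']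
  have hii : gInv (gInv g) = g := glIota_glIota' g
  rw [hgt, hgg, he, Matrix.mul_smul, Matrix.smul_mul] at h1
  rw [hii] at h2
  rw [← gInv_apply] at h1
  rw [h2] at h1
  have hA : ((glMap (frob hF) (GeneralLinearGroup.scalar (Fin n) c) : GL (Fin n) F) :
      Matrix (Fin n) (Fin n) F) = frob hF (c : F) • 1 := by
    ext a b; by_cases hab : a = b <;> simp [hab]
  have hB : ((gInv (GeneralLinearGroup.scalar (Fin n) c) : GL (Fin n) F) :
      Matrix (Fin n) (Fin n) F) = ((c⁻¹ : Fˣ) : F) • 1 := by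
    show (((GeneralLinearGroup.scalar (Fin n) c)⁻¹ : GL (Fin n) F) : Matrix (Fin n) (Fin n) F)ᵀ = _
    have hs : ∀ u : Fˣ, ((GeneralLinearGroup.scalar (Fin n) u : GL (Fin n) F) :
        Matrix (Fin n) (Fin n) F) = (u : F) • 1 := fun u => by
      ext a b; by_cases hab : a = b <;> simp [hab]
    rw [← map_inv, hs, transpose_smul, transpose_one]
  rw [hA, hB, Matrix.smul_mul, one_mul, Matrix.smul_mul, one_mul, smul_smul, smul_smul,
    mul_comm (e : F)] at h1
  rw [mem_normOne_iff hF]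
  exact (mul_right_cancel₀ e.ne_zero (smul_left_injective F (gInv S).ne_zero h1)).symm

theorem exists_twist (hF : Fintype.card F = q ^ 2) (c : Fˣ) (hc : c ∈ normOne F q) :
    ∃ d : Fˣ, (c : F) * frob hF d = d := by
  have hq := CfsgLib.Classical.two_le_of_card_sq hF
  have hcard : (q + 1) * (q - 1) = Nat.card Fˣ := by
    rw [CfsgLib.Classical.card_units_field, hF, ← Nat.sq_sub_sq, one_pow]
  obtain ⟨v, hv⟩ : c ∈ (powMonoidHom (q - 1) : Fˣ →* Fˣ).range := by
    rw [← ClassSplit.ker_pow_eq_range_pow hcard]; exact hc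
  refine ⟨v⁻¹, ?_⟩
  rw [← hv, powMonoidHom_apply, frob_apply, ← Units.val_pow_eq_pow_val, ← Units.val_mul]
  congr 1
  have hq' : q = q - 1 + 1 := by omega
  nth_rw 2 [hq']
  rw [inv_pow, pow_succ]
  group

section

variable (hn : 3 ≤ n) (hex : n = 3 → q ≠ 2) (hF : Fintype.card F = q ^ 2) {j : F₀ →+* F}
  (hj : ∀ a : F, frob hF a = a ↔ a ∈ j.range)
include hj

theorem model_reps {A : GL (Fin n) F₀} {γ : MulAut (Cfsg.PSU n F q)}
    (hA : IsModel hn hex hF j A γ) :
    ∃ (h S : GL (Fin n) F) (hS : S ∈ uGL n hF) (k : Fˣ) (l : Fˣ),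
      γ = uGraph hn hex hF (uProj n hF ⟨S, hS⟩) ∧
      (glMap (frob hF) h : Matrix (Fin n) (Fin n) F) =
        (k : F) • ((glIota h : Matrix (Fin n) (Fin n) F) * (jGL n j A : Matrix (Fin n) (Fin n) F)) ∧
      (S : Matrix (Fin n) (Fin n) F) = (l : F) • ((h : Matrix (Fin n) (Fin n) F) *
        (jGL n j A⁻¹ : Matrix (Fin n) (Fin n) F) * (h : Matrix (Fin n) (Fin n) F)ᵀ) := by
  obtain ⟨h', x, hc, -, hx, rfl⟩ := hA
  obtain ⟨h, rfl⟩ := pr_surjective h'
  obtain ⟨S, rfl⟩ := uProj_surjective hF x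
  have hk := hc.2
  rw [pMap_pr, pInv_pr, jP_pr, ← map_mul, eq_comm, pr_eq_iff] at hk
  obtain ⟨k, hk⟩ := hk
  rw [Units.val_mul] at hk
  have hS' : pr n F (h * (glMap (frob hF) h)⁻¹) = pr n F (S : GL (Fin n) F) := by
    rw [map_mul, map_inv]; exact hx
  obtain ⟨l, hl⟩ := (pr_eq_iff _ _).1 hS'
  have hinv : (((glMap (frob hF) h)⁻¹ : GL (Fin n) F) : Matrix (Fin n) (Fin n) F) =
      ((k⁻¹ : Fˣ) : F) • ((jGL n j A⁻¹ : Matrix (Fin n) (Fin n) F) * (h : Matrix (Fin n) (Fin n) F)ᵀ) := by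
    refine Units.inv_eq_of_mul_eq_one_right ?_
    rw [hk, Matrix.smul_mul, Matrix.mul_smul, smul_smul, Units.mul_inv, one_smul, mul_assoc,
      ← mul_assoc (jGL n j A : Matrix (Fin n) (Fin n) F), ← Units.val_mul, ← map_mul, mul_inv_cancel,
      map_one, Units.val_one, one_mul]
    show (((h⁻¹ : GL (Fin n) F) : Matrix (Fin n) (Fin n) F))ᵀ * _ = 1
    rw [← transpose_mul, Units.mul_inv, transpose_one]
  refine ⟨h, S, S.2, k, l * k⁻¹, rfl, hk, ?_⟩
  rw [hl, Units.val_mul, hinv, Matrix.mul_smul, smul_smul, Units.val_mul, mul_assoc]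

theorem exists_unitary_sim {A : GL (Fin n) F₀} {h S : GL (Fin n) F} (k l : Fˣ)
    (hk : (glMap (frob hF) h : Matrix (Fin n) (Fin n) F) =
      (k : F) • ((glIota h : Matrix (Fin n) (Fin n) F) * (jGL n j A : Matrix (Fin n) (Fin n) F)))
    (hS : (S : Matrix (Fin n) (Fin n) F) = (l : F) • ((h : Matrix (Fin n) (Fin n) F) *
      (jGL n j A⁻¹ : Matrix (Fin n) (Fin n) F) * (h : Matrix (Fin n) (Fin n) F)ᵀ))
    (N : GL (Fin n) F₀) (lam : F₀) (d : Fˣ)
    (hN : (N : Matrix (Fin n) (Fin n) F₀) * ((A⁻¹ : GL (Fin n) F₀) : Matrix (Fin n) (Fin n) F₀) *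
      (N : Matrix (Fin n) (Fin n) F₀)ᵀ = lam • ((A⁻¹ : GL (Fin n) F₀) : Matrix (Fin n) (Fin n) F₀))
    (hd : (d : F) * frob hF d * j lam = 1) :
    ∃ g : GL (Fin n) F, g ∈ Cfsg.GU n F q ∧
      (g : Matrix (Fin n) (Fin n) F) * (S : Matrix (Fin n) (Fin n) F) *
        (g : Matrix (Fin n) (Fin n) F)ᵀ = ((d : F) * d * j lam) • (S : Matrix (Fin n) (Fin n) F) ∧
      (g : Matrix (Fin n) (Fin n) F).det = (d : F) ^ n * j (N : Matrix (Fin n) (Fin n) F₀).det := by
  set g₀ : GL (Fin n) F := h * jGL n j N * h⁻¹ with hg₀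
  set H := (h : Matrix (Fin n) (Fin n) F) with hH
  set H' := ((h⁻¹ : GL (Fin n) F) : Matrix (Fin n) (Fin n) F)
  set B := (jGL n j A⁻¹ : Matrix (Fin n) (Fin n) F) with hB
  set Nj := (jGL n j N : Matrix (Fin n) (Fin n) F) with hNj
  have hHH : H' * H = 1 := Units.inv_mul h
  have hNB : Nj * B * Njᵀ = j lam • B := by
    have h1 := congrArg (fun X : Matrix (Fin n) (Fin n) F₀ => X.map j) hN
    simp only [Matrix.map_mul, Matrix.transpose_map] at h1
    rw [show (lam • ((A⁻¹ : GL (Fin n) F₀) : Matrix (Fin n) (Fin n) F₀)).map j =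
      j lam • ((A⁻¹ : GL (Fin n) F₀) : Matrix (Fin n) (Fin n) F₀).map j from
        Matrix.ext fun a b => by simp] at h1
    exact h1
  have hgS : (g₀ : Matrix (Fin n) (Fin n) F) * (S : Matrix (Fin n) (Fin n) F) *
      (g₀ : Matrix (Fin n) (Fin n) F)ᵀ = j lam • (S : Matrix (Fin n) (Fin n) F) := by
    rw [hS, hg₀, Units.val_mul, Units.val_mul, Matrix.mul_smul, Matrix.smul_mul, transpose_mul,
      transpose_mul, smul_comm (j lam)]
    congr 1
    calc H * Nj * H' * (H * B * Hᵀ) * (H'ᵀ * (Njᵀ * Hᵀ))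
        = H * Nj * (H' * H) * B * (H' * H)ᵀ * Njᵀ * Hᵀ := by
          rw [transpose_mul]; simp only [mul_assoc]
      _ = H * (Nj * B * Njᵀ) * Hᵀ := by
          rw [hHH, transpose_one, mul_one, mul_one]; simp only [mul_assoc]
      _ = _ := by rw [hNB, Matrix.mul_smul, Matrix.smul_mul]
  refine ⟨GeneralLinearGroup.scalar (Fin n) d * g₀, ?_, ?_, ?_⟩
  · rw [AutPSL.mem_GU_iff' (frob hF) (frob_apply hF)]
    have hT : H.map (frob hF) = (k : F) • (H'ᵀ * (jGL n j A : Matrix (Fin n) (Fin n) F)) := hk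
    have hT' : (H'.map (frob hF)) = ((k⁻¹ : Fˣ) : F) • (B * Hᵀ) := by
      have h1 : H'.map (frob hF) * H.map (frob hF) = 1 := by
        rw [← Matrix.map_mul, hHH, Matrix.map_one _ (map_zero _) (map_one _)]
      have h2 : H.map (frob hF) * (((k⁻¹ : Fˣ) : F) • (B * Hᵀ)) = 1 := by
        rw [hT, Matrix.smul_mul, Matrix.mul_smul, smul_smul, Units.mul_inv, one_smul, mul_assoc,
          ← mul_assoc (jGL n j A : Matrix (Fin n) (Fin n) F), hB, ← Units.val_mul, ← map_mul,
          mul_inv_cancel, map_one, Units.val_one, one_mul, ← transpose_mul, hH, Units.mul_inv,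
          transpose_one]
      exact left_inv_eq_right_inv h1 h2
    have hNf : Nj.map (frob hF) = Nj := Matrix.ext fun a b => (hj _).2 ⟨_, rfl⟩
    have hval : ((GeneralLinearGroup.scalar (Fin n) d * g₀ : GL (Fin n) F) :
        Matrix (Fin n) (Fin n) F) = (d : F) • (H * Nj * H') := by
      rw [hg₀]; ext a b; simp [hH, hNj, H']
    rw [hval, show ((d : F) • (H * Nj * H')).map (frob hF) =
        frob hF d • ((H * Nj * H').map (frob hF)) from Matrix.ext fun a b => by simp only [Matrix.map_apply, Matrix.smul_apply, smul_eq_mul, map_mul],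
      Matrix.map_mul, Matrix.map_mul, hT, hT', hNf]
    simp only [Matrix.smul_mul, Matrix.mul_smul, transpose_smul, smul_smul, transpose_mul,
      transpose_transpose, mul_assoc]
    have hAB : (jGL n j A : Matrix (Fin n) (Fin n) F)ᵀ * Bᵀ = 1 := by
      rw [← transpose_mul, hB, ← Units.val_mul, ← map_mul, inv_mul_cancel, map_one, Units.val_one,
        transpose_one]
    have hkey : H * (Nj * (H' * (H * (Bᵀ * (Njᵀ * ((jGL n j A : Matrix (Fin n) (Fin n) F)ᵀ * H')))))) =
        j lam • 1 := by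
      have hNB' : Nj * Bᵀ * Njᵀ = j lam • Bᵀ := by
        have := congrArg Matrix.transpose hNB
        simpa [transpose_mul, mul_assoc] using this
      calc _ = H * (Nj * (H' * H) * Bᵀ * Njᵀ) * ((jGL n j A : Matrix (Fin n) (Fin n) F)ᵀ * H') := by
            simp only [mul_assoc]
        _ = H * (j lam • (Bᵀ * (jGL n j A : Matrix (Fin n) (Fin n) F)ᵀ * H')) := by
            rw [hHH, mul_one, hNB']; simp only [Matrix.mul_smul, Matrix.smul_mul, mul_assoc]
        _ = _ := by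
            rw [mul_eq_one_comm.1 hAB, one_mul, Matrix.mul_smul, hH]
            rw [show ((h : Matrix (Fin n) (Fin n) F)) * H' = 1 from Units.mul_inv h]
    rw [hkey, smul_smul]
    have : ((k⁻¹ : Fˣ) : F) * k = 1 := Units.inv_mul k
    convert one_smul F (1 : Matrix (Fin n) (Fin n) F) using 2
    linear_combination ((d : F) * frob hF d * j lam) * this + hd
  · have hval : ((GeneralLinearGroup.scalar (Fin n) d * g₀ : GL (Fin n) F) :
        Matrix (Fin n) (Fin n) F) = (d : F) • (g₀ : Matrix (Fin n) (Fin n) F) := by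
      ext a b; simp
    rw [hval, transpose_smul, Matrix.smul_mul, Matrix.smul_mul, Matrix.mul_smul, hgS, smul_smul,
      smul_smul]
  · have hval : ((GeneralLinearGroup.scalar (Fin n) d * g₀ : GL (Fin n) F) :
        Matrix (Fin n) (Fin n) F) = (d : F) • (H * Nj * H') := by
      rw [hg₀]; ext a b; simp [hH, hNj, H']
    rw [hval, det_smul, Fintype.card_fin, det_mul, det_mul, RingHom.map_det]
    have hdd : H.det * H'.det = 1 := by rw [← det_mul, mul_eq_one_comm.1 hHH, det_one]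
    show (d : F) ^ n * (H.det * Nj.det * H'.det) = (d : F) ^ n * Nj.det
    linear_combination ((d : F) ^ n * Nj.det) * hdd

theorem exists_unitary_mult {A : GL (Fin n) F₀} (hc2 : ∀ lam : F₀ˣ, ∃ N : GL (Fin n) F₀,
      (N : Matrix (Fin n) (Fin n) F₀) * ((A : GL (Fin n) F₀)⁻¹ : GL (Fin n) F₀) *
      (N : Matrix (Fin n) (Fin n) F₀)ᵀ =
        (lam : F₀) • (((A : GL (Fin n) F₀)⁻¹ : GL (Fin n) F₀) : Matrix (Fin n) (Fin n) F₀))
    {h S : GL (Fin n) F} (k l : Fˣ)
    (hk : (glMap (frob hF) h : Matrix (Fin n) (Fin n) F) =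
      (k : F) • ((glIota h : Matrix (Fin n) (Fin n) F) * (jGL n j A : Matrix (Fin n) (Fin n) F)))
    (hS : (S : Matrix (Fin n) (Fin n) F) = (l : F) • ((h : Matrix (Fin n) (Fin n) F) *
      (jGL n j A⁻¹ : Matrix (Fin n) (Fin n) F) * (h : Matrix (Fin n) (Fin n) F)ᵀ))
    (c : Fˣ) (hc : c ∈ normOne F q) :
    ∃ g : GL (Fin n) F, g ∈ Cfsg.GU n F q ∧
      (g : Matrix (Fin n) (Fin n) F) * (S : Matrix (Fin n) (Fin n) F) *
        (g : Matrix (Fin n) (Fin n) F)ᵀ = (c : F) • (S : Matrix (Fin n) (Fin n) F) := by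
  obtain ⟨d, hd⟩ := exists_twist hF c hc
  have hfix : frob hF ((d : F) * frob hF d) = (d : F) * frob hF d := by
    rw [map_mul, frob_frob, mul_comm]
  obtain ⟨μ, hμ⟩ := (hj _).1 hfix
  have hμ0 : μ ≠ 0 := by
    rintro rfl
    rw [map_zero, eq_comm, mul_eq_zero, map_eq_zero] at hμ
    exact d.ne_zero (hμ.elim id id)
  obtain ⟨N, hN⟩ := hc2 (Units.mk0 μ hμ0)⁻¹
  obtain ⟨g, hg, hgS, -⟩ := exists_unitary_sim hF hj k l hk hS N ((Units.mk0 μ hμ0)⁻¹ : F₀ˣ) d hN (by
    rw [← hμ, ← map_mul, Units.val_inv_eq_inv_val, Units.val_mk0, mul_inv_cancel₀ hμ0, map_one])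
  refine ⟨g, hg, hgS.trans ?_⟩
  congr 1
  have hd0 : frob hF (d : F) ≠ 0 := by simp
  rw [Units.val_inv_eq_inv_val, Units.val_mk0, map_inv₀, hμ]
  field_simp
  linear_combination -hd

end

theorem detCent_pow_n (hn : 3 ≤ n) (hex : n = 3 → q ≠ 2) (hF : Fintype.card F = q ^ 2)
    {S : GL (Fin n) F} (hS : S ∈ uGL n hF) (h : Odd n ∨ CharP F 2) :
    detCent hF (uGraph hn hex hF (uProj n hF ⟨S, hS⟩)) =
      (powMonoidHom n : normOne F q →* normOne F q).range := by
  refine le_antisymm (sup_le ?_ le_rfl) le_sup_right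
  rintro _ ⟨g, hg, rfl⟩
  obtain ⟨c, hc⟩ := (guInn_comm_iff hn hex hF hS g).1 (Subgroup.mem_centralizer_singleton_iff.1 hg)
  have hcm := norm_one_of_comm (by omega) hF g.2 hS hc
  have h2 : detU n hF g ^ 2 = (⟨c, hcm⟩ : normOne F q) ^ n := Subtype.ext (det_sq_of_comm hc)
  set u := detU n hF g
  set c' : normOne F q := ⟨c, hcm⟩
  rcases h with ⟨k, hk⟩ | hch
  · refine ⟨u * (c'⁻¹) ^ k, ?_⟩
    rw [powMonoidHom_apply, mul_pow, ← pow_mul, mul_comm k n, pow_mul, inv_pow, ← h2,
      show u ^ n = u * (u ^ 2) ^ k by rw [← pow_mul, ← pow_succ', hk], inv_pow, mul_assoc,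
      mul_inv_cancel, mul_one]
  · haveI := hch
    obtain ⟨d, hd⟩ := AutPSL.Graph.exists_sq_charTwo c
    have hdm : d ∈ normOne F q := by
      have hc1 : c ^ (q + 1) = 1 := hcm
      rw [← show d * d = c from Units.ext hd, mul_pow] at hc1
      rw [MonoidHom.mem_ker, powMonoidHom_apply]
      refine Units.ext (AutPSL.Graph.eq_one_of_sq_charTwo ?_)
      rw [← Units.val_mul, hc1, Units.val_one]
    refine ⟨⟨d, hdm⟩, Subtype.ext (Units.ext (CharTwo.sq_injective ?_))⟩
    show ((d ^ n : Fˣ) : F) ^ 2 = ((u : Fˣ) : F) ^ 2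
    rw [← Units.val_pow_eq_pow_val, ← Units.val_pow_eq_pow_val, ← pow_mul, mul_comm n 2, pow_mul, sq d,
      show d * d = c from Units.ext hd, ← SubmonoidClass.coe_pow, h2, SubmonoidClass.coe_pow]

theorem index_comap_sq_normOne (hF : Fintype.card F = q ^ 2) (hodd : Odd q) (hne : Even n) :
    (((powMonoidHom n : normOne F q →* normOne F q).range).comap (powMonoidHom 2)).index =
      Nat.gcd n (q + 1) / 2 := by
  rw [Subgroup.index_comap]
  have hle : (powMonoidHom n : normOne F q →* normOne F q).range ≤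
      (powMonoidHom 2 : normOne F q →* normOne F q).range := by
    obtain ⟨k, rfl⟩ := hne
    rintro _ ⟨u, rfl⟩
    exact ⟨u ^ k, by simp only [powMonoidHom_apply, ← pow_mul, mul_two]⟩
  have h := Subgroup.relIndex_mul_index hle
  rw [index_normOne_pow hF, index_normOne_pow hF] at h
  have h2 : Nat.gcd 2 (q + 1) = 2 := by
    rw [Nat.gcd_eq_left_iff_dvd]
    obtain ⟨k, hk⟩ := hodd
    exact ⟨k + 1, by omega⟩
  rw [h2] at h
  rw [← h, Nat.mul_div_cancel _ two_pos]

theorem class_splitting (hF : Fintype.card F = q ^ 2) (hn : 3 ≤ n) (hex : n = 3 → q ≠ 2)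
    (hF₀ : Fintype.card F₀ = q) (γ : MulAut (Cfsg.PSU n F q)) (hγ : Cfsg.IsGraphAutClassPSU γ)
    (hγ2 : orderOf γ = 2) :
    ((Even n ∧ Odd q ∧ Nonempty (↥(Cfsg.inndiagPSU n F q ⊓ Subgroup.centralizer {γ}) ≃*
        Cfsg.PGSp (n / 2) F₀)) →
      Cfsg.splitClassCount (Cfsg.inndiagPSU n F q) (Cfsg.Inn (Cfsg.PSU n F q)) γ =
        Nat.gcd (n / 2) (q + 1)) ∧
    ((Even n ∧ Odd q ∧ ¬ Nonempty (↥(Cfsg.inndiagPSU n F q ⊓ Subgroup.centralizer {γ}) ≃*
        Cfsg.PGSp (n / 2) F₀)) →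
      Cfsg.splitClassCount (Cfsg.inndiagPSU n F q) (Cfsg.Inn (Cfsg.PSU n F q)) γ =
        Nat.gcd n (q + 1) / 2) ∧
    (¬ (Even n ∧ Odd q) →
      Cfsg.splitClassCount (Cfsg.inndiagPSU n F q) (Cfsg.Inn (Cfsg.PSU n F q)) γ =
        Nat.gcd n (q + 1)) := by
  rw [splitClassCount_eq_detCent hn hex hF]
  obtain ⟨j, hj⟩ := exists_fixed_hom hF hF₀
  obtain ⟨A, hA⟩ := exists_model_of_class hn hex hF hj hγ hγ2
  have hgood : (A : Matrix (Fin n) (Fin n) F₀)ᵀ = (A : Matrix (Fin n) (Fin n) F₀) ∨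
      (A : Matrix (Fin n) (Fin n) F₀)ᵀ = -(A : Matrix (Fin n) (Fin n) F₀) :=
    (good_iff hn A).1 (by obtain ⟨_, _, _, h, _⟩ := hA; exact h)
  obtain ⟨e⟩ := centralizer_model hn hex hF hj hA
  obtain ⟨h, S, hS, k, l, rfl, hk, hSv⟩ := model_reps hn hex hF hj hA
  set γ := uGraph hn hex hF (uProj n hF ⟨S, hS⟩)
  set A' := ((A⁻¹ : GL (Fin n) F₀) : Matrix (Fin n) (Fin n) F₀) with hA'
  have hA'inv : ∀ s : F₀, (A : Matrix (Fin n) (Fin n) F₀)ᵀ = s • (A : Matrix (Fin n) (Fin n) F₀) →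
      s * s = 1 → A'ᵀ = s • A' := by
    intro s hs hss
    rw [hA', Matrix.coe_units_inv, Matrix.transpose_nonsing_inv, hs]
    refine Matrix.inv_eq_right_inv ?_
    rw [Matrix.smul_mul, Matrix.mul_smul, smul_smul, hss, one_smul, ← Matrix.coe_units_inv,
      Units.mul_inv]
  have hSsym : ∀ s : F₀, A'ᵀ = s • A' →
      (S : Matrix (Fin n) (Fin n) F)ᵀ = j s • (S : Matrix (Fin n) (Fin n) F) := by
    intro s hs
    rw [hSv, transpose_smul, transpose_mul, transpose_mul, transpose_transpose, coe_jGL,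
      ← Matrix.transpose_map, hs, show (s • A').map j = j s • A'.map j from
        Matrix.ext fun a b => by simp]
    simp only [Matrix.smul_mul, Matrix.mul_smul, smul_smul, mul_assoc, mul_comm (l : F)]
    rfl
  have hlow : ∀ g : GL (Fin n) F, g ∈ Cfsg.GU n F q → ∀ c : Fˣ,
      (g : Matrix (Fin n) (Fin n) F) * (S : Matrix (Fin n) (Fin n) F) *
        (g : Matrix (Fin n) (Fin n) F)ᵀ = (c : F) • (S : Matrix (Fin n) (Fin n) F) →
      ∀ u : normOne F q, (u : Fˣ) = GeneralLinearGroup.det g → u ∈ detCent hF γ := by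
    intro g hg c hc u hu
    refine Subgroup.mem_sup_left ⟨⟨g, hg⟩, Subgroup.mem_centralizer_singleton_iff.2
      ((guInn_comm_iff hn hex hF hS ⟨g, hg⟩).2 ⟨c, hc⟩), ?_⟩
    exact Subtype.ext hu.symm
  have h2of : Odd q → (2 : F₀) ≠ 0 := fun h =>
    AutPSL.Graph.two_ne_zero_of_odd_card (by rwa [hF₀])
  refine ⟨?_, ?_, fun h => ?_⟩
  · rintro ⟨⟨m, hm⟩, hodd, he⟩
    obtain rfl : n = m + m := hm
    have hdiv : (m + m) / 2 = m := by omega
    rw [hdiv] at he ⊢
    have h2 := h2of hodd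
    obtain ⟨e'⟩ := he
    rcases hgood with hAs | hAs
    · exact absurd ⟨e.symm.trans e'⟩
        (AutPSL.Graph.not_iso_of_symm (by rwa [hF₀]) hn (by omega) A hAs)
    · have hA'a : IsAltMat A' := AutPSL.Graph.isAlt_of_skew h2 (by
        rw [hA'inv (-1) (by rw [neg_one_smul, hAs]) (by ring), neg_one_smul])
      have hSa : IsAltMat (S : Matrix (Fin (m + m)) (Fin (m + m)) F) := by
        refine AutPSL.Graph.isAlt_of_skew ?_ ?_
        · intro h0; exact h2 (j.injective (by rw [map_ofNat, h0, map_zero]))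
        · rw [hSsym (-1) (by rw [hA'inv (-1) (by rw [neg_one_smul, hAs]) (by ring)]), map_neg,
            map_one, neg_one_smul]
      rw [show detCent hF γ = (powMonoidHom m : normOne F q →* normOne F q).range from ?_,
        index_normOne_pow hF]
      refine le_antisymm (sup_le ?_ ?_) ?_
      · rintro _ ⟨g, hg, rfl⟩
        obtain ⟨c, hc⟩ := (guInn_comm_iff hn hex hF hS g).1
          (Subgroup.mem_centralizer_singleton_iff.1 hg)
        exact ⟨⟨c, norm_one_of_comm (by omega) hF g.2 hS hc⟩,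
          Subtype.ext (AutPSL.Graph.det_alt (by omega) hSa c hc).symm⟩
      · rintro _ ⟨u, rfl⟩
        exact ⟨u ^ 2, by rw [powMonoidHom_apply, powMonoidHom_apply, ← pow_mul]; congr 1; omega⟩
      · rintro _ ⟨c, rfl⟩
        obtain ⟨g, hg, hgS⟩ := exists_unitary_mult hF hj (A := A) (fun lam => by
          have hsm : IsAltMat (AutPSL.Graph.glSmul lam A⁻¹ : Matrix (Fin (m + m)) (Fin (m + m)) F₀) :=
            fun v => by
              rw [AutPSL.Graph.coe_glSmul, smul_mulVec, dotProduct_smul, hA'a v, smul_zero]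
          obtain ⟨N, hN⟩ := AutPSL.Graph.congr_alt (AutPSL.Graph.glSmul lam A⁻¹) A⁻¹ hsm hA'a
          exact ⟨N, by rw [← hN, AutPSL.Graph.coe_glSmul]⟩) k l hk hSv (c : Fˣ) c.2
        exact hlow g hg (c : Fˣ) hgS _ (by
          rw [AutPSL.Graph.det_alt (by omega : m + m = 2 * m) hSa (c : Fˣ) hgS, powMonoidHom_apply,
            SubmonoidClass.coe_pow])
  · rintro ⟨⟨m, hm⟩, hodd, he⟩
    obtain rfl : n = m + m := hm
    have hdiv : (m + m) / 2 = m := by omega
    rw [hdiv] at he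
    have h2 := h2of hodd
    have hA's : A'ᵀ = A' := by
      rcases hgood with hAs | hAs
      · rw [hA'inv 1 (by rw [one_smul, hAs]) (by ring), one_smul]
      · exfalso
        refine he ?_
        let eJ : (Fin m ⊕ Fin m) ≃ Fin (m + m) := Fintype.equivFinOfCardEq (by simp)
        obtain ⟨J, hJ⟩ := AutPSL.Graph.exists_reindexed eJ (Symp.det_J_ne_zero m F₀)
        have hJa : IsAltMat (J : Matrix (Fin (m + m)) (Fin (m + m)) F₀) := by
          rw [hJ]; exact AutPSL.Graph.isAltMat_submatrix _ (AutPSL.Graph.isAltMat_J _)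
        obtain ⟨e'⟩ := AutPSL.Graph.cent_equiv_of_simForm hn eJ hJ
          (AutPSL.Graph.simForm_alt A J (AutPSL.Graph.isAlt_of_skew h2 hAs) hJa)
          (AutPSL.Graph.formSim_J m)
        exact ⟨e.trans e'⟩
    rw [show detCent hF γ =
        ((powMonoidHom (m + m) : normOne F q →* normOne F q).range).comap (powMonoidHom 2) from ?_,
      index_comap_sq_normOne hF hodd ⟨m, rfl⟩]
    refine le_antisymm (sup_le ?_ ?_) ?_
    · rintro _ ⟨g, hg, rfl⟩
      obtain ⟨c, hc⟩ := (guInn_comm_iff hn hex hF hS g).1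
        (Subgroup.mem_centralizer_singleton_iff.1 hg)
      exact ⟨⟨c, norm_one_of_comm (by omega) hF g.2 hS hc⟩, Subtype.ext (det_sq_of_comm hc).symm⟩
    · rintro _ ⟨u, rfl⟩
      exact ⟨u ^ 2, by simp only [powMonoidHom_apply, ← pow_mul, mul_comm]⟩
    · rintro u ⟨c, hc⟩
      rw [powMonoidHom_apply, powMonoidHom_apply] at hc
      obtain ⟨g, hg, hgS⟩ := exists_unitary_mult hF hj (A := A) (fun lam => by
        obtain ⟨N, hN⟩ := AutPSL.Graph.congr_symm_of_det h2 (by omega)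
          (AutPSL.Graph.glSmul lam A⁻¹) A⁻¹
          (by rw [AutPSL.Graph.coe_glSmul, transpose_smul, ← hA', hA's]) hA's
          ⟨(lam : F₀) ^ m * A'.det, by
            rw [AutPSL.Graph.coe_glSmul, det_smul, Fintype.card_fin]; ring⟩
        exact ⟨N, by rw [← hN, AutPSL.Graph.coe_glSmul]⟩) k l hk hSv (c : Fˣ) c.2
      have h1 := det_sq_of_comm hgS
      have hsq : ((GeneralLinearGroup.det g : Fˣ) : F) ^ 2 = ((u : Fˣ) : F) ^ 2 := by
        rw [← Units.val_pow_eq_pow_val, h1, ← Units.val_pow_eq_pow_val, ← SubmonoidClass.coe_pow,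
          ← SubmonoidClass.coe_pow, hc]
      rcases sq_eq_sq_iff_eq_or_eq_neg.1 hsq with h3 | h3
      · exact hlow g hg (c : Fˣ) hgS u (Units.ext h3.symm)
      · obtain ⟨N, hN, hNd⟩ := AutPSL.Graph.exists_neg_det_isometry h2 (by omega) A⁻¹ hA's
        obtain ⟨r, hr, hrS, hrd⟩ := exists_unitary_sim hF hj k l hk hSv N 1 1
          (by rw [one_smul]; exact hN) (by simp)
        have hrd' : GeneralLinearGroup.det r = -1 := by
          refine Units.ext ?_
          rw [GeneralLinearGroup.val_det_apply, hrd, ← GeneralLinearGroup.val_det_apply N, hNd]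
          simp
        refine hlow (g * r) (Subgroup.mul_mem _ hg hr) (c : Fˣ) ?_ u ?_
        · rw [Units.val_one, map_one, mul_one, mul_one, one_smul] at hrS
          rw [Units.val_mul, transpose_mul]
          set G := (g : Matrix (Fin (m + m)) (Fin (m + m)) F)
          set R := (r : Matrix (Fin (m + m)) (Fin (m + m)) F)
          calc G * R * (S : Matrix (Fin (m + m)) (Fin (m + m)) F) * (Rᵀ * Gᵀ)
              = G * (R * (S : Matrix (Fin (m + m)) (Fin (m + m)) F) * Rᵀ) * Gᵀ := by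
                simp only [mul_assoc]
            _ = _ := by rw [hrS, hgS]
        · rw [map_mul, hrd']
          refine Units.ext ?_
          rw [Units.val_mul, h3, Units.val_neg, Units.val_one]
          ring
  · rw [detCent_pow_n hn hex hF hS ?_, index_normOne_pow hF]
    by_cases hne : Even n
    · right
      have hq : ¬ Odd q := fun h' => h ⟨hne, h'⟩
      obtain ⟨p, f, hp, hch, hqp⟩ := Herm.exists_prime_pow_root hF
      have hp2 : p = 2 := hp.eq_two_or_odd'.resolve_right fun h' => hq (hqp ▸ h'.pow)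
      exact hp2 ▸ hch
    · exact Or.inl (Nat.not_even_iff_odd.1 hne)

end CfsgLib.Known.AutPSU
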