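import Cfsg.Agent.Lib.Known.AutPSU.Out
import Cfsg.Agent.Lib.Known.AutPSU.GraphSplit
import Cfsg.Agent.Lib.Known.AutPSL.FieldCent
import Cfsg.Agent.Lib.Known.Descent

/-!
# Centralisers of field automorphisms of odd prime order of `PSU`
-/

set_option autoImplicit false
set_option linter.unusedSectionVars false

open Matrix

namespace CfsgLib.Known.AutPSU.FieldCent

open CfsgLib.Classical
open CfsgLib.Known.AutPSL (glMap coe_glMap)

variable {n : ℕ} {F : Type*} [Field F] [Fintype F] {q : ℕ} (hF : Fintype.card F = q ^ 2)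
  (hn : 3 ≤ n) (hex : n = 3 → q ≠ 2)

/-- the standard field automorphisms -/
noncomputable def fieldU (n : ℕ) (hF : Fintype.card F = q ^ 2) : (F ≃+* F) →* MulAut (Cfsg.PSU n F q) where
  toFun σ := uSemi hF (1 : uGL n hF) σ
  map_one' := uSemi_one hF
  map_mul' σ τ := by rw [uSemi_mul, map_one, mul_one]; rfl

include hn hex in
theorem fieldU_injective : Function.Injective (fieldU n hF) :=
  (injective_iff_map_eq_one _).2 fun σ h => ((uSemi_eq_one_iff hF hn hex 1 σ).1 h).1

include hF hn hex in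
theorem inndiag_normal : (Cfsg.inndiagPSU n F q).Normal := by
  rw [inndiagPSU_eq hF hn hex]
  refine ⟨?_⟩
  rintro _ ⟨g, rfl⟩ β
  obtain ⟨h, θ, -, rfl⟩ := exists_semi hF hn hex β
  refine ⟨h * uMap hF θ g * h⁻¹, ?_⟩
  rw [eq_mul_inv_iff_mul_eq, uInn_apply, uInn_apply, uSemi_mul, uSemi_mul,
    show uMap hF (RingEquiv.refl F) h = h from Subtype.ext (Units.ext (Matrix.ext fun i j => rfl)),
    inv_mul_cancel_right]
  rfl

include hn hex in
/-- the unitary matrices commuting with a field automorphism -/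
theorem comm_fieldU_iff (σ : F ≃+* F) (g : Cfsg.GU n F q) :
    guInn n hF g * fieldU n hF σ = fieldU n hF σ * guInn n hF g ↔
      ∃ c : Fˣ, ((g : GL (Fin n) F) : Matrix (Fin n) (Fin n) F).map σ =
        (c : F) • ((g : GL (Fin n) F) : Matrix (Fin n) (Fin n) F) := by
  show uSemi hF (Subgroup.inclusion (GU_le_uGL hF) g) (RingEquiv.refl F) * uSemi hF 1 σ =
    uSemi hF 1 σ * uSemi hF (Subgroup.inclusion (GU_le_uGL hF) g) (RingEquiv.refl F) ↔ _
  rw [uSemi_mul, uSemi_mul, uSemi_eq_iff hF hn hex, map_one, mul_one, one_mul]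
  refine ⟨fun ⟨_, h⟩ => ?_, fun h => ⟨RingEquiv.ext fun _ => rfl, ?_⟩⟩
  · exact (pr_eq_iff (g : GL (Fin n) F) (glMap σ (g : GL (Fin n) F))).1 h
  · exact (pr_eq_iff (g : GL (Fin n) F) (glMap σ (g : GL (Fin n) F))).2 h

variable {F₀ : Type*} [Field F₀] [Fintype F₀] {q₀ : ℕ} (hF₀ : Fintype.card F₀ = q₀ ^ 2)
  (j : F₀ →+* F) {σ : F ≃+* F} (hj : ∀ a : F, σ a = a ↔ a ∈ j.range)
  (hjf : ∀ x : F₀, frob hF (j x) = j (frob hF₀ x))

include hjf in
theorem map_mem_GU_iff (h : GL (Fin n) F₀) :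
    GeneralLinearGroup.map j h ∈ Cfsg.GU n F q ↔ h ∈ Cfsg.GU n F₀ q₀ := by
  rw [AutPSL.mem_GU_iff' (frob hF) (frob_apply hF), AutPSL.mem_GU_iff' (frob hF₀) (frob_apply hF₀),
    show ((GeneralLinearGroup.map j h : GL (Fin n) F) : Matrix (Fin n) (Fin n) F) =
      (h : Matrix (Fin n) (Fin n) F₀).map j from rfl,
    show ((h : Matrix (Fin n) (Fin n) F₀).map j).map (frob hF) =
      ((h : Matrix (Fin n) (Fin n) F₀).map (frob hF₀)).map j from Matrix.ext fun a b => hjf _,
    ← Matrix.transpose_map (f := ⇑j), ← Matrix.map_mul]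
  refine ⟨fun e => Matrix.map_injective j.injective (?_ : _ = _), fun e => by
    rw [e, Matrix.map_one _ (map_zero j) (map_one j)]⟩
  show (_ : Matrix (Fin n) (Fin n) F₀).map j = (1 : Matrix (Fin n) (Fin n) F₀).map j
  rw [e, Matrix.map_one _ (map_zero j) (map_one j)]

/-- the embedding of the small unitary group -/
noncomputable def emb : Cfsg.GU n F₀ q₀ →* Cfsg.GU n F q :=
  ((GeneralLinearGroup.map j).comp (Cfsg.GU n F₀ q₀).subtype).codRestrict _
    fun h => (map_mem_GU_iff hF hF₀ j hjf (h : GL (Fin n) F₀)).2 h.2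

theorem scalar_val {K : Type*} [Field K] (v : Kˣ) :
    ((GeneralLinearGroup.scalar (Fin n) v : GL (Fin n) K) : Matrix (Fin n) (Fin n) K) = (v : K) • 1 := by
  ext a b
  by_cases hab : a = b <;> simp [hab]

include hF in
theorem scalar_mem {u : Fˣ} (hu : u ∈ normOne F q) : GeneralLinearGroup.scalar (Fin n) u ∈ Cfsg.GU n F q := by
  rw [AutPSL.mem_GU_iff' (frob hF) (frob_apply hF), scalar_val, Matrix.map_smul' _ _ _ (map_mul (frob hF)),
    Matrix.map_one _ (map_zero _) (map_one _), transpose_smul, transpose_one, Matrix.smul_mul, one_mul, smul_smul,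
    (mem_normOne_iff hF u).1 hu, Units.mul_inv, one_smul]

include hn hj hjf in
theorem decompose (g : Cfsg.GU n F q)
    (hg : ∃ c : Fˣ, ((g : GL (Fin n) F) : Matrix (Fin n) (Fin n) F).map σ =
      (c : F) • ((g : GL (Fin n) F) : Matrix (Fin n) (Fin n) F)) :
    ∃ (u : normOne F q) (h : Cfsg.GU n F₀ q₀),
      g = ⟨_, scalar_mem hF u.2⟩ * emb hF hF₀ j hjf h := by
  obtain ⟨⟨c, _, hcu, hcv⟩, hc⟩ := hg
  have hc0 : c ≠ 0 := left_ne_zero_of_mul_eq_one hcu
  set G := ((g : GL (Fin n) F) : Matrix (Fin n) (Fin n) F) with hG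
  change G.map σ = c • G at hc
  have hσf : ∀ x : F, σ (frob hF x) = frob hF (σ x) := fun x => (frob_comm hF σ x).symm
  have hGu := (AutPSL.mem_GU_iff' (frob hF) (frob_apply hF) _).1 g.2
  change G * (G.map (frob hF))ᵀ = 1 at hGu
  obtain ⟨a, b, hab⟩ : ∃ a b, G a b ≠ 0 := by
    by_contra hcon
    simp only [not_exists, not_not] at hcon
    haveI : Nonempty (Fin n) := ⟨⟨0, by omega⟩⟩
    exact (g : GL (Fin n) F).ne_zero (Matrix.ext hcon)
  have hcc : c * frob hF c = 1 := by
    have h1 := congrArg (fun M : Matrix (Fin n) (Fin n) F => M.map σ) hGu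
    rw [Matrix.map_mul, Matrix.map_one _ (map_zero σ) (map_one σ),
      show ((G.map (frob hF))ᵀ).map σ = ((G.map σ).map (frob hF))ᵀ from
        Matrix.ext fun a b => hσf _, hc,
      Matrix.map_smul' _ _ _ (map_mul (frob hF)), transpose_smul, Matrix.smul_mul, Matrix.mul_smul,
      hGu, smul_smul] at h1
    simpa using congrFun₂ h1 ⟨0, by omega⟩ ⟨0, by omega⟩
  set d := G a b
  have hd : σ d = c * d := congrFun₂ hc a b
  obtain ⟨s, hs⟩ := (hj (d * frob hF d)).1 (by
    rw [map_mul, hσf, hd, map_mul]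
    linear_combination (d * frob hF d) * hcc)
  have hs0 : s ≠ 0 := fun h => by
    rw [h, map_zero, eq_comm, mul_eq_zero, map_eq_zero] at hs
    exact hab (hs.elim id id)
  have hsfix : frob hF₀ s = s := j.injective (by rw [← hjf, hs, map_mul, frob_frob, mul_comm])
  obtain ⟨e, he0, he⟩ := Descent.exists_fieldNorm_eq (frob hF₀) (orderOf_frob hF₀) two_pos
    (inv_ne_zero hs0) (by rw [map_inv₀, hsfix])
  have he' : e * frob hF₀ e = s⁻¹ := by
    rw [← he, Descent.fieldNorm, Finset.prod_range_succ, Finset.prod_range_succ,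
      Finset.prod_range_zero, one_mul, pow_zero, pow_one]
    rfl
  set d' := d * j e
  have hd'0 : d' ≠ 0 := mul_ne_zero hab (by simpa using he0)
  have hd' : d' * frob hF d' = 1 := by
    show d * j e * frob hF (d * j e) = 1
    rw [map_mul, hjf, mul_mul_mul_comm, ← map_mul j, he', ← hs, ← map_mul, mul_inv_cancel₀ hs0, map_one]
  have hd'σ : σ d' = c * d' := by
    show σ (d * j e) = _
    rw [map_mul, hd, (hj (j e)).2 ⟨e, rfl⟩, mul_assoc]
  have hfix : ∀ a b, ∃ m : F₀, j m = d'⁻¹ * G a b := fun a b => (hj _).1 (by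
    rw [map_mul, map_inv₀, hd'σ, show σ (G a b) = c * G a b from congrFun₂ hc a b]
    field_simp)
  choose m hm using hfix
  have hM₀ : (Matrix.of m).map j = d'⁻¹ • G := Matrix.ext fun a b => hm a b
  have hdet : (Matrix.of m).det ≠ 0 := fun h => by
    have h1 := congrArg j h
    rw [RingHom.map_det, map_zero, RingHom.mapMatrix_apply, hM₀, det_smul] at h1
    exact mul_ne_zero (pow_ne_zero _ (inv_ne_zero hd'0))
      (GeneralLinearGroup.det (g : GL (Fin n) F)).ne_zero h1
  have hu : (Units.mk0 d' hd'0) ∈ normOne F q :=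
    (mem_normOne_iff hF _).2 (by
      rw [Units.val_inv_eq_inv_val, Units.val_mk0]
      exact eq_inv_of_mul_eq_one_right hd')
  let h₀ : GL (Fin n) F₀ := GeneralLinearGroup.mkOfDetNeZero (Matrix.of m) hdet
  have key : GeneralLinearGroup.map j h₀ =
      (GeneralLinearGroup.scalar (Fin n) (Units.mk0 d' hd'0))⁻¹ * (g : GL (Fin n) F) := by
    rw [eq_inv_mul_iff_mul_eq]
    refine Units.ext ?_
    rw [Units.val_mul, scalar_val]
    show _ * (Matrix.of m).map j = G
    rw [hM₀, Matrix.mul_smul, Matrix.smul_mul, one_mul, smul_smul, Units.val_mk0, inv_mul_cancel₀ hd'0, one_smul]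
  have hh₀ : h₀ ∈ Cfsg.GU n F₀ q₀ := (map_mem_GU_iff hF hF₀ j hjf h₀).1 (by
    rw [key]
    exact Subgroup.mul_mem _ (Subgroup.inv_mem _ (scalar_mem hF hu)) g.2)
  refine ⟨⟨_, hu⟩, ⟨h₀, hh₀⟩, Subtype.ext ?_⟩
  show (g : GL (Fin n) F) = _ * GeneralLinearGroup.map j h₀
  rw [key, mul_inv_cancel_left]

include hn hex in
theorem guInn_eq_one_iff (g : Cfsg.GU n F q) :
    guInn n hF g = 1 ↔ ∃ c : Fˣ, ((g : GL (Fin n) F) : Matrix (Fin n) (Fin n) F) = (c : F) • 1 := by
  rw [← pr_eq_one_iff]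
  exact (uSemi_eq_one_iff hF hn hex (Subgroup.inclusion (GU_le_uGL hF) g) (RingEquiv.refl F)).trans
    ⟨fun h => h.2, fun h => ⟨rfl, h⟩⟩

include hn hex hj hjf in
theorem nonempty_centralizer :
    Nonempty (↥(Cfsg.inndiagPSU n F q ⊓ Subgroup.centralizer {fieldU n hF σ}) ≃* Cfsg.PGU n F₀ q₀) := by
  rw [← range_guInn hn hex hF]
  have hmem : ∀ h, guInn n hF (emb hF hF₀ j hjf h) * fieldU n hF σ =
      fieldU n hF σ * guInn n hF (emb hF hF₀ j hjf h) := fun h =>
    (comm_fieldU_iff hF hn hex σ _).2 ⟨1, by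
      rw [Units.val_one, one_smul]
      exact Matrix.ext fun a b => (hj _).2 ⟨_, rfl⟩⟩
  let Φ : Cfsg.GU n F₀ q₀ →* ↥((guInn n hF).range ⊓ Subgroup.centralizer {fieldU n hF σ}) :=
    ((guInn n hF).comp (emb hF hF₀ j hjf)).codRestrict _ fun h =>
      ⟨⟨_, rfl⟩, Subgroup.mem_centralizer_singleton_iff.2 (hmem h)⟩
  have hΦ : Function.Surjective Φ := by
    rintro ⟨β, ⟨g, rfl⟩, hc⟩
    obtain ⟨u, h, rfl⟩ := decompose hF hn hF₀ j hj hjf g
      ((comm_fieldU_iff hF hn hex σ g).1 (Subgroup.mem_centralizer_singleton_iff.1 hc))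
    refine ⟨h, Subtype.ext ?_⟩
    show guInn n hF (emb hF hF₀ j hjf h) = guInn n hF (_ * _)
    rw [map_mul, (guInn_eq_one_iff hF hn hex ⟨_, scalar_mem hF u.2⟩).2 ⟨u, scalar_val _⟩, one_mul]
  have hk : Φ.ker = (Cfsg.Geo.scalars (Fin n) F₀).subgroupOf (Cfsg.GU n F₀ q₀) := by
    ext h
    rw [MonoidHom.mem_ker, ← Subtype.coe_inj, Subgroup.mem_subgroupOf, Cfsg.Geo.mem_scalars_iff]
    show guInn n hF (emb hF hF₀ j hjf h) = 1 ↔ _
    rw [guInn_eq_one_iff hF hn hex]
    constructor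
    · rintro ⟨c, hc⟩
      change ((h : GL (Fin n) F₀) : Matrix (Fin n) (Fin n) F₀).map j = _ at hc
      let i0 : Fin n := ⟨0, by omega⟩
      have h2 : j ((h : GL (Fin n) F₀).1 i0 i0) = (c : F) := by simpa using congrFun₂ hc i0 i0
      refine ⟨Units.mk0 ((h : GL (Fin n) F₀).1 i0 i0) fun h0 => c.ne_zero (by rw [← h2, h0, map_zero]), ?_⟩
      ext a b
      apply j.injective
      have h1 := congrFun₂ hc a b
      rw [Matrix.map_apply] at h1
      rw [h1]
      by_cases hab : a = b <;> simp [hab, h2]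
    · rintro ⟨c, hc⟩
      refine ⟨Units.map (j : F₀ →* F) c, ?_⟩
      show ((h : GL (Fin n) F₀) : Matrix (Fin n) (Fin n) F₀).map j = _
      rw [hc, Matrix.map_smul' _ _ _ (map_mul j), Matrix.map_one _ (map_zero _) (map_one _)]
      rfl
  exact ⟨((QuotientGroup.quotientMulEquivOfEq hk.symm).trans
    (QuotientGroup.quotientKerEquivOfSurjective Φ hΦ)).symm⟩

include hn hex hj hjf in
theorem split_count {E : ℕ} (hE : (q₀ + 1) * E = q + 1) :
    Cfsg.splitClassCount (Cfsg.inndiagPSU n F q) (Cfsg.Inn (Cfsg.PSU n F q)) (fieldU n hF σ) = Nat.gcd n E := by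
  rw [splitClassCount_eq_detCent hn hex hF]
  have hsub : detCent hF (fieldU n hF σ) =
      (powMonoidHom E : normOne F q →* normOne F q).range ⊔ (powMonoidHom n : normOne F q →* normOne F q).range := by
    have hker := ClassSplit.ker_pow_eq_range_pow (A := normOne F q) (d := q₀ + 1) (e := E)
      (by rw [hE, card_normOne hF])
    refine le_antisymm (sup_le ?_ le_sup_right) (sup_le ?_ le_sup_right)
    · rintro _ ⟨g, hg, rfl⟩
      obtain ⟨u, h, rfl⟩ := decompose hF hn hF₀ j hj hjf g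
        ((comm_fieldU_iff hF hn hex σ g).1 (Subgroup.mem_centralizer_singleton_iff.1 hg))
      rw [map_mul]
      refine Subgroup.mul_mem _ (Subgroup.mem_sup_right ⟨u, Subtype.ext (Units.ext ?_)⟩)
        (Subgroup.mem_sup_left ?_)
      · rw [powMonoidHom_apply, SubmonoidClass.coe_pow, Units.val_pow_eq_pow_val, coe_detU,
          GeneralLinearGroup.val_det_apply]
        show _ = ((GeneralLinearGroup.scalar (Fin n) (u : Fˣ) : GL (Fin n) F) : Matrix (Fin n) (Fin n) F).det
        rw [scalar_val, det_smul, Fintype.card_fin, det_one, mul_one]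
      · rw [← hker, MonoidHom.mem_ker, powMonoidHom_apply]
        refine Subtype.ext (Units.ext ?_)
        rw [SubmonoidClass.coe_pow, coe_detU, Units.val_pow_eq_pow_val, GeneralLinearGroup.val_det_apply]
        show (((h : GL (Fin n) F₀) : Matrix (Fin n) (Fin n) F₀).map j).det ^ (q₀ + 1) = 1
        rw [show ((h : GL (Fin n) F₀) : Matrix (Fin n) (Fin n) F₀).map j =
          j.mapMatrix ((h : GL (Fin n) F₀) : Matrix (Fin n) (Fin n) F₀) from rfl, ← RingHom.map_det, ← map_pow,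
          ← GeneralLinearGroup.val_det_apply, ← Units.val_pow_eq_pow_val]
        rw [show (GeneralLinearGroup.det (h : GL (Fin n) F₀)) ^ (q₀ + 1) = 1 from
          det_mem_normOne hF₀ h, Units.val_one, map_one]
    · rw [← hker]
      intro w hw
      -- the elements of order dividing `q₀ + 1` come from the small field
      have hw' : ((w : Fˣ) : F) ^ (q₀ + 1) = 1 := by
        have h1 := congrArg (fun x : normOne F q => ((x : Fˣ) : F)) (MonoidHom.mem_ker.1 hw)
        simpa using h1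
      obtain ⟨s, hs⟩ := (hj ((w : Fˣ) : F)).1 (by
        classical
        let U := Units.map (j : F₀ →* F)
        have hcard : Nat.card (U.comp (normOne F₀ q₀).subtype).range = q₀ + 1 := by
          rw [← Nat.card_congr (MonoidHom.ofInjective
            (show Function.Injective (U.comp (normOne F₀ q₀).subtype) from fun a b h => Subtype.ext (Units.map_injective (f := (j : F₀ →* F)) j.injective h))).toEquiv,
            card_normOne hF₀]
        have hle : (U.comp (normOne F₀ q₀).subtype).range ≤ (powMonoidHom (q₀ + 1) : Fˣ →* Fˣ).ker := by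
          rintro _ ⟨x, rfl⟩
          show U (x : F₀ˣ) ^ (q₀ + 1) = 1
          rw [← map_pow, show (x : F₀ˣ) ^ (q₀ + 1) = 1 from x.2, map_one]
        have heq := Subgroup.eq_of_le_of_card_ge hle (by
          rw [hcard, IsCyclic.card_powMonoidHom_ker]
          exact Nat.gcd_le_right _ (Nat.succ_pos _))
        have hwm : (w : Fˣ) ∈ (powMonoidHom (q₀ + 1) : Fˣ →* Fˣ).ker :=
          Units.ext (by rw [powMonoidHom_apply, Units.val_pow_eq_pow_val]; exact hw')
        rw [← heq] at hwm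
        obtain ⟨x, hx⟩ := hwm
        rw [← hx]
        exact (hj _).2 ⟨_, rfl⟩)
      have hs0 : s ≠ 0 := fun h0 => (w : Fˣ).ne_zero (by rw [← hs, h0, map_zero])
      have hs1 : Units.mk0 s hs0 ∈ normOne F₀ q₀ := by
        refine MonoidHom.mem_ker.2 (Units.ext (j.injective ?_))
        rw [powMonoidHom_apply, Units.val_pow_eq_pow_val, Units.val_mk0, map_pow, hs, hw', Units.val_one, map_one]
      obtain ⟨h, hh⟩ := detU_surjective (n := n) (by omega) hF₀ ⟨_, hs1⟩
      refine Subgroup.mem_sup_left ⟨emb hF hF₀ j hjf h, Subgroup.mem_centralizer_singleton_iff.2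
        ((comm_fieldU_iff hF hn hex σ _).2 ⟨1, by
          rw [Units.val_one, one_smul]
          exact Matrix.ext fun a b => (hj _).2 ⟨_, rfl⟩⟩), Subtype.ext (Units.ext ?_)⟩
      rw [coe_detU, GeneralLinearGroup.val_det_apply]
      show (((h : GL (Fin n) F₀) : Matrix (Fin n) (Fin n) F₀).map j).det = _
      rw [show ((h : GL (Fin n) F₀) : Matrix (Fin n) (Fin n) F₀).map j =
        j.mapMatrix ((h : GL (Fin n) F₀) : Matrix (Fin n) (Fin n) F₀) from rfl, ← RingHom.map_det,
        ← GeneralLinearGroup.val_det_apply, ← coe_detU hF₀, hh, ← hs, Units.val_mk0]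
  rw [hsub, ClassSplit.range_pow_sup_range_pow, ClassSplit.index_range_pow, card_normOne hF, Nat.gcd_comm E n]
  exact Nat.gcd_eq_right ((Nat.gcd_dvd_right n E).trans ⟨q₀ + 1, by rw [← hE, mul_comm]⟩)

include hn hex in
theorem field_full {p f : ℕ} [Fact p.Prime] (hq : q = p ^ f) (hf : 1 ≤ f) (x : MulAut (Cfsg.PSU n F q))
    (hx : Cfsg.IsFieldAutClassPSU x) {r : ℕ} (hr : r.Prime) (hro : Odd r) (hxr : orderOf x = r)
    (hK : Fintype.card F₀ = p ^ (2 * (f / r))) (hF' : Fintype.card F = q ^ 2) :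
    r ∣ f ∧ Nonempty (↥(Cfsg.inndiagPSU n F q ⊓ Subgroup.centralizer {x}) ≃* Cfsg.PGU n F₀ (p ^ (f / r))) ∧
      Cfsg.splitClassCount (Cfsg.inndiagPSU n F q) (Cfsg.Inn (Cfsg.PSU n F q)) x =
        Nat.gcd n ((q + 1) / (p ^ (f / r) + 1)) := by
  obtain ⟨a, φ, σ, -, -, hφ, hz⟩ := hx
  rw [isFieldAutPSUOf_iff hF'] at hφ
  change φ = fieldU n hF' σ at hφ
  subst hφ
  have hord : orderOf σ = r := by
    rw [← orderOf_injective _ (fieldU_injective hF' hn hex) σ, ← hz]
    exact ((MulAut.conj a).orderOf_eq x).trans hxr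
  have hcard : Fintype.card F = p ^ (2 * f) := by rw [hF', hq, ← pow_mul, mul_comm]
  obtain ⟨hdvd2, -⟩ := AutPSL.exists_fixed_field hcard (by omega) σ hord
  have hdvd : r ∣ f := ((Nat.Coprime.dvd_mul_left (Nat.coprime_two_right.2 hro)).1 hdvd2)
  obtain ⟨j, hj⟩ := AutPSL.exists_fixed_embedding hcard (by omega) σ hord F₀
    (by rw [hK, Nat.mul_div_assoc 2 hdvd])
  set q₀ := p ^ (f / r) with hq₀
  have hK' : Fintype.card F₀ = q₀ ^ 2 := by rw [hK, hq₀, ← pow_mul, mul_comm]
  have hqq : q = q₀ ^ r := by rw [hq, hq₀, ← pow_mul, Nat.div_mul_cancel hdvd]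
  have hjf : ∀ x : F₀, frob hF' (j x) = j (frob hK' x) := by
    intro x
    rw [frob_apply, frob_apply, map_pow, hqq]
    obtain ⟨l, hl⟩ := hro
    have h2 : ∀ m : ℕ, x ^ ((q₀ ^ 2) ^ m) = x := by
      intro m
      induction m with
      | zero => rw [pow_zero, pow_one]
      | succ m ih => rw [pow_succ, pow_mul, ih, ← hK', FiniteField.pow_card]
    rw [hl, pow_succ, pow_mul q₀ 2 l, pow_mul, ← map_pow, ← map_pow, h2, map_pow]
  haveI : (Cfsg.inndiagPSU n F q).Normal := inndiag_normal hF' hn hex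
  refine ⟨hdvd, ?_, ?_⟩
  · obtain ⟨c⟩ := ClassSplit.nonempty_centralizer_conj (Cfsg.inndiagPSU n F q) a x
    rw [hz] at c
    obtain ⟨e⟩ := nonempty_centralizer hF' hn hex hK' j hj hjf
    exact ⟨c.trans e⟩
  · rw [← ClassSplit.splitClassCount_conj _ _ a, hz]
    refine split_count hF' hn hex hK' j hj hjf (Nat.mul_div_cancel' ?_)
    rw [hqq]
    simpa using hro.nat_add_dvd_pow_add_pow q₀ 1

end CfsgLib.Known.AutPSU.FieldCent
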