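import Cfsg.Agent.Lib.Known.AutPSU.Out
import Cfsg.Agent.Lib.Known.AutPSU.GraphSplit
import Cfsg.Agent.Lib.Known.AutPSL.FieldClass
import Cfsg.Agent.Lib.Known.Descent

/-!
# Elements of prime order in the coset of a field automorphism of `PSU`
-/

set_option autoImplicit false
set_option linter.unusedSectionVars false

open Matrix

namespace CfsgLib.Known.AutPSU.FieldCoset

open CfsgLib.Classical
open CfsgLib.Known.AutPSL (glMap glIota coe_glMap)

variable {n : ℕ} {F : Type*} [Field F] [Fintype F] {q : ℕ} (hF : Fintype.card F = q ^ 2)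

include hF

theorem inndiag_eq_ker (hn : 3 ≤ n) (hex : n = 3 → q ≠ 2)
    {ψ : MulAut (Cfsg.PSU n F q) →* (F ≃+* F)} (hψ : ∀ g θ, ψ (uSemi hF g θ) = θ) :
    Cfsg.inndiagPSU n F q = ψ.ker := by
  rw [inndiagPSU_eq hF hn hex]
  ext β
  constructor
  · rintro ⟨g, rfl⟩
    rw [MonoidHom.mem_ker, uInn_apply, hψ]
    rfl
  · intro h
    obtain ⟨g, θ, -, rfl⟩ := exists_semi hF hn hex β
    rw [MonoidHom.mem_ker, hψ] at h
    subst h
    exact ⟨g, rfl⟩

theorem uSemi_pow (g : uGL n hF) (σ : F ≃+* F) (r : ℕ) :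
    ∃ N : uGL n hF, ((N : GL (Fin n) F) : Matrix (Fin n) (Fin n) F) =
      Descent.normMat ((g : GL (Fin n) F) : Matrix (Fin n) (Fin n) F) σ r ∧
      uSemi hF g σ ^ r = uSemi hF N (σ ^ r) := by
  induction r with
  | zero => exact ⟨1, rfl, by rw [pow_zero, pow_zero]; exact (uSemi_one hF).symm⟩
  | succ r ih =>
    obtain ⟨N, hN, hp⟩ := ih
    refine ⟨g * uMap hF σ N, ?_, ?_⟩
    · rw [Subgroup.coe_mul, Units.val_mul, coe_uMap, coe_glMap, hN]
      rfl
    · rw [pow_succ', hp, uSemi_mul, pow_succ']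
      rfl

/-- The descent inside the unitary similitudes. -/
theorem exists_unitary_conj {p f r : ℕ} [Fact p.Prime] (hq : q = p ^ f) (hf : 1 ≤ f) (hn : 1 ≤ n)
    (hr : r.Prime) (hr2 : r ≠ 2) (σ : F ≃+* F) (hσ : orderOf σ = r) {g : GL (Fin n) F}
    (hg : g ∈ Cfsg.GU n F q) {c : F}
    (hN : Descent.normMat (g : Matrix (Fin n) (Fin n) F) σ r = c • 1) :
    ∃ (k : GL (Fin n) F) (t : Fˣ), k ∈ uGL n hF ∧
      (g : Matrix (Fin n) (Fin n) F) * (k : Matrix (Fin n) (Fin n) F).map σ =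
        (t : F) • (k : Matrix (Fin n) (Fin n) F) := by
  classical
  haveI : Nonempty (Fin n) := ⟨⟨0, hn⟩⟩
  set τ := frob hF with hτ
  have hcard : Fintype.card F = p ^ (2 * f) := by rw [hF, hq, ← pow_mul, mul_comm]
  obtain ⟨hdvd, hc0⟩ := AutPSL.exists_fixed_field hcard (by omega) σ hσ
  set K₀ := σ.toRingHom.eqLocusField (RingHom.id F) with hK₀def
  haveI : Fintype K₀ := Fintype.ofFinite _
  obtain ⟨e, rfl⟩ : r ∣ f := ((Nat.coprime_primes hr Nat.prime_two).2 hr2).dvd_of_dvd_mul_left hdvd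
  have hK₀ : Fintype.card K₀ = (p ^ e) ^ 2 := by
    rw [← Nat.card_eq_fintype_card, hc0, ← pow_mul,
      show 2 * (r * e) = r * (e * 2) by ring, Nat.mul_div_cancel_left _ hr.pos]
  set τ₀ := frob hK₀
  have hτ₀ : ∀ x : K₀, τ (x : F) = (τ₀ x : F) := by
    intro x
    obtain ⟨l, hl⟩ := hr.odd_of_ne_two hr2
    rw [hτ, frob_apply, frob_apply, SubmonoidClass.coe_pow, hq,
      show r * e = e * 2 * l + e by rw [hl]; ring, pow_add, pow_mul p (e * 2), pow_mul (x : F)]
    congr 1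
    have h1 : x ^ p ^ (e * 2) = x := by
      have := FiniteField.pow_card x
      rwa [hK₀, ← pow_mul] at this
    clear hl
    induction l with
    | zero => rw [pow_zero, pow_one]
    | succ l ih =>
      rw [pow_succ, pow_mul, ih, ← SubmonoidClass.coe_pow, h1]
  have hτ₀ne : τ₀ ≠ RingEquiv.refl K₀ := fun h => by
    have := orderOf_frob hK₀
    rw [show frob hK₀ = τ₀ from rfl, h, show (RingEquiv.refl K₀ : K₀ ≃+* K₀) = 1 from rfl,
      orderOf_one] at this
    omega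
  have hcomm : ∀ a, σ (τ a) = τ (σ a) := fun a => (frob_comm hF σ a).symm
  obtain ⟨k, t, hk⟩ := Descent.exists_conj_of_norm_scalar σ hσ hr.pos g hN
  set G := (g : Matrix (Fin n) (Fin n) F)
  set K := (k : Matrix (Fin n) (Fin n) F)
  set H := (K.map τ)ᵀ * K with hH
  have hGu : (G.map τ)ᵀ * G = 1 := by
    have h := (AutPSL.mem_GU_iff' τ (frob_apply hF) _).1 hg
    exact mul_eq_one_comm.1 h
  have hHunit : IsUnit H :=
    ((Matrix.isUnit_transpose _).2
      (k.isUnit.map (τ.mapMatrix : Matrix (Fin n) (Fin n) F ≃+* Matrix (Fin n) (Fin n) F))).mul k.isUnit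
  have hKσ : G * K.map σ = (t : F) • K := hk
  set u := (t : F) * τ t
  have hHσ : H.map σ = u • H := by
    calc H.map σ = ((K.map σ).map τ)ᵀ * K.map σ := by
          rw [hH, Matrix.map_mul]
          congr 1
          exact Matrix.ext fun i j => hcomm _
      _ = ((G * K.map σ).map τ)ᵀ * (G * K.map σ) := by
          rw [Matrix.map_mul, transpose_mul, mul_assoc, ← mul_assoc (G.map τ)ᵀ, hGu, one_mul]
      _ = _ := by
          rw [hKσ, show ((t : F) • K).map τ = τ t • K.map τ from Matrix.ext fun i j => map_mul τ _ _,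
            transpose_smul, Matrix.smul_mul, Matrix.mul_smul, smul_smul, hH, mul_comm (τ (t : F))]
  have hherm : ∀ i j, τ (H i j) = H j i := fun i j => by
    have h : (H.map τ)ᵀ = H := by
      rw [hH, Matrix.map_mul, transpose_mul]
      congr 1
      ext a b
      simp [frob_frob hF, hτ]
    exact congrFun₂ h j i
  have hu : τ u = u := by
    show τ ((t : F) * τ t) = _
    rw [map_mul, hτ, frob_frob, mul_comm]
  have hu0 : u ≠ 0 := mul_ne_zero t.ne_zero (by simp)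
  obtain ⟨d, hd0, hdτ, hdσ⟩ : ∃ d : F, d ≠ 0 ∧ τ d = d ∧ σ d = u * d := by
    obtain ⟨a, b, hab⟩ : ∃ a b, H a b ≠ 0 := by
      by_contra hcon
      push Not at hcon
      exact hHunit.ne_zero (Matrix.ext hcon)
    set s := H a b
    have hs : σ s = u * s := congrFun₂ hHσ a b
    have key : ∀ z : F, σ z = z → z * s + τ (z * s) ≠ 0 →
        ∃ d : F, d ≠ 0 ∧ τ d = d ∧ σ d = u * d := fun z hz h =>
      ⟨_, h, by rw [map_add, hτ, frob_frob, add_comm],
        by rw [map_add, hcomm, map_mul σ z, hz, hs, show z * (u * s) = u * (z * s) by ring,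
          map_mul τ u, hu, mul_add]⟩
    by_cases h1 : s + τ s = 0
    · obtain ⟨z, hz⟩ : ∃ z : K₀, τ₀ z ≠ z := by
        by_contra hcon
        push Not at hcon
        exact hτ₀ne (RingEquiv.ext hcon)
      refine key z z.2 ?_
      rw [map_mul, hτ₀, eq_neg_of_add_eq_zero_right h1, mul_neg, ← sub_eq_add_neg, ← sub_mul]
      exact mul_ne_zero (sub_ne_zero.2 fun e => hz (Subtype.ext e.symm)) hab
    · exact key 1 (map_one σ) (by rwa [one_mul])
  -- the form over the fixed field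
  let M₀ : Matrix (Fin n) (Fin n) K₀ := Matrix.of fun i j => ⟨d⁻¹ * H i j, by
    show σ (d⁻¹ * H i j) = d⁻¹ * H i j
    rw [map_mul, map_inv₀, hdσ, show σ (H i j) = u * H i j from congrFun₂ hHσ i j]
    field_simp⟩
  let j₀ : K₀ →+* F := K₀.subtype
  have hM₀ : M₀.map j₀ = d⁻¹ • H := rfl
  have hdet : M₀.det ≠ 0 := fun h => by
    have h1 := congrArg j₀ h
    rw [RingHom.map_det, map_zero, RingHom.mapMatrix_apply, hM₀, det_smul] at h1
    exact mul_ne_zero (pow_ne_zero _ (inv_ne_zero hd0))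
      ((Matrix.isUnit_iff_isUnit_det _).1 hHunit).ne_zero h1
  obtain ⟨h, hh⟩ := Descent.exists_hermitian_factor τ₀ hτ₀ne (frob_frob hK₀)
    (GeneralLinearGroup.mkOfDetNeZero M₀ hdet) (by
      ext i j
      show ((τ₀ (M₀ j i) : K₀) : F) = d⁻¹ * H i j
      rw [← hτ₀]
      show τ (d⁻¹ * H j i) = _
      rw [map_mul, map_inv₀, hdτ, hherm])
  let hG : GL (Fin n) F := GeneralLinearGroup.map j₀ h
  set A := (hG : Matrix (Fin n) (Fin n) F) with hA
  set A' := ((hG⁻¹ : GL (Fin n) F) : Matrix (Fin n) (Fin n) F) with hA'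
  have hAA : d⁻¹ • H = A * (A.map τ)ᵀ := by
    rw [← hM₀, show M₀ = (h : Matrix (Fin n) (Fin n) K₀) * ((h : Matrix (Fin n) (Fin n) K₀).map τ₀)ᵀ
      from hh, Matrix.map_mul]
    congr 1
    ext i j
    exact (hτ₀ _).symm
  have hAσ : A.map σ = A := Matrix.ext fun i j => ((h : Matrix (Fin n) (Fin n) K₀) i j).2
  have hA'σ : A'.map σ = A' := by
    have : glMap σ hG⁻¹ = hG⁻¹ := by
      rw [map_inv]
      congr 1
      exact Units.ext hAσ
    exact congrArg Units.val this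
  have hinv1 : A' * A = 1 := Units.inv_mul hG
  -- the corrected conjugator
  have hS : (A'.map τ)ᵀ * (A.map τ)ᵀ = 1 := by
    rw [← transpose_mul, ← Matrix.map_mul, Units.mul_inv, Matrix.map_one _ (map_zero τ) (map_one τ),
      transpose_one]
  have hS' : (A.map τ)ᵀ * (A'.map τ)ᵀ = 1 := mul_eq_one_comm.1 hS
  let T : GL (Fin n) F := ⟨(A'.map τ)ᵀ, (A.map τ)ᵀ, hS, hS'⟩
  refine ⟨k * T, t, ?_, ?_⟩
  · rw [mem_uGL_iff]
    refine ⟨Units.mk0 d hd0, ?_⟩
    set X := ((k * T : GL (Fin n) F) : Matrix (Fin n) (Fin n) F) with hX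
    have hXX : (X.map τ)ᵀ * X = d • 1 := by
      rw [hX, Units.val_mul, Matrix.map_mul, transpose_mul]
      show (((A'.map τ)ᵀ).map τ)ᵀ * (K.map τ)ᵀ * (K * (A'.map τ)ᵀ) = _
      rw [show (((A'.map τ)ᵀ).map τ)ᵀ = A' from Matrix.ext fun i j => frob_frob hF _,
        mul_assoc A', ← mul_assoc (K.map τ)ᵀ, ← hH,
        show H = d • (A * (A.map τ)ᵀ) by rw [← hAA, smul_smul, mul_inv_cancel₀ hd0, one_smul],
        Matrix.smul_mul, Matrix.mul_smul, mul_assoc A, hS', mul_one, hinv1]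
    show X.map τ = d • (((k * T)⁻¹ : GL (Fin n) F) : Matrix (Fin n) (Fin n) F)ᵀ
    have h2 : (X.map τ)ᵀ = d • (((k * T)⁻¹ : GL (Fin n) F) : Matrix (Fin n) (Fin n) F) := by
      have := congrArg (· * (((k * T)⁻¹ : GL (Fin n) F) : Matrix (Fin n) (Fin n) F)) hXX
      simp only [Matrix.smul_mul, one_mul] at this
      rwa [mul_assoc, hX, Units.mul_inv, mul_one, ← hX] at this
    rw [← transpose_transpose (X.map τ), h2, transpose_smul]
  · show G * (K * (A'.map τ)ᵀ).map σ = (t : F) • (K * (A'.map τ)ᵀ)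
    rw [Matrix.map_mul, ← mul_assoc, hKσ, Matrix.smul_mul,
      show ((A'.map τ)ᵀ).map σ = ((A'.map σ).map τ)ᵀ from Matrix.ext fun i j => hcomm _, hA'σ]

theorem orderOf_coset_iff {p f : ℕ} [Fact p.Prime] (hq : q = p ^ f) (hf : 1 ≤ f) (hn : 3 ≤ n)
    (hex : n = 3 → q ≠ 2) {x δ : MulAut (Cfsg.PSU n F q)} (hx : Cfsg.IsFieldAutClassPSU x) {r : ℕ}
    (hr : r.Prime) (hxr : orderOf x = r) (hδ : δ ∈ Cfsg.inndiagPSU n F q) :
    orderOf (δ * x) = r ↔ Cfsg.IsConjUnder (Cfsg.inndiagPSU n F q) x (δ * x) := by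
  obtain ⟨ψ, hψ⟩ := exists_field_hom hF hn hex
  have hker := inndiag_eq_ker hF hn hex hψ
  rw [hker] at hδ ⊢
  constructor
  · intro ho
    obtain ⟨a, φ, σ, hne, hodd, hφ, hz⟩ := hx
    rw [(isFieldAutPSUOf_iff hF σ φ).1 hφ] at hz
    have hzr : orderOf (uSemi hF (1 : uGL n hF) σ) = r := by
      rw [← hz]; exact ((MulAut.conj a).orderOf_eq x).trans hxr
    have hσ : orderOf σ = r := by
      have h1 : σ ^ r = 1 := by
        rw [← hψ 1 σ, ← map_pow, ← hzr, pow_orderOf_eq_one, map_one]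
      haveI := Fact.mk hr
      exact orderOf_eq_prime h1 fun h => hne h
    have hr2 : r ≠ 2 := by rintro rfl; rw [hσ] at hodd; exact absurd hodd (by decide)
    have hδ' : a * δ * a⁻¹ ∈ ψ.ker := (MonoidHom.normal_ker ψ).conj_mem δ hδ a
    obtain ⟨g, θ, hg, hgeq⟩ := exists_semi hF hn hex (a * δ * a⁻¹)
    have hθ : θ = RingEquiv.refl F := by
      rw [hgeq, MonoidHom.mem_ker, hψ] at hδ'
      exact hδ'
    subst hθ
    have he : a * (δ * x) * a⁻¹ = uSemi hF g σ := by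
      calc a * (δ * x) * a⁻¹ = (a * δ * a⁻¹) * (a * x * a⁻¹) := by group
        _ = _ := by
          rw [hgeq, hz, uSemi_mul, map_one, mul_one]
          rfl
    haveI : (ψ.ker).Normal := MonoidHom.normal_ker ψ
    rw [← ClassSplit.isConjUnder_conj_iff _ a, he, hz]
    have hgr : uSemi hF g σ ^ r = 1 := by
      rw [← he, ← ho, show a * (δ * x) * a⁻¹ = MulAut.conj a (δ * x) from rfl, ← map_pow,
        pow_orderOf_eq_one, map_one]
    obtain ⟨N, hNeq, hp⟩ := uSemi_pow hF g σ r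
    rw [hp, uSemi_eq_one_iff hF hn hex] at hgr
    obtain ⟨c, hc⟩ := (pr_eq_one_iff _).1 hgr.2
    obtain ⟨k, t, hk, hkt⟩ :=
      exists_unitary_conj hF hq hf (by omega) hr hr2 σ hσ hg (c := c) (hNeq.symm.trans hc)
    refine ⟨uInn n hF ⟨k, hk⟩, by rw [MonoidHom.mem_ker, uInn_apply, hψ]; rfl, ?_⟩
    rw [eq_mul_inv_iff_mul_eq, uInn_apply, uSemi_mul, uSemi_mul, uSemi_eq_iff hF hn hex]
    refine ⟨RingEquiv.ext fun y => rfl, ?_⟩
    show pr n F ((g : GL (Fin n) F) * glMap σ k) = pr n F (k * glMap (RingEquiv.refl F) 1)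
    rw [map_one, mul_one, eq_comm, pr_eq_iff]
    exact ⟨t, by rw [Units.val_mul, coe_glMap, hkt]⟩
  · rintro ⟨k, -, hk⟩
    rw [hk, ← hxr]
    exact (MulAut.conj k).orderOf_eq x

end CfsgLib.Known.AutPSU.FieldCoset
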