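import Cfsg.Agent.Lib.Known.AutPSU.GraphSplit
import Cfsg.Agent.Lib.Known.Descent
import Cfsg.Agent.Lib.Classical.Unitary.Matrix

/-!
# Unitary matrices sent to scalar multiples of themselves by a field automorphism of odd order
-/

set_option autoImplicit false
set_option linter.unusedSectionVars false

open Matrix

namespace CfsgLib.Known.AutPSU

open CfsgLib.Classical
open CfsgLib.Known.AutPSL (glMap coe_glMap)

/-- The number of unitary matrices whose image under `σ` is a scalar multiple of themselves. -/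
theorem card_fixed_cosets {K : Type*} [Field K] [Fintype K] {q₀ q r n : ℕ} (hr : r.Prime)
    (hr2 : r ≠ 2) (hn : 1 ≤ n) (hq : q = q₀ ^ r) (hK : Fintype.card K = q ^ 2) (σ : K ≃+* K)
    (hσ : orderOf σ = r) :
    (Nat.card {g : ↥(Cfsg.GU n K q) // ∃ c : K, c ≠ 0 ∧
        ((g : GL (Fin n) K) : Matrix (Fin n) (Fin n) K).map σ =
          c • ((g : GL (Fin n) K) : Matrix (Fin n) (Fin n) K)} : ℤ) =
      ((q + 1) / (q₀ + 1) : ℕ) *
        ((q₀ : ℤ) ^ (n * (n - 1) / 2) *
          ∏ i : Fin n, ((q₀ : ℤ) ^ ((i : ℕ) + 1) - (-1) ^ ((i : ℕ) + 1))) := by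
  classical
  -- the fixed field
  set K₀ := σ.toRingHom.eqLocusField (RingHom.id K) with hK₀def
  haveI : Fintype K₀ := Fintype.ofFinite _
  obtain ⟨p, f, hp, hcard⟩ : ∃ p f : ℕ, p.Prime ∧ Fintype.card K = p ^ f := by
    obtain ⟨m, hp, hm⟩ := FiniteField.card K (ringChar K)
    exact ⟨_, m, hp, hm⟩
  haveI : Fact p.Prime := ⟨hp⟩
  have hf : 1 ≤ f := by
    rcases Nat.eq_zero_or_pos f with rfl | h
    · exact absurd (Fintype.one_lt_card (α := K)) (by rw [hcard, pow_zero]; omega)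
    · exact h
  obtain ⟨hdvd, hc0⟩ := AutPSL.exists_fixed_field hcard hf σ hσ
  have hK₀ : Fintype.card K₀ = q₀ ^ 2 := by
    rw [← Nat.card_eq_fintype_card, hc0]
    refine Nat.pow_left_injective hr.ne_zero ?_
    show (p ^ (f / r)) ^ r = (q₀ ^ 2) ^ r
    rw [← pow_mul, Nat.div_mul_cancel hdvd, ← hcard, hK, hq, ← pow_mul, ← pow_mul, mul_comm r 2]
  let j : K₀ →+* K := K₀.subtype
  have hjfix : ∀ x : K₀, σ (j x) = j x := fun x => x.2
  have hjsurj : ∀ x : K, σ x = x → ∃ y : K₀, j y = x := fun x hx => ⟨⟨x, hx⟩, rfl⟩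
  have hjinj : Function.Injective j := j.injective
  have hrodd : Odd r := hr.odd_of_ne_two hr2
  have hjfrob : ∀ x : K₀, frob hK (j x) = j (frob hK₀ x) := by
    intro x
    obtain ⟨l, hl⟩ := hrodd
    rw [frob_apply, frob_apply, map_pow, hq, hl, pow_succ, pow_mul, pow_mul]
    congr 1
    have h1 : x ^ (q₀ ^ 2) = x := by rw [← hK₀, FiniteField.pow_card]
    have h2 : ∀ m : ℕ, x ^ ((q₀ ^ 2) ^ m) = x := by
      intro m
      induction m with
      | zero => rw [pow_zero, pow_one]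
      | succ m ih => rw [pow_succ, pow_mul, ih, h1]
    rw [← map_pow, h2]
  have hσfrob : ∀ x : K, σ (frob hK x) = frob hK (σ x) := fun x => by
    rw [frob_apply, frob_apply, map_pow]
  -- the embedding of the smaller unitary group
  have hmemGU : ∀ h : GL (Fin n) K₀, h ∈ Cfsg.GU n K₀ q₀ ↔ GeneralLinearGroup.map j h ∈ Cfsg.GU n K q := by
    intro h
    rw [AutPSL.mem_GU_iff' (frob hK) (frob_apply hK), AutPSL.mem_GU_iff' (frob hK₀) (frob_apply hK₀),
      show ((GeneralLinearGroup.map j h : GL (Fin n) K) : Matrix (Fin n) (Fin n) K) =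
        (h : Matrix (Fin n) (Fin n) K₀).map j from rfl]
    rw [show ((h : Matrix (Fin n) (Fin n) K₀).map j).map (frob hK) =
      ((h : Matrix (Fin n) (Fin n) K₀).map (frob hK₀)).map j from
        Matrix.ext fun a b => hjfrob _, ← Matrix.transpose_map (f := ⇑j), ← Matrix.map_mul]
    refine ⟨fun e => by rw [e, Matrix.map_one _ (map_zero j) (map_one j)], fun e => ?_⟩
    refine Matrix.map_injective hjinj (?_ : _ = _)
    show (_ : Matrix (Fin n) (Fin n) K₀).map j = (1 : Matrix (Fin n) (Fin n) K₀).map j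
    rw [e, Matrix.map_one _ (map_zero j) (map_one j)]
  haveI : Nonempty (Fin n) := ⟨⟨0, hn⟩⟩
  have hscK : ∀ v : Kˣ, ((GeneralLinearGroup.scalar (Fin n) v : GL (Fin n) K) :
      Matrix (Fin n) (Fin n) K) = (v : K) • 1 := fun v => by
    ext a b
    by_cases hab : a = b <;> simp [hab]
  have hscK₀ : ∀ v : K₀ˣ, ((GeneralLinearGroup.scalar (Fin n) v : GL (Fin n) K₀) :
      Matrix (Fin n) (Fin n) K₀) = (v : K₀) • 1 := fun v => by
    ext a b
    by_cases hab : a = b <;> simp [hab]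
  have hscal : ∀ u : normOne K q, GeneralLinearGroup.scalar (Fin n) (u : Kˣ) ∈ Cfsg.GU n K q := by
    intro u
    rw [AutPSL.mem_GU_iff' (frob hK) (frob_apply hK)]
    have hu : ((u : Kˣ) : K) * frob hK ((u : Kˣ) : K) = 1 := by
      rw [(mem_normOne_iff hK _).1 u.2, Units.mul_inv]
    rw [hscK, Matrix.map_smul' _ _ _ (map_mul (frob hK)), Matrix.map_one _ (map_zero _) (map_one _),
      transpose_smul, transpose_one, Matrix.smul_mul, one_mul, smul_smul, hu, one_smul]
  let ψ₁ : normOne K q →* Cfsg.GU n K q :=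
    ((GeneralLinearGroup.scalar (Fin n)).comp (normOne K q).subtype).codRestrict _ hscal
  let ψ₂ : Cfsg.GU n K₀ q₀ →* Cfsg.GU n K q :=
    ((GeneralLinearGroup.map j).comp (Cfsg.GU n K₀ q₀).subtype).codRestrict _
      fun h => (hmemGU _).1 h.2
  let Ψ : normOne K q × Cfsg.GU n K₀ q₀ →* Cfsg.GU n K q :=
    MonoidHom.noncommCoprod ψ₁ ψ₂ fun u h => Subtype.ext (Units.ext (by
      show ((GeneralLinearGroup.scalar (Fin n) (u : Kˣ) : GL (Fin n) K) : Matrix (Fin n) (Fin n) K) *
          ((h : GL (Fin n) K₀) : Matrix (Fin n) (Fin n) K₀).map j =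
        ((h : GL (Fin n) K₀) : Matrix (Fin n) (Fin n) K₀).map j *
          ((GeneralLinearGroup.scalar (Fin n) (u : Kˣ) : GL (Fin n) K) : Matrix (Fin n) (Fin n) K)
      rw [hscK, Matrix.smul_mul, one_mul, Matrix.mul_smul, mul_one]))
  have hΨ : ∀ x, ((Ψ x : GL (Fin n) K) : Matrix (Fin n) (Fin n) K) =
      ((x.1 : Kˣ) : K) • ((x.2 : GL (Fin n) K₀) : Matrix (Fin n) (Fin n) K₀).map j := fun x => by
    show ((GeneralLinearGroup.scalar (Fin n) (x.1 : Kˣ) : GL (Fin n) K) : Matrix (Fin n) (Fin n) K) *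
      ((x.2 : GL (Fin n) K₀) : Matrix (Fin n) (Fin n) K₀).map j = _
    rw [hscK, Matrix.smul_mul, one_mul]
  -- its range
  have hrange : ∀ g : Cfsg.GU n K q, g ∈ Ψ.range ↔ ∃ c : K, c ≠ 0 ∧
      ((g : GL (Fin n) K) : Matrix (Fin n) (Fin n) K).map σ =
        c • ((g : GL (Fin n) K) : Matrix (Fin n) (Fin n) K) := by
    intro g
    constructor
    · rintro ⟨x, rfl⟩
      refine ⟨σ ((x.1 : Kˣ) : K) / ((x.1 : Kˣ) : K), div_ne_zero (by simp) (x.1 : Kˣ).ne_zero, ?_⟩
      rw [hΨ, smul_smul, div_mul_cancel₀ _ (x.1 : Kˣ).ne_zero]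
      ext a b
      simp [hjfix]
    · rintro ⟨c, hc0, hc⟩
      set G := ((g : GL (Fin n) K) : Matrix (Fin n) (Fin n) K) with hG
      have hGu := (AutPSL.mem_GU_iff' (frob hK) (frob_apply hK) _).1 g.2
      change G * (G.map (frob hK))ᵀ = 1 at hGu
      obtain ⟨a, b, hab⟩ : ∃ a b, G a b ≠ 0 := by
        by_contra hcon
        simp only [not_exists, not_not] at hcon
        exact (g : GL (Fin n) K).ne_zero (Matrix.ext hcon)
      have hcc : c * frob hK c = 1 := by
        have h1 := congrArg (fun M : Matrix (Fin n) (Fin n) K => M.map σ) hGu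
        rw [Matrix.map_mul, Matrix.map_one _ (map_zero σ) (map_one σ),
          show ((G.map (frob hK))ᵀ).map σ = ((G.map σ).map (frob hK))ᵀ from
            Matrix.ext fun a b => hσfrob _, hc,
          Matrix.map_smul' _ _ _ (map_mul (frob hK)), transpose_smul, Matrix.smul_mul, Matrix.mul_smul,
          hGu, smul_smul] at h1
        simpa using congrFun₂ h1 ⟨0, hn⟩ ⟨0, hn⟩
      set d := G a b
      have hd : σ d = c * d := congrFun₂ hc a b
      obtain ⟨s, hs⟩ := hjsurj (d * frob hK d) (by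
        rw [map_mul, hσfrob, hd, map_mul]
        linear_combination (d * frob hK d) * hcc)
      have hs0 : s ≠ 0 := fun h => by
        rw [h, map_zero, eq_comm, mul_eq_zero, map_eq_zero] at hs
        exact hab (hs.elim id id)
      have hsfix : frob hK₀ s = s := hjinj (by
        rw [← hjfrob, hs, map_mul, frob_frob, mul_comm])
      obtain ⟨e, he0, he⟩ := Descent.exists_fieldNorm_eq (frob hK₀) (orderOf_frob hK₀) two_pos
        (inv_ne_zero hs0) (by rw [map_inv₀, hsfix])
      have he' : e * frob hK₀ e = s⁻¹ := by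
        rw [← he, Descent.fieldNorm, Finset.prod_range_succ, Finset.prod_range_succ,
          Finset.prod_range_zero, one_mul, pow_zero, pow_one]
        rfl
      set d' := d * j e
      have hd'0 : d' ≠ 0 := mul_ne_zero hab (by simpa using he0)
      have hd' : d' * frob hK d' = 1 := by
        show d * j e * frob hK (d * j e) = 1
        rw [map_mul, hjfrob, mul_mul_mul_comm, ← map_mul j, he', ← hs, ← map_mul,
          mul_inv_cancel₀ hs0, map_one]
      have hd'σ : σ d' = c * d' := by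
        show σ (d * j e) = _
        rw [map_mul, hd, hjfix, mul_assoc]
      let M₀ : Matrix (Fin n) (Fin n) K₀ := Matrix.of fun a b => ⟨d'⁻¹ * G a b, by
        show σ (d'⁻¹ * G a b) = d'⁻¹ * G a b
        rw [map_mul, map_inv₀, hd'σ, show σ (G a b) = c * G a b from congrFun₂ hc a b]
        field_simp⟩
      have hM₀ : M₀.map j = d'⁻¹ • G := rfl
      have hdet : M₀.det ≠ 0 := fun h => by
        have h1 := congrArg j h
        rw [RingHom.map_det, map_zero, RingHom.mapMatrix_apply, hM₀, det_smul] at h1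
        exact mul_ne_zero (pow_ne_zero _ (inv_ne_zero hd'0))
          (GeneralLinearGroup.det (g : GL (Fin n) K)).ne_zero h1
      have hu : (Units.mk0 d' hd'0) ∈ normOne K q :=
        (mem_normOne_iff hK _).2 (by
          rw [Units.val_inv_eq_inv_val, Units.val_mk0]
          exact eq_inv_of_mul_eq_one_right hd')
      let h₀ : GL (Fin n) K₀ := GeneralLinearGroup.mkOfDetNeZero M₀ hdet
      have hh₀ : h₀ ∈ Cfsg.GU n K₀ q₀ := by
        rw [hmemGU]
        have e : GeneralLinearGroup.map j h₀ =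
            (GeneralLinearGroup.scalar (Fin n) (Units.mk0 d' hd'0))⁻¹ * (g : GL (Fin n) K) := by
          rw [eq_inv_mul_iff_mul_eq]
          refine Units.ext ?_
          show _ * M₀.map j = G
          rw [hM₀, Matrix.mul_smul]
          ext a b
          simp [hd'0]
        rw [e]
        exact Subgroup.mul_mem _ (Subgroup.inv_mem _ (hscal ⟨_, hu⟩)) g.2
      refine ⟨(⟨_, hu⟩, ⟨h₀, hh₀⟩), Subtype.ext (Units.ext ?_)⟩
      rw [hΨ]
      show d' • M₀.map j = G
      rw [hM₀, smul_smul, mul_inv_cancel₀ hd'0, one_smul]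
  -- its kernel
  haveI : Nonempty (Fin n) := ⟨⟨0, hn⟩⟩
  have hkmem : ∀ u : normOne K₀ q₀, Units.map (j : K₀ →* K) (u : K₀ˣ) ∈ normOne K q := fun u => by
    rw [mem_normOne_iff hK, Units.coe_map, MonoidHom.coe_coe, hjfrob, (mem_normOne_iff hK₀ _).1 u.2,
      Units.val_inv_eq_inv_val, map_inv₀, Units.val_inv_eq_inv_val]
    rfl
  have hscal₀ : ∀ u : normOne K₀ q₀, GeneralLinearGroup.scalar (Fin n) (u : K₀ˣ) ∈ Cfsg.GU n K₀ q₀ := by
    intro u
    rw [hmemGU, show GeneralLinearGroup.map j (GeneralLinearGroup.scalar (Fin n) (u : K₀ˣ)) =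
      GeneralLinearGroup.scalar (Fin n) (Units.map (j : K₀ →* K) (u : K₀ˣ)) from Units.ext (by
        ext a b; by_cases hab : a = b <;> simp [hab])]
    exact hscal ⟨_, hkmem u⟩
  let κ : normOne K₀ q₀ → Ψ.ker := fun u => ⟨(⟨_, hkmem u⟩, ⟨_, hscal₀ u⁻¹⟩), MonoidHom.mem_ker.2
    (Subtype.ext (Units.ext (by
      rw [hΨ]
      show j ((u : K₀ˣ) : K₀) • ((GeneralLinearGroup.scalar (Fin n) (((u⁻¹ : normOne K₀ q₀) : K₀ˣ)) :
        GL (Fin n) K₀) : Matrix (Fin n) (Fin n) K₀).map j = 1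
      rw [hscK₀, Matrix.map_smul' _ _ _ (map_mul j), Matrix.map_one _ (map_zero _) (map_one _),
        smul_smul, ← map_mul, InvMemClass.coe_inv, Units.mul_inv, map_one, one_smul]))) ⟩
  have hκ : Function.Bijective κ := by
    refine ⟨fun u v huv => ?_, fun x => ?_⟩
    · have h1 := congrArg (fun x : Ψ.ker => (((x : normOne K q × Cfsg.GU n K₀ q₀).1 : Kˣ) : K)) huv
      exact Subtype.ext (Units.ext (hjinj h1))
    · obtain ⟨⟨⟨u, hu⟩, ⟨h, hh⟩⟩, hx⟩ := x
      have h1 : (u : K) • (h : Matrix (Fin n) (Fin n) K₀).map j = 1 := by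
        have := congrArg (fun y : Cfsg.GU n K q => ((y : GL (Fin n) K) : Matrix (Fin n) (Fin n) K))
          (MonoidHom.mem_ker.1 hx)
        rw [hΨ] at this
        exact this
      have h2 : ∀ a b, j ((h : Matrix (Fin n) (Fin n) K₀) a b) =
          ((u⁻¹ : Kˣ) : K) * (1 : Matrix (Fin n) (Fin n) K) a b := fun a b => by
        rw [← h1, Matrix.smul_apply, Matrix.map_apply, smul_eq_mul, Units.inv_mul_cancel_left]
      set e := (h : Matrix (Fin n) (Fin n) K₀) ⟨0, hn⟩ ⟨0, hn⟩
      have he : j e = ((u⁻¹ : Kˣ) : K) := by rw [h2, Matrix.one_apply_eq, mul_one]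
      have he0 : e ≠ 0 := fun h0 => u⁻¹.ne_zero (by rw [← he, h0, map_zero])
      have hem : (Units.mk0 e he0)⁻¹ ∈ normOne K₀ q₀ := by
        rw [mem_normOne_iff hK₀]
        refine hjinj ?_
        have hu' := (mem_normOne_iff hK u).1 hu
        rw [inv_inv, Units.val_inv_eq_inv_val, Units.val_mk0, ← hjfrob, map_inv₀, he,
          Units.val_inv_eq_inv_val, inv_inv, hu', Units.val_inv_eq_inv_val]
      refine ⟨⟨_, hem⟩, Subtype.ext (Prod.ext (Subtype.ext (Units.ext ?_)) (Subtype.ext (Units.ext ?_)))⟩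
      · show j ((Units.mk0 e he0)⁻¹ : K₀ˣ) = (u : K)
        rw [Units.val_inv_eq_inv_val, map_inv₀, Units.val_mk0, he, Units.val_inv_eq_inv_val, inv_inv]
      · show ((GeneralLinearGroup.scalar (Fin n) ((Units.mk0 e he0)⁻¹)⁻¹ : GL (Fin n) K₀) :
          Matrix (Fin n) (Fin n) K₀) = (h : Matrix (Fin n) (Fin n) K₀)
        rw [inv_inv, hscK₀]
        ext a b
        refine congrArg Subtype.val (hjinj (?_ : j _ = j _))
        rw [h2]
        by_cases hab : a = b
        · subst hab; simp [he]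
        · simp [Matrix.one_apply_ne hab]
  -- counting
  have hcount := Subgroup.card_mul_index Ψ.ker
  rw [Subgroup.index_ker, ← Nat.card_congr (Equiv.ofBijective κ hκ), card_normOne hK₀,
    Nat.card_prod, card_normOne hK, Herm.card_GU hK₀ n] at hcount
  have hS : Nat.card Ψ.range = Nat.card {g : ↥(Cfsg.GU n K q) // ∃ c : K, c ≠ 0 ∧
      ((g : GL (Fin n) K) : Matrix (Fin n) (Fin n) K).map σ =
        c • ((g : GL (Fin n) K) : Matrix (Fin n) (Fin n) K)} :=
    Nat.card_congr (Equiv.subtypeEquivRight hrange)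
  rw [← hS]
  obtain ⟨e, he⟩ : q₀ + 1 ∣ q + 1 := by
    rw [hq]; simpa using hrodd.nat_add_dvd_pow_add_pow q₀ 1
  rw [he, Nat.mul_div_cancel_left _ (Nat.succ_pos q₀)]
  rw [he, mul_assoc] at hcount
  rw [Nat.eq_of_mul_eq_mul_left (Nat.succ_pos q₀) hcount]
  push_cast
  have hq₀1 : 1 ≤ q₀ := by
    rcases Nat.eq_zero_or_pos q₀ with h | h
    · exact absurd hK₀ (by rw [h]; simp)
    · exact h
  congr 2
  rw [← Fin.prod_univ_eq_prod_range]
  refine Finset.prod_congr rfl fun i _ => ?_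
  by_cases h : Even (i : ℕ)
  · rw [if_pos h, Odd.neg_one_pow h.add_one]
    push_cast
    ring
  · rw [if_neg h, Even.neg_one_pow (Nat.not_even_iff_odd.1 h).add_one,
      Nat.cast_sub (Nat.one_le_pow _ _ hq₀1)]
    push_cast
    ring

end CfsgLib.Known.AutPSU
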