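import Mathlib

/-!
# Real forms: elements `h * (τ h)⁻¹` in a group with two commuting involutory endomorphisms
-/

set_option autoImplicit false

namespace CfsgLib.Known.AutPSU.RealForm

variable {P : Type*} [Group P] {ι τ : P →* P}

/-- `h` carries the form `A`. -/
def Carries (ι τ : P →* P) (h A : P) : Prop := τ A = A ∧ τ h = ι h * A

/-- The twisted element of `h`. -/
def tw (τ : P →* P) (h : P) : P := h * (τ h)⁻¹

variable (hι : ∀ x, ι (ι x) = x) (hτ : ∀ x, τ (τ x) = x) (hc : ∀ x, τ (ι x) = ι (τ x))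
include hι hτ hc

theorem tw_props {h A : P} (hA : Carries ι τ h A) (hgood : ι A * A = 1) :
    τ (tw τ h) = ι (tw τ h) ∧ tw τ h * ι (tw τ h) = 1 := by
  have hiA : ι A = A⁻¹ := eq_inv_of_mul_eq_one_left hgood
  have h1 : τ (tw τ h) = τ h * h⁻¹ := by rw [tw, map_mul, map_inv, hτ]
  have h2 : ι (tw τ h) = τ h * h⁻¹ := by
    rw [tw, map_mul, map_inv, hA.2, map_mul, hι, hiA]
    group
  refine ⟨h1.trans h2.symm, ?_⟩
  rw [h2, tw]
  group

theorem exists_carries {S h : P} (h1 : τ S = ι S) (h2 : S * ι S = 1) (hh : S * τ h = h) :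
    ∃ A, Carries ι τ h A ∧ ι A * A = 1 ∧ tw τ h = S := by
  have hiS : ι S = S⁻¹ := eq_inv_of_mul_eq_one_right h2
  have hth : τ h = S⁻¹ * h := by rw [eq_inv_mul_iff_mul_eq]; exact hh
  refine ⟨(ι h)⁻¹ * τ h, ⟨?_, by group⟩, ?_, ?_⟩
  · rw [map_mul, map_inv, hτ, hc, hth, map_mul, map_inv, hiS]
    group
  · rw [map_mul, map_inv, hι, hth, map_mul, map_inv, hiS]
    group
  · rw [tw, hth]
    group

theorem carries_mul {h A g : P} (hA : Carries ι τ h A) (hg : τ g = ι g) :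
    Carries ι τ (g * h) A ∧ tw τ (g * h) = g * tw τ h * (ι g)⁻¹ := by
  refine ⟨⟨hA.1, by rw [map_mul, map_mul, hg, hA.2]; group⟩, ?_⟩
  rw [tw, tw, map_mul, hg]
  group

theorem carries_unique {h A h' A' : P} (hA : Carries ι τ h A) (hA' : Carries ι τ h' A')
    (he : tw τ h' = tw τ h) : ∃ x, τ x = x ∧ A' = x * A * (ι x)⁻¹ := by
  set M := h⁻¹ * h' with hM
  have hM' : τ M = M := by
    rw [hM, map_mul, map_inv]
    have : τ h' = (tw τ h')⁻¹ * h' := by rw [tw]; group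
    rw [this, he, tw]
    group
  refine ⟨(ι M)⁻¹, by rw [map_inv, hc, hM'], ?_⟩
  have h1 : τ h' = τ h * M := by
    rw [← hM', ← map_mul, hM, mul_inv_cancel_left]
  rw [hA'.2, hA.2, show ι h' = ι h * ι M by rw [hM, ← map_mul, mul_inv_cancel_left]] at h1
  rw [map_inv, hι, inv_inv]
  calc A' = (ι h * ι M)⁻¹ * (ι h * ι M * A') := by group
    _ = (ι h * ι M)⁻¹ * (ι h * A * M) := by rw [h1]
    _ = _ := by group

theorem carries_conj {h A h' A' x : P} (hA : Carries ι τ h A) (hA' : Carries ι τ h' A')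
    (hx : τ x = x) (he : A' = x * A * (ι x)⁻¹) :
    ∃ g, τ g = ι g ∧ g * tw τ h * (ι g)⁻¹ = tw τ h' := by
  set M := (ι x)⁻¹ with hMd
  have hM : τ M = M := by rw [hMd, map_inv, hc, hx]
  have hiM : ι M = x⁻¹ := by rw [hMd, map_inv, hι]
  have h'' : τ (h * M) = ι (h * M) * A' := by
    rw [map_mul, map_mul, hM, hA.2, he, hiM, hMd]
    group
  refine ⟨h' * (h * M)⁻¹, ?_, ?_⟩
  · rw [map_mul, map_inv, h'', hA'.2, map_mul ι h', map_inv ι (h * M)]
    group
  · have hg : τ (h' * (h * M)⁻¹) = ι (h' * (h * M)⁻¹) := by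
      rw [map_mul, map_inv, h'', hA'.2, map_mul ι h', map_inv ι (h * M)]
      group
    rw [← hg, map_mul τ h', map_inv τ (h * M), map_mul τ h M, hM, tw, tw]
    group

theorem cent_mem {h A x : P} (hA : Carries ι τ h A) (hgood : ι A * A = 1) (hx : τ x = x)
    (he : x * A = A * ι x) :
    τ (h * ι x * h⁻¹) = ι (h * ι x * h⁻¹) ∧
      h * ι x * h⁻¹ * tw τ h = tw τ h * ι (h * ι x * h⁻¹) := by
  have hiA : ι A = A⁻¹ := eq_inv_of_mul_eq_one_left hgood
  have hz : A * ι x * A⁻¹ = x := by rw [← he]; group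
  have h1 : τ (h * ι x * h⁻¹) = ι h * x * (ι h)⁻¹ := by
    rw [map_mul, map_mul, map_inv, hc, hx, hA.2]
    calc _ = ι h * (A * ι x * A⁻¹) * (ι h)⁻¹ := by group
      _ = _ := by rw [hz]
  have h2 : ι (h * ι x * h⁻¹) = ι h * x * (ι h)⁻¹ := by
    rw [map_mul, map_mul, map_inv, hι]
  refine ⟨h1.trans h2.symm, ?_⟩
  rw [h2, tw, hA.2]
  calc h * ι x * h⁻¹ * (h * (ι h * A)⁻¹) = h * (ι x * A⁻¹) * (ι h)⁻¹ := by group
    _ = h * (A⁻¹ * x) * (ι h)⁻¹ := by
      rw [show ι x * A⁻¹ = A⁻¹ * x from by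
        calc ι x * A⁻¹ = A⁻¹ * (A * ι x * A⁻¹) := by group
          _ = A⁻¹ * x := by rw [hz]]
    _ = _ := by group

theorem cent_surj {h A y : P} (hA : Carries ι τ h A) (hy : τ y = ι y)
    (he : y * tw τ h = tw τ h * ι y) :
    ∃ x, τ x = x ∧ x * A = A * ι x ∧ h * ι x * h⁻¹ = y := by
  set z := h⁻¹ * y * h with hz
  have h1 : τ z = z := by
    rw [hz, map_mul, map_mul, map_inv, hy]
    have : τ h = (tw τ h)⁻¹ * h := by rw [tw]; group
    rw [this]
    calc _ = h⁻¹ * (tw τ h * ι y) * (tw τ h)⁻¹ * h := by group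
      _ = h⁻¹ * (y * tw τ h) * (tw τ h)⁻¹ * h := by rw [he]
      _ = _ := by group
  refine ⟨ι z, by rw [hc, h1], ?_, by rw [hι, hz]; group⟩
  rw [hι]
  have h2 : τ z = A⁻¹ * ι z * A := by
    rw [hz, map_mul, map_mul, map_inv, hy, hA.2, map_mul ι, map_mul ι, map_inv ι]
    group
  calc ι z * A = A * (A⁻¹ * ι z * A) := by group
    _ = A * z := by rw [← h2, h1]

end CfsgLib.Known.AutPSU.RealForm
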