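import Cfsg.Agent.Lib.Known.AutPSU.Aut
import Cfsg.Agent.Lib.Known.AutPSU.RealForm
import Cfsg.Agent.Lib.Known.AutPSL.GraphForm

/-!
# Involutory graph automorphisms of `PSU` against those of `PSL` over the fixed field
-/

set_option autoImplicit false
set_option linter.unusedSectionVars false

open Matrix

namespace CfsgLib.Known.AutPSU

open CfsgLib.Classical
open CfsgLib.Known.AutPSL (glMap glIota innDiag coe_glMap)
open CfsgLib.Known.AutPSL.Graph (graphAut)

variable {n : ℕ} {F : Type*} [Field F] [Fintype F] {q : ℕ}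

/-- The projection of the unitary similitudes. -/
noncomputable def uProj (n : ℕ) (hF : Fintype.card F = q ^ 2) : uGL n hF →* uP n hF :=
  ((pr n F).comp (uGL n hF).subtype).codRestrict _ fun g => g.2

theorem uProj_surjective (hF : Fintype.card F = q ^ 2) : Function.Surjective (uProj n hF) := by
  rintro ⟨x, hx⟩
  obtain ⟨g, rfl⟩ := pr_surjective x
  exact ⟨⟨g, hx⟩, rfl⟩

theorem frob_trans_frob (hF : Fintype.card F = q ^ 2) :
    (frob hF).trans (frob hF) = RingEquiv.refl F :=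
  RingEquiv.ext fun a => frob_frob hF a

/-- The inverse transpose on the projective unitary similitudes. -/
noncomputable def uInvP (n : ℕ) (hF : Fintype.card F = q ^ 2) : uP n hF →* uP n hF :=
  (pInv.comp (uP n hF).subtype).codRestrict _ fun x => by
    show pMap (frob hF) (pInv (x : PG n F)) = pInv (pInv (x : PG n F))
    rw [pMap_pInv, show pMap (frob hF) (x : PG n F) = pInv (x : PG n F) from x.2]

@[simp] theorem coe_uInvP (hF : Fintype.card F = q ^ 2) (x : uP n hF) :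
    (uInvP n hF x : PG n F) = pInv (x : PG n F) := rfl

/-- The standard graph automorphism. -/
noncomputable def uTau (n : ℕ) (hF : Fintype.card F = q ^ 2) : MulAut (Cfsg.PSU n F q) :=
  uSemi hF 1 (frob hF)

theorem uSemi_split (hF : Fintype.card F = q ^ 2) (g : uGL n hF) :
    uSemi hF g (frob hF) = uInn n hF g * uTau n hF := by
  rw [uInn_apply, uTau, uSemi_mul, map_one, mul_one]
  rfl

theorem uTau_mul_uInn (hF : Fintype.card F = q ^ 2) (g : uGL n hF) :
    uTau n hF * uInn n hF g = uInn n hF (uMap hF (frob hF) g) * uTau n hF := by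
  rw [uTau, uInn_apply, uSemi_mul, ← uTau, ← uSemi_split, one_mul]
  rfl

theorem uTau_mul_uTau (hF : Fintype.card F = q ^ 2) : uTau n hF * uTau n hF = 1 := by
  rw [uTau, uSemi_mul, map_one, mul_one, frob_trans_frob, uSemi_one]

section

variable (hn : 3 ≤ n) (hex : n = 3 → q ≠ 2) (hF : Fintype.card F = q ^ 2)
include hn hex

theorem ker_uProj_le : (uProj n hF).ker ≤ (uInn n hF).ker := fun g hg => by
  rw [MonoidHom.mem_ker, uInn_apply, uSemi_eq_one_iff hF hn hex]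
  exact ⟨rfl, congrArg Subtype.val (MonoidHom.mem_ker.1 hg)⟩

/-- The inner-diagonal automorphism of a projective similitude. -/
noncomputable def uAutP : uP n hF →* MulAut (Cfsg.PSU n F q) :=
  (uProj n hF).liftOfSurjective (uProj_surjective hF) ⟨uInn n hF, ker_uProj_le hn hex hF⟩

theorem uAutP_proj (g : uGL n hF) : uAutP hn hex hF (uProj n hF g) = uInn n hF g :=
  MonoidHom.liftOfRightInverse_comp_apply (uProj n hF) _ _ ⟨uInn n hF, ker_uProj_le hn hex hF⟩ g

theorem uAutP_injective : Function.Injective (uAutP hn hex hF) := by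
  rw [injective_iff_map_eq_one]
  intro x hx
  obtain ⟨g, rfl⟩ := uProj_surjective hF x
  rw [uAutP_proj, uInn_apply, uSemi_eq_one_iff hF hn hex] at hx
  exact Subtype.ext hx.2

theorem range_uAutP : (uAutP hn hex hF).range = Cfsg.inndiagPSU n F q := by
  rw [inndiagPSU_eq hF hn hex]
  ext β
  constructor
  · rintro ⟨x, rfl⟩
    obtain ⟨g, rfl⟩ := uProj_surjective hF x
    exact ⟨g, (uAutP_proj hn hex hF g).symm⟩
  · rintro ⟨g, rfl⟩
    exact ⟨_, uAutP_proj hn hex hF g⟩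

/-- The graph automorphism of a projective similitude. -/
noncomputable def uGraph (x : uP n hF) : MulAut (Cfsg.PSU n F q) :=
  uAutP hn hex hF x * uTau n hF

theorem uTau_mul_uAutP (x : uP n hF) :
    uTau n hF * uAutP hn hex hF x = uAutP hn hex hF (uInvP n hF x) * uTau n hF := by
  obtain ⟨g, rfl⟩ := uProj_surjective hF x
  rw [uAutP_proj, uTau_mul_uInn, ← uAutP_proj hn hex hF]
  congr 2
  exact Subtype.ext (show pMap (frob hF) (pr n F (g : GL (Fin n) F)) = _ from g.2)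

theorem uGraph_eq_iff (x y : uP n hF) : uGraph hn hex hF x = uGraph hn hex hF y ↔ x = y := by
  rw [uGraph, uGraph, mul_left_inj]
  exact (uAutP_injective hn hex hF).eq_iff

theorem uGraph_mul_self (x : uP n hF) :
    uGraph hn hex hF x * uGraph hn hex hF x = uAutP hn hex hF (x * uInvP n hF x) := by
  rw [map_mul, uGraph, mul_assoc, ← mul_assoc (uTau n hF), uTau_mul_uAutP, mul_assoc, uTau_mul_uTau,
    mul_one]

theorem conj_uGraph (g x : uP n hF) :
    uAutP hn hex hF g * uGraph hn hex hF x * (uAutP hn hex hF g)⁻¹ =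
      uGraph hn hex hF (g * x * (uInvP n hF g)⁻¹) := by
  rw [← map_inv, uGraph, uGraph, mul_assoc, mul_assoc, uTau_mul_uAutP, map_inv (uInvP n hF),
    map_mul, map_mul, mul_assoc, mul_assoc]

theorem comm_uGraph_iff (g x : uP n hF) :
    uAutP hn hex hF g * uGraph hn hex hF x = uGraph hn hex hF x * uAutP hn hex hF g ↔
      g * x = x * uInvP n hF g := by
  rw [← mul_inv_eq_iff_eq_mul, conj_uGraph, uGraph_eq_iff, mul_inv_eq_iff_eq_mul]

theorem uGraph_class (x : uP n hF) (hx : x * uInvP n hF x = 1) :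
    Cfsg.IsGraphAutClassPSU (uGraph hn hex hF x) ∧ orderOf (uGraph hn hex hF x) = 2 := by
  obtain ⟨g, rfl⟩ := uProj_surjective hF x
  obtain ⟨h, hh, hpr⟩ := exists_GU_of_uGL hF (by omega) g.2
  refine ⟨⟨hn, uAutP hn hex hF (uProj n hF g), uTau n hF, frob hF,
    by rw [orderOf_frob]; exact even_two, (isInnerDiagonalAutPSU_iff hF _).2 ⟨h, hh, ?_⟩,
    (isFieldAutPSUOf_iff hF _ _).2 rfl, rfl⟩, ?_⟩
  · rw [← uAutP_proj hn hex hF]
    congr 1
    exact Subtype.ext hpr.symm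
  · refine orderOf_eq_prime (by rw [sq, uGraph_mul_self, hx, map_one]) fun h1 => ?_
    rw [uGraph, uAutP_proj, ← uSemi_split, uSemi_eq_one_iff hF hn hex] at h1
    have h2 := orderOf_frob hF
    rw [h1.1, show (RingEquiv.refl F : F ≃+* F) = 1 from rfl, orderOf_one] at h2
    omega

theorem exists_uGraph {γ : MulAut (Cfsg.PSU n F q)} (hγ : Cfsg.IsGraphAutClassPSU γ)
    (hγ2 : orderOf γ = 2) :
    ∃ x : uP n hF, γ = uGraph hn hex hF x ∧ x * uInvP n hF x = 1 := by
  obtain ⟨-, δ, φ, σ, hσ, hδ, hφ, rfl⟩ := hγ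
  obtain ⟨g, hg, rfl⟩ := (isInnerDiagonalAutPSU_iff hF δ).1 hδ
  rw [(isFieldAutPSUOf_iff hF σ φ).1 hφ, uInn_apply, uSemi_mul, map_one, mul_one,
    show σ.trans (RingEquiv.refl F) = σ from RingEquiv.ext fun _ => rfl] at hγ2 ⊢
  set u : uGL n hF := ⟨g, GU_le_uGL hF hg⟩
  have h1 : uSemi hF u σ * uSemi hF u σ = 1 := by
    rw [← sq, ← hγ2, pow_orderOf_eq_one]
  rw [uSemi_mul, uSemi_eq_one_iff hF hn hex] at h1
  have hσ2 : orderOf σ = 2 := by
    refine orderOf_eq_prime (RingEquiv.ext fun a => RingEquiv.congr_fun h1.1 a) fun h => ?_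
    rw [h, orderOf_one] at hσ
    exact Nat.not_even_one hσ
  have hστ : σ = frob hF := eq_frob_of_orderOf hF hσ2
  subst hστ
  refine ⟨uProj n hF u, ?_, ?_⟩
  · rw [uGraph, uAutP_proj, ← uSemi_split]
  · refine uAutP_injective hn hex hF ?_
    rw [map_one, ← uGraph_mul_self, uGraph, uAutP_proj, ← uSemi_split, ← sq, ← hγ2,
      pow_orderOf_eq_one]

theorem isConjUnder_uGraph_iff (x y : uP n hF) :
    Cfsg.IsConjUnder (Cfsg.inndiagPSU n F q) (uGraph hn hex hF x) (uGraph hn hex hF y) ↔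
      ∃ g : uP n hF, g * x * (uInvP n hF g)⁻¹ = y := by
  rw [← range_uAutP hn hex hF]
  constructor
  · rintro ⟨_, ⟨g, rfl⟩, h⟩
    rw [conj_uGraph, uGraph_eq_iff] at h
    exact ⟨g, h.symm⟩
  · rintro ⟨g, rfl⟩
    exact ⟨_, ⟨g, rfl⟩, (conj_uGraph hn hex hF g x).symm⟩

end

/-! ### The fixed field -/

variable {F₀ : Type*} [Field F₀] [Fintype F₀]

theorem exists_fixed_hom (hF : Fintype.card F = q ^ 2) (hF₀ : Fintype.card F₀ = q) :
    ∃ j : F₀ →+* F, ∀ a : F, frob hF a = a ↔ a ∈ j.range := by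
  obtain ⟨p, f, hp, -, hq⟩ := Herm.exists_prime_pow_root hF
  haveI : Fact p.Prime := ⟨hp⟩
  have hf : 1 ≤ f := by
    rcases Nat.eq_zero_or_pos f with rfl | h
    · have := CfsgLib.Classical.two_le_of_card_sq hF; simp at hq; omega
    · exact h
  exact AutPSL.exists_fixed_embedding (p := p) (f := 2 * f) (r := 2)
    (by rw [hF, hq, ← pow_mul, mul_comm]) (by omega) (frob hF) (orderOf_frob hF) F₀
    (by rw [hF₀, hq, Nat.mul_div_cancel_left _ two_pos])

/-- Extension of scalars. -/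
def jGL (n : ℕ) (j : F₀ →+* F) : GL (Fin n) F₀ →* GL (Fin n) F :=
  Units.map (j.mapMatrix : Matrix (Fin n) (Fin n) F₀ →+* Matrix (Fin n) (Fin n) F).toMonoidHom

theorem coe_jGL (j : F₀ →+* F) (g : GL (Fin n) F₀) :
    (jGL n j g : Matrix (Fin n) (Fin n) F) = (g : Matrix (Fin n) (Fin n) F₀).map j := rfl

theorem scalars_le_comap_jGL (j : F₀ →+* F) :
    Cfsg.Geo.scalars (Fin n) F₀ ≤ (Cfsg.Geo.scalars (Fin n) F).comap (jGL n j) := by
  intro g hg
  obtain ⟨c, hc⟩ := (Cfsg.Geo.mem_scalars_iff g).1 hg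
  rw [Subgroup.mem_comap, Cfsg.Geo.mem_scalars_iff]
  refine ⟨Units.map (j : F₀ →* F) c, ?_⟩
  rw [coe_jGL, hc]
  ext a b
  by_cases hab : a = b <;> simp [hab]

/-- Extension of scalars on `PG`. -/
noncomputable def jP (n : ℕ) (j : F₀ →+* F) : PG n F₀ →* PG n F :=
  QuotientGroup.map _ _ (jGL n j) (scalars_le_comap_jGL j)

@[simp] theorem jP_pr (j : F₀ →+* F) (g : GL (Fin n) F₀) :
    jP n j (pr n F₀ g) = pr n F (jGL n j g) := rfl

theorem jP_injective (hn : 1 ≤ n) (j : F₀ →+* F) : Function.Injective (jP n j) := by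
  rw [injective_iff_map_eq_one]
  intro x hx
  obtain ⟨g, rfl⟩ := pr_surjective x
  rw [jP_pr, pr_eq_one_iff, coe_jGL] at hx
  obtain ⟨c, hc⟩ := hx
  let i0 : Fin n := ⟨0, hn⟩
  rw [pr_eq_one_iff]
  have h0 : j ((g : Matrix (Fin n) (Fin n) F₀) i0 i0) = c := by simpa using congrFun₂ hc i0 i0
  refine ⟨Units.mk0 ((g : Matrix (Fin n) (Fin n) F₀) i0 i0)
    (fun h => c.ne_zero (by rw [← h0, h, map_zero])), ?_⟩
  ext a b
  apply j.injective
  have := congrFun₂ hc a b
  by_cases hab : a = b <;> simp [hab] at this ⊢ <;> simp [this, h0]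

theorem jP_pInv (j : F₀ →+* F) (x : PG n F₀) : jP n j (pInv x) = pInv (jP n j x) := by
  obtain ⟨g, rfl⟩ := pr_surjective x
  rw [pInv_pr, jP_pr, jP_pr, pInv_pr]
  congr 1

theorem pMap_jP (hF : Fintype.card F = q ^ 2) {j : F₀ →+* F}
    (hj : ∀ a : F, frob hF a = a ↔ a ∈ j.range) (x : PG n F₀) :
    pMap (frob hF) (jP n j x) = jP n j x := by
  obtain ⟨g, rfl⟩ := pr_surjective x
  rw [jP_pr, pMap_pr]
  congr 1
  exact Units.ext (Matrix.ext fun a b => (hj _).2 ⟨_, rfl⟩)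

theorem exists_jP_of_fixed (hn : 1 ≤ n) (hF : Fintype.card F = q ^ 2) {j : F₀ →+* F}
    (hj : ∀ a : F, frob hF a = a ↔ a ∈ j.range) (x : PG n F) (hx : pMap (frob hF) x = x) :
    ∃ y : PG n F₀, jP n j y = x := by
  obtain ⟨g, rfl⟩ := pr_surjective x
  rw [pMap_pr, eq_comm, pr_eq_iff] at hx
  obtain ⟨c, hc⟩ := hx
  set G := (g : Matrix (Fin n) (Fin n) F)
  rw [coe_glMap] at hc
  obtain ⟨a, b, hab⟩ : ∃ a b, G a b ≠ 0 := by
    by_contra hcon
    push Not at hcon
    haveI : Nonempty (Fin n) := ⟨⟨0, hn⟩⟩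
    exact g.ne_zero (Matrix.ext hcon)
  have hfix : ∀ u v, G u v / G a b ∈ j.range := fun u v => by
    have h1 : frob hF (G u v) = c * G u v := congrFun₂ hc u v
    have h2 : frob hF (G a b) = c * G a b := congrFun₂ hc a b
    rw [← hj, map_div₀, h1, h2, mul_div_mul_left _ _ c.ne_zero]
  choose m hm using hfix
  have hmap : (Matrix.of m).map j = (G a b)⁻¹ • G := by
    ext u v
    simp [hm, div_eq_inv_mul]
  have hdet : IsUnit (Matrix.of m).det := by
    rw [isUnit_iff_ne_zero, ← map_ne_zero j, RingHom.map_det]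
    show ((Matrix.of m).map j).det ≠ 0
    rw [hmap, Matrix.det_smul]
    exact mul_ne_zero (pow_ne_zero _ (inv_ne_zero hab)) (GeneralLinearGroup.det g).ne_zero
  refine ⟨pr n F₀ (GeneralLinearGroup.mk'' _ hdet), ?_⟩
  rw [jP_pr, pr_eq_iff]
  refine ⟨Units.mk0 _ hab, ?_⟩
  show G = G a b • (Matrix.of m).map j
  rw [hmap, smul_inv_smul₀ hab]

/-- The form `a` over the fixed field is realised by `γ`. -/
def IsModel (hn : 3 ≤ n) (hex : n = 3 → q ≠ 2) (hF : Fintype.card F = q ^ 2) (j : F₀ →+* F)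
    (A : GL (Fin n) F₀) (γ : MulAut (Cfsg.PSU n F q)) : Prop :=
  ∃ (h : PG n F) (x : uP n hF), RealForm.Carries pInv (pMap (frob hF)) h (jP n j (pr n F₀ A)) ∧
    pInv (pr n F₀ A) * pr n F₀ A = 1 ∧
    RealForm.tw (pMap (frob hF)) h = (x : PG n F) ∧ γ = uGraph hn hex hF x

theorem good_iff (hn : 3 ≤ n) (A : GL (Fin n) F₀) :
    pInv (pr n F₀ A) * pr n F₀ A = 1 ↔
      (A : Matrix (Fin n) (Fin n) F₀)ᵀ = (A : Matrix (Fin n) (Fin n) F₀) ∨
        (A : Matrix (Fin n) (Fin n) F₀)ᵀ = -(A : Matrix (Fin n) (Fin n) F₀) := by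
  rw [← AutPSL.Graph.graphAut_sq_iff hn, AutPSL.Graph.graphAut_mul_self,
    AutPSL.innDiag_eq_one_iff (by omega), mul_eq_one_comm, pInv_pr, ← map_mul, pr_eq_one_iff]
  haveI : Nonempty (Fin n) := ⟨⟨0, by omega⟩⟩
  constructor
  · rintro ⟨c, hc⟩
    exact ⟨c, hc⟩
  · rintro ⟨c, hc⟩
    exact ⟨Units.mk0 c (by rintro rfl; exact (A * glIota A).ne_zero (by simpa using hc)), hc⟩

section

variable (hn : 3 ≤ n) (hex : n = 3 → q ≠ 2) (hF : Fintype.card F = q ^ 2) {j : F₀ →+* F}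
  (hj : ∀ a : F, frob hF a = a ↔ a ∈ j.range)
include hj

theorem exists_model (A : GL (Fin n) F₀)
    (hA : (A : Matrix (Fin n) (Fin n) F₀)ᵀ = (A : Matrix (Fin n) (Fin n) F₀) ∨
      (A : Matrix (Fin n) (Fin n) F₀)ᵀ = -(A : Matrix (Fin n) (Fin n) F₀)) :
    ∃ γ : MulAut (Cfsg.PSU n F q), IsModel hn hex hF j A γ ∧ Cfsg.IsGraphAutClassPSU γ ∧
      orderOf γ = 2 := by
  set τ := frob hF with hτdef
  obtain ⟨θ, hθ, e, he, hAe, hθe⟩ : ∃ θ : F, θ ≠ 0 ∧ ∃ e : F, e ≠ 0 ∧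
      ((A : Matrix (Fin n) (Fin n) F₀).map j)ᵀ = e • (A : Matrix (Fin n) (Fin n) F₀).map j ∧
        τ θ = e * θ := by
    rcases hA with h | h
    · refine ⟨1, one_ne_zero, 1, one_ne_zero, ?_, by rw [map_one, mul_one]⟩
      rw [one_smul, ← Matrix.transpose_map, h]
    · obtain ⟨θ, hθ, hθ'⟩ := (Herm.powHom_isInvol hF).exists_skew
      refine ⟨θ, hθ, -1, by simp, ?_, by
        rw [neg_one_mul, hτdef, frob_apply, ← Herm.powHom_apply hF]; exact hθ'⟩
      rw [neg_one_smul, ← Matrix.transpose_map, h]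
      ext a b
      simp
  have he2 : e * e = 1 := by
    have h1 : θ = (e * τ θ) := by
      have h1 := congrArg τ hθe
      rw [frob_frob, map_mul] at h1
      have hee : τ e = e := by
        rcases hA with h | h
        all_goals
          have h2 := congrArg (fun X : Matrix (Fin n) (Fin n) F => X.map τ) hAe
          simp only [Matrix.transpose_map] at h2
          have hfix : ((A : Matrix (Fin n) (Fin n) F₀).map j).map τ =
              (A : Matrix (Fin n) (Fin n) F₀).map j := Matrix.ext fun a b => (hj _).2 ⟨_, rfl⟩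
          rw [show ((e • (A : Matrix (Fin n) (Fin n) F₀).map j).map τ) =
            τ e • ((A : Matrix (Fin n) (Fin n) F₀).map j).map τ from
              Matrix.ext fun a b => map_mul τ _ _, hfix, hAe] at h2
          haveI : Nonempty (Fin n) := ⟨⟨0, by omega⟩⟩
          have hne : (A : Matrix (Fin n) (Fin n) F₀).map j ≠ 0 := (jGL n j A).ne_zero
          exact (smul_left_injective F hne h2).symm
      rw [hee] at h1
      exact h1
    rw [hθe, ← mul_assoc] at h1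
    exact (mul_eq_right₀ hθ).1 h1.symm
  let H : GL (Fin n) F := GeneralLinearGroup.scalar (Fin n) (Units.mk0 θ hθ) * jGL n j A
  have hHv : (H : Matrix (Fin n) (Fin n) F) = θ • (A : Matrix (Fin n) (Fin n) F₀).map j := by
    ext a b; simp [H, coe_jGL]
  have hHh : ((H : Matrix (Fin n) (Fin n) F).map τ)ᵀ = (H : Matrix (Fin n) (Fin n) F) := by
    rw [hHv, show (θ • (A : Matrix (Fin n) (Fin n) F₀).map j).map τ =
      τ θ • ((A : Matrix (Fin n) (Fin n) F₀).map j).map τ from Matrix.ext fun a b => map_mul τ _ _,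
      show ((A : Matrix (Fin n) (Fin n) F₀).map j).map τ = (A : Matrix (Fin n) (Fin n) F₀).map j
        from Matrix.ext fun a b => (hj _).2 ⟨_, rfl⟩,
      transpose_smul, hAe, smul_smul, hθe,
      show e * θ * e = (e * e) * θ by ring, he2, one_mul]
  obtain ⟨k, hk⟩ := Descent.exists_hermitian_factor τ
    (fun h => by
      have := orderOf_frob hF
      rw [← hτdef, h, show (RingEquiv.refl F : F ≃+* F) = 1 from rfl, orderOf_one] at this
      omega) (frob_frob hF) H hHh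
  have hprH : pr n F H = jP n j (pr n F₀ A) := by
    rw [jP_pr, eq_comm, pr_eq_iff]
    exact ⟨Units.mk0 θ hθ, by rw [hHv, coe_jGL, Units.val_mk0]⟩
  set h := pr n F (glIota k⁻¹)
  have hcar : RealForm.Carries pInv (pMap τ) h (jP n j (pr n F₀ A)) := by
    refine ⟨pMap_jP hF hj _, ?_⟩
    rw [← hprH, pMap_pr, pInv_pr, ← map_mul, glIota_glIota']
    congr 1
    ext1
    rw [Units.val_mul, hk, ← mul_assoc, Units.inv_mul, one_mul, coe_glMap]
    show (((k⁻¹⁻¹ : GL (Fin n) F) : Matrix (Fin n) (Fin n) F)ᵀ).map τ = _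
    rw [inv_inv, Matrix.transpose_map]
  have hgood := (good_iff hn A).2 hA
  obtain ⟨h1, h2⟩ := RealForm.tw_props pInv_pInv (pMap_frob_frob hF) (pMap_pInv τ) hcar
    (by rw [← jP_pInv, ← map_mul, hgood, map_one])
  let x : uP n hF := ⟨RealForm.tw (pMap τ) h, h1⟩
  exact ⟨uGraph hn hex hF x, ⟨h, x, hcar, hgood, rfl, rfl⟩,
    uGraph_class hn hex hF x (Subtype.ext h2)⟩

theorem exists_model_of_class {γ : MulAut (Cfsg.PSU n F q)} (hγ : Cfsg.IsGraphAutClassPSU γ)
    (hγ2 : orderOf γ = 2) : ∃ A : GL (Fin n) F₀, IsModel hn hex hF j A γ := by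
  obtain ⟨x, rfl, hx⟩ := exists_uGraph hn hex hF hγ hγ2
  obtain ⟨g, rfl⟩ := uProj_surjective hF x
  set S := (g : GL (Fin n) F)
  set τ := frob hF
  have hx' : pr n F S * pInv (pr n F S) = 1 := congrArg Subtype.val hx
  have hτS : pMap τ (pr n F S) = pInv (pr n F S) := g.2
  rw [← hτS, pMap_pr, ← map_mul, pr_eq_one_iff] at hx'
  obtain ⟨c, hc⟩ := hx'
  haveI : Nonempty (Fin n) := ⟨⟨0, by omega⟩⟩
  have hN : Descent.normMat (S : Matrix (Fin n) (Fin n) F) τ 2 = (c : F) • 1 := by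
    rw [← hc]
    simp [Descent.normMat, coe_glMap]
  obtain ⟨h, t, ht⟩ := Descent.exists_conj_of_norm_scalar τ (orderOf_frob hF) two_pos S hN
  have hh : pr n F S * pMap τ (pr n F h) = pr n F h := by
    rw [pMap_pr, ← map_mul, eq_comm, pr_eq_iff]
    exact ⟨t, by rw [Units.val_mul, coe_glMap, ht]⟩
  obtain ⟨a, ha, hgood, htw⟩ := RealForm.exists_carries pInv_pInv (pMap_frob_frob hF)
    (pMap_pInv τ) hτS (congrArg Subtype.val hx) hh
  obtain ⟨a₀, rfl⟩ := exists_jP_of_fixed (by omega) hF hj a ha.1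
  obtain ⟨A, rfl⟩ := pr_surjective a₀
  refine ⟨A, pr n F h, uProj n hF g, ha, jP_injective (by omega) j ?_, htw, rfl⟩
  rw [map_mul, jP_pInv, map_one]
  exact hgood

omit hj in
theorem isConjUnder_psl_iff (A A' : GL (Fin n) F₀) (hn : 3 ≤ n) :
    Cfsg.IsConjUnder (Cfsg.inndiagPSL n F₀) (graphAut A) (graphAut A') ↔
      ∃ x : PG n F₀, pr n F₀ A' = x * pr n F₀ A * (pInv x)⁻¹ := by
  rw [AutPSL.inndiagPSL_eq]
  constructor
  · rintro ⟨_, ⟨g, rfl⟩, h⟩
    rw [AutPSL.Graph.conj_graphAut, eq_comm, AutPSL.Graph.graphAut_eq_iff hn, ← pr_eq_iff] at h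
    refine ⟨pr n F₀ g, ?_⟩
    rw [← h, map_mul, map_mul, pInv_pr, ← gInv_apply, map_inv, map_inv, gInv_apply]
  · rintro ⟨x, hx⟩
    obtain ⟨g, rfl⟩ := pr_surjective x
    refine ⟨_, ⟨g, rfl⟩, ?_⟩
    rw [AutPSL.Graph.conj_graphAut, eq_comm, AutPSL.Graph.graphAut_eq_iff hn, ← pr_eq_iff, hx,
      map_mul, map_mul, pInv_pr, ← gInv_apply, map_inv, map_inv, gInv_apply]

theorem isConjUnder_model_iff {A A' : GL (Fin n) F₀} {γ γ' : MulAut (Cfsg.PSU n F q)}
    (hA : IsModel hn hex hF j A γ) (hA' : IsModel hn hex hF j A' γ') :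
    Cfsg.IsConjUnder (Cfsg.inndiagPSU n F q) γ γ' ↔
      Cfsg.IsConjUnder (Cfsg.inndiagPSL n F₀) (graphAut A) (graphAut A') := by
  obtain ⟨h, x, hc, -, hx, rfl⟩ := hA
  obtain ⟨h', x', hc', -, hx', rfl⟩ := hA'
  rw [isConjUnder_uGraph_iff, isConjUnder_psl_iff A A' hn]
  constructor
  · rintro ⟨g, hg⟩
    obtain ⟨hgc, hgt⟩ := RealForm.carries_mul pInv_pInv (pMap_frob_frob hF)
      (pMap_pInv (frob hF)) hc (g := (g : PG n F)) g.2
    obtain ⟨y, hy, hy'⟩ := RealForm.carries_unique pInv_pInv (pMap_frob_frob hF)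
      (pMap_pInv (frob hF)) hgc hc' (by
        rw [hx', hgt, hx, ← hg]; rfl)
    obtain ⟨y₀, rfl⟩ := exists_jP_of_fixed (by omega) hF hj y hy
    exact ⟨y₀, jP_injective (by omega) j (by rw [map_mul, map_mul, map_inv, jP_pInv]; exact hy')⟩
  · rintro ⟨y, hy⟩
    obtain ⟨g, hg, hg'⟩ := RealForm.carries_conj pInv_pInv (pMap_frob_frob hF)
      (pMap_pInv (frob hF)) hc hc' (x := jP n j y) (pMap_jP hF hj y)
      (by rw [hy, map_mul, map_mul, map_inv, jP_pInv])
    refine ⟨⟨g, hg⟩, Subtype.ext ?_⟩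
    rw [Subgroup.coe_mul, Subgroup.coe_mul, Subgroup.coe_inv, coe_uInvP, ← hx, ← hx']
    exact hg'

theorem centralizer_model {A : GL (Fin n) F₀} {γ : MulAut (Cfsg.PSU n F q)}
    (hA : IsModel hn hex hF j A γ) :
    Nonempty (↥(Cfsg.inndiagPSU n F q ⊓ Subgroup.centralizer {γ}) ≃*
      ↥(Cfsg.inndiagPSL n F₀ ⊓ Subgroup.centralizer {graphAut A})) := by
  obtain ⟨h, x, hc, hgood, hx, rfl⟩ := hA
  set C := (Subgroup.centralizer {graphAut A}).comap (innDiag n F₀) with hC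
  obtain ⟨e⟩ := AutPSL.cent_equiv_of_param (graphAut A) ((Cfsg.Geo.scalars (Fin n) F₀).subgroupOf C)
    C.subtype (fun g => (AutPSL.mem_cent_iff _ _).1 g.2)
    (fun g => by
      rw [AutPSL.innDiag_eq_one_iff (by omega), Subgroup.mem_subgroupOf, Cfsg.Geo.mem_scalars_iff]
      haveI : Nonempty (Fin n) := ⟨⟨0, by omega⟩⟩
      constructor
      · rintro ⟨c, hc⟩
        exact ⟨Units.mk0 c (by rintro rfl; exact (g : GL (Fin n) F₀).ne_zero (by simpa using hc)), hc⟩
      · rintro ⟨c, hc⟩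
        exact ⟨c, hc⟩)
    fun g hg => ⟨⟨g, (AutPSL.mem_cent_iff _ _).2 hg⟩, rfl⟩
  have hgood' : pInv (jP n j (pr n F₀ A)) * jP n j (pr n F₀ A) = 1 := by
    rw [← jP_pInv, ← map_mul, hgood, map_one]
  have key : ∀ g : GL (Fin n) F₀, g ∈ C ↔
      pr n F₀ g * pr n F₀ A = pr n F₀ A * pInv (pr n F₀ g) := fun g => by
    rw [hC, AutPSL.mem_cent_iff, AutPSL.Graph.innDiag_mul_graphAut,
      AutPSL.Graph.graphAut_mul_innDiag, AutPSL.Graph.graphAut_eq_iff hn, ← pr_eq_iff, map_mul,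
      map_mul, pInv_pr]
  have hmem : ∀ g : C, pMap (frob hF) (h * pInv (jP n j (pr n F₀ g)) * h⁻¹) =
      pInv (h * pInv (jP n j (pr n F₀ g)) * h⁻¹) ∧
      h * pInv (jP n j (pr n F₀ g)) * h⁻¹ * (x : PG n F) =
        (x : PG n F) * pInv (h * pInv (jP n j (pr n F₀ g)) * h⁻¹) := fun g => by
    rw [← hx]
    refine RealForm.cent_mem pInv_pInv (pMap_frob_frob hF) (pMap_pInv (frob hF)) hc hgood'
      (pMap_jP hF hj _) ?_
    rw [← jP_pInv, ← map_mul (jP n j), ← map_mul (jP n j), (key g).1 g.2]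
  let φ : C →* uP n hF :=
    ((MulAut.conj h).toMonoidHom.comp (pInv.comp ((jP n j).comp ((pr n F₀).comp C.subtype)))).codRestrict
      (uP n hF) fun g => (hmem g).1
  have hφ : ∀ g : C, (φ g : PG n F) = h * pInv (jP n j (pr n F₀ g)) * h⁻¹ := fun g => rfl
  let ψ : C →* ↥(Cfsg.inndiagPSU n F q ⊓ Subgroup.centralizer {uGraph hn hex hF x}) :=
    ((uAutP hn hex hF).comp φ).codRestrict _ fun g => by
      refine ⟨range_uAutP hn hex hF ▸ ⟨_, rfl⟩, Subgroup.mem_centralizer_singleton_iff.2 ?_⟩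
      refine (comm_uGraph_iff hn hex hF _ _).2 (Subtype.ext ?_)
      rw [Subgroup.coe_mul, Subgroup.coe_mul, coe_uInvP, hφ]
      exact (hmem g).2
  have hψ : Function.Surjective ψ := by
    rintro ⟨β, hβ, hβc⟩
    rw [← range_uAutP hn hex hF] at hβ
    obtain ⟨y, rfl⟩ := hβ
    have hy := congrArg Subtype.val
      ((comm_uGraph_iff hn hex hF _ _).1 (Subgroup.mem_centralizer_singleton_iff.1 hβc))
    rw [Subgroup.coe_mul, Subgroup.coe_mul, coe_uInvP, ← hx] at hy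
    obtain ⟨z, hz, hz', hz''⟩ := RealForm.cent_surj pInv_pInv (pMap_frob_frob hF)
      (pMap_pInv (frob hF)) hc y.2 hy
    obtain ⟨z₀, rfl⟩ := exists_jP_of_fixed (by omega) hF hj z hz
    obtain ⟨g, rfl⟩ := pr_surjective z₀
    have hg : g ∈ C := (key g).2 (jP_injective (by omega) j (by
      rw [map_mul, map_mul, jP_pInv]; exact hz'))
    exact ⟨⟨g, hg⟩, Subtype.ext (congrArg (uAutP hn hex hF) (Subtype.ext hz''))⟩
  have hker : ψ.ker = (Cfsg.Geo.scalars (Fin n) F₀).subgroupOf C := by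
    ext g
    rw [MonoidHom.mem_ker, Subgroup.mem_subgroupOf, ← QuotientGroup.eq_one_iff, ← Subtype.coe_inj]
    show uAutP hn hex hF (φ g) = 1 ↔ _
    rw [map_eq_one_iff _ (uAutP_injective hn hex hF), ← Subtype.coe_inj, hφ]
    show h * pInv (jP n j (pr n F₀ g)) * h⁻¹ = 1 ↔ pr n F₀ g = 1
    rw [conj_eq_one_iff, map_eq_one_iff _ (fun a b hab => by
      rw [← pInv_pInv a, hab, pInv_pInv]), map_eq_one_iff _ (jP_injective (by omega) j)]
  exact ⟨((QuotientGroup.quotientMulEquivOfEq hker.symm).trans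
    (QuotientGroup.quotientKerEquivOfSurjective ψ hψ)).symm.trans e.symm⟩

end

end CfsgLib.Known.AutPSU
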