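import Cfsg.Agent.Lib.Known.AutPSU.Graph
import Cfsg.Agent.Lib.Known.AutPSL.GraphMain

/-!
# Classes and centralizers of involutory graph automorphisms of `PSU`
-/

set_option autoImplicit false
set_option linter.unusedSectionVars false

open Matrix

namespace CfsgLib.Known.AutPSU

open CfsgLib.Classical
open CfsgLib.Known.AutPSL.Graph (graphAut)

variable {n : ℕ} {F : Type*} [Field F] [Fintype F] {q : ℕ} {F₀ : Type*} [Field F₀] [Fintype F₀]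

theorem odd_dim (hF : Fintype.card F = q ^ 2) (hn : 3 ≤ n) (hex : n = 3 → q ≠ 2) {m : ℕ}
    (hnm : n = 2 * m + 1) (hF₀ : Fintype.card F₀ = q) (γ γ' : MulAut (Cfsg.PSU n F q))
    (hγ : Cfsg.IsGraphAutClassPSU γ) (hγ2 : orderOf γ = 2) (hγ' : Cfsg.IsGraphAutClassPSU γ')
    (hγ'2 : orderOf γ' = 2) :
    Nonempty (↥(Cfsg.inndiagPSU n F q ⊓ Subgroup.centralizer {γ}) ≃*
      Cfsg.PGO F₀ (Cfsg.quadFormOdd m F₀)) ∧ Cfsg.IsConjUnder (Cfsg.inndiagPSU n F q) γ γ' := by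
  obtain ⟨j, hj⟩ := exists_fixed_hom hF hF₀
  obtain ⟨A, hA⟩ := exists_model_of_class hn hex hF hj hγ hγ2
  obtain ⟨A', hA'⟩ := exists_model_of_class hn hex hF hj hγ' hγ'2
  have hg : ∀ {B : GL (Fin n) F₀} {δ : MulAut (Cfsg.PSU n F q)}, IsModel hn hex hF j B δ →
      Cfsg.IsGraphAutClassPSL (graphAut B) ∧ orderOf (graphAut B) = 2 := fun hB =>
    AutPSL.Graph.graphAut_class hn _ ((good_iff hn _).1 (by obtain ⟨_, _, _, h, _⟩ := hB; exact h))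
  obtain ⟨⟨e⟩, hconj⟩ := AutPSL.Graph.odd_dim hn hnm _ _ (hg hA).1 (hg hA).2 (hg hA').1 (hg hA').2
  obtain ⟨a⟩ := centralizer_model hn hex hF hj hA
  exact ⟨⟨a.trans e⟩, (isConjUnder_model_iff hn hex hF hj hA hA').2 hconj⟩

theorem transfer_class (hn : 3 ≤ n) (hex : n = 3 → q ≠ 2) (hF : Fintype.card F = q ^ 2)
    {j : F₀ →+* F} (hj : ∀ a : F, frob hF a = a ↔ a ∈ j.range) {δ : MulAut (AutPSL.PSL n F₀)}
    (hδ : Cfsg.IsGraphAutClassPSL δ) (hδ2 : orderOf δ = 2) :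
    ∃ (A : GL (Fin n) F₀) (γ : MulAut (Cfsg.PSU n F q)), δ = graphAut A ∧
      IsModel hn hex hF j A γ ∧ Cfsg.IsGraphAutClassPSU γ ∧ orderOf γ = 2 := by
  obtain ⟨-, A, rfl, hA⟩ := AutPSL.Graph.exists_graphAut hδ hδ2
  obtain ⟨γ, h1, h2, h3⟩ := exists_model hn hex hF hj A hA
  exact ⟨A, γ, rfl, h1, h2, h3⟩

theorem transfer_back (hn : 3 ≤ n) (hex : n = 3 → q ≠ 2) (hF : Fintype.card F = q ^ 2)
    {j : F₀ →+* F} (hj : ∀ a : F, frob hF a = a ↔ a ∈ j.range) {γ : MulAut (Cfsg.PSU n F q)}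
    (hγ : Cfsg.IsGraphAutClassPSU γ) (hγ2 : orderOf γ = 2) :
    ∃ A : GL (Fin n) F₀, IsModel hn hex hF j A γ ∧ Cfsg.IsGraphAutClassPSL (graphAut A) ∧
      orderOf (graphAut A) = 2 := by
  obtain ⟨A, hA⟩ := exists_model_of_class hn hex hF hj hγ hγ2
  exact ⟨A, hA, AutPSL.Graph.graphAut_class hn _
    ((good_iff hn _).1 (by obtain ⟨_, _, _, h, _⟩ := hA; exact h))⟩

theorem even_dim_odd_q (hodd : Odd q) (hF : Fintype.card F = q ^ 2) {m : ℕ} (hm : 2 ≤ m)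
    (hnm : n = 2 * m) (hF₀ : Fintype.card F₀ = q) :
    ∃ (γ₁ γ₂ γ₃ : MulAut (Cfsg.PSU n F q)) (a b : F₀),
      (∀ z₁ z₂ : F₀, z₁ ^ 2 + a * z₁ * z₂ + b * z₂ ^ 2 = 0 → z₁ = 0 ∧ z₂ = 0) ∧
      Cfsg.IsGraphAutClassPSU γ₁ ∧ orderOf γ₁ = 2 ∧ Cfsg.IsGraphAutClassPSU γ₂ ∧ orderOf γ₂ = 2 ∧
      Cfsg.IsGraphAutClassPSU γ₃ ∧ orderOf γ₃ = 2 ∧
      ¬ Cfsg.IsConjUnder (Cfsg.inndiagPSU n F q) γ₁ γ₂ ∧
      ¬ Cfsg.IsConjUnder (Cfsg.inndiagPSU n F q) γ₁ γ₃ ∧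
      ¬ Cfsg.IsConjUnder (Cfsg.inndiagPSU n F q) γ₂ γ₃ ∧
      (∀ γ : MulAut (Cfsg.PSU n F q), Cfsg.IsGraphAutClassPSU γ → orderOf γ = 2 →
        Cfsg.IsConjUnder (Cfsg.inndiagPSU n F q) γ₁ γ ∨ Cfsg.IsConjUnder (Cfsg.inndiagPSU n F q) γ₂ γ ∨
          Cfsg.IsConjUnder (Cfsg.inndiagPSU n F q) γ₃ γ) ∧
      Nonempty (↥(Cfsg.inndiagPSU n F q ⊓ Subgroup.centralizer {γ₁}) ≃* Cfsg.PGSp m F₀) ∧
      Nonempty (↥(Cfsg.inndiagPSU n F q ⊓ Subgroup.centralizer {γ₂}) ≃*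
        Cfsg.PGO F₀ (Cfsg.quadFormPlus m F₀)) ∧
      Nonempty (↥(Cfsg.inndiagPSU n F q ⊓ Subgroup.centralizer {γ₃}) ≃*
        Cfsg.PGO F₀ (Cfsg.quadFormMinus (m - 1) F₀ a b)) := by
  have hn : 3 ≤ n := by omega
  have hex : n = 3 → q ≠ 2 := fun h => by omega
  obtain ⟨j, hj⟩ := exists_fixed_hom hF hF₀
  obtain ⟨δ₁, δ₂, δ₃, a, b, hab, h1, h1', h2, h2', h3, h3', n12, n13, n23, hall, ⟨e₁⟩, ⟨e₂⟩, ⟨e₃⟩⟩ :=
    AutPSL.Graph.even_dim_odd_q (n := n) (F := F₀) (by rwa [hF₀]) hm hnm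
  obtain ⟨A₁, γ₁, rfl, m₁, c₁, o₁⟩ := transfer_class hn hex hF hj h1 h1'
  obtain ⟨A₂, γ₂, rfl, m₂, c₂, o₂⟩ := transfer_class hn hex hF hj h2 h2'
  obtain ⟨A₃, γ₃, rfl, m₃, c₃, o₃⟩ := transfer_class hn hex hF hj h3 h3'
  refine ⟨γ₁, γ₂, γ₃, a, b, hab, c₁, o₁, c₂, o₂, c₃, o₃,
    mt (isConjUnder_model_iff hn hex hF hj m₁ m₂).1 n12,
    mt (isConjUnder_model_iff hn hex hF hj m₁ m₃).1 n13,
    mt (isConjUnder_model_iff hn hex hF hj m₂ m₃).1 n23, fun γ hγ hγ2 => ?_,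
    (centralizer_model hn hex hF hj m₁).map fun x => x.trans e₁,
    (centralizer_model hn hex hF hj m₂).map fun x => x.trans e₂,
    (centralizer_model hn hex hF hj m₃).map fun x => x.trans e₃⟩
  obtain ⟨A, hA, hA1, hA2⟩ := transfer_back hn hex hF hj hγ hγ2
  exact (hall _ hA1 hA2).imp (isConjUnder_model_iff hn hex hF hj m₁ hA).2
    (Or.imp (isConjUnder_model_iff hn hex hF hj m₂ hA).2 (isConjUnder_model_iff hn hex hF hj m₃ hA).2)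

theorem even_dim_even_q [CharP F 2] (hF : Fintype.card F = q ^ 2) {m : ℕ} (hm : 2 ≤ m)
    (hnm : n = 2 * m) (hF₀ : Fintype.card F₀ = q) :
    ∃ (γ₁ γ₃ : MulAut (Cfsg.PSU n F q)) (t : ↥(Matrix.symplecticGroup (Fin m) F₀)),
      Cfsg.IsTransvection (t : Matrix (Fin m ⊕ Fin m) (Fin m ⊕ Fin m) F₀) ∧
      Cfsg.IsGraphAutClassPSU γ₁ ∧ orderOf γ₁ = 2 ∧ Cfsg.IsGraphAutClassPSU γ₃ ∧ orderOf γ₃ = 2 ∧
      ¬ Cfsg.IsConjUnder (Cfsg.inndiagPSU n F q) γ₁ γ₃ ∧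
      (∀ γ : MulAut (Cfsg.PSU n F q), Cfsg.IsGraphAutClassPSU γ → orderOf γ = 2 →
        Cfsg.IsConjUnder (Cfsg.inndiagPSU n F q) γ₁ γ ∨
          Cfsg.IsConjUnder (Cfsg.inndiagPSU n F q) γ₃ γ) ∧
      Nonempty (↥(Cfsg.inndiagPSU n F q ⊓ Subgroup.centralizer {γ₁}) ≃*
        ↥(Matrix.symplecticGroup (Fin m) F₀)) ∧
      Nonempty (↥(Cfsg.inndiagPSU n F q ⊓ Subgroup.centralizer {γ₃}) ≃*
        ↥(Subgroup.centralizer ({t} : Set ↥(Matrix.symplecticGroup (Fin m) F₀)))) := by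
  have hn : 3 ≤ n := by omega
  have hex : n = 3 → q ≠ 2 := fun h => by omega
  obtain ⟨j, hj⟩ := exists_fixed_hom hF hF₀
  haveI : CharP F₀ 2 := (RingHom.charP_iff j j.injective 2).2 inferInstance
  obtain ⟨δ₁, δ₃, t, ht, h1, h1', h3, h3', n13, hall, ⟨e₁⟩, ⟨e₃⟩⟩ :=
    AutPSL.Graph.even_dim_even_q (n := n) (F := F₀) hm hnm
  obtain ⟨A₁, γ₁, rfl, m₁, c₁, o₁⟩ := transfer_class hn hex hF hj h1 h1'
  obtain ⟨A₃, γ₃, rfl, m₃, c₃, o₃⟩ := transfer_class hn hex hF hj h3 h3'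
  refine ⟨γ₁, γ₃, t, ht, c₁, o₁, c₃, o₃, mt (isConjUnder_model_iff hn hex hF hj m₁ m₃).1 n13,
    fun γ hγ hγ2 => ?_,
    (centralizer_model hn hex hF hj m₁).map fun x => x.trans e₁,
    (centralizer_model hn hex hF hj m₃).map fun x => x.trans e₃⟩
  obtain ⟨A, hA, hA1, hA2⟩ := transfer_back hn hex hF hj hγ hγ2
  exact (hall _ hA1 hA2).imp (isConjUnder_model_iff hn hex hF hj m₁ hA).2
    (isConjUnder_model_iff hn hex hF hj m₃ hA).2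

theorem field_aut_centralizer (hodd : Odd q) (hF : Fintype.card F = q ^ 2) {m : ℕ} (hm : 2 ≤ m)
    (hnm : n = 2 * m) (h4 : 4 ∣ n) (hF₀ : Fintype.card F₀ = q) (σ : F ≃+* F)
    (hσ : ∀ a : F, σ a = a ^ q) (φ : MulAut (Cfsg.PSU n F q)) (hφ : Cfsg.IsFieldAutPSUOf σ φ) :
    Nonempty (↥(Cfsg.inndiagPSU n F q ⊓ Subgroup.centralizer {φ}) ≃*
      Cfsg.PGO F₀ (Cfsg.quadFormPlus m F₀)) := by
  have hn : 3 ≤ n := by omega
  have hex : n = 3 → q ≠ 2 := fun h => by omega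
  obtain ⟨j, hj⟩ := exists_fixed_hom hF hF₀
  have hσ' : σ = frob hF := RingEquiv.ext fun a => by rw [hσ, frob_apply]
  subst hσ'
  have hm1 : IsModel hn hex hF j (1 : GL (Fin n) F₀) φ := by
    refine ⟨1, 1, ⟨?_, by simp⟩, by simp, ?_, ?_⟩
    · simp
    · simp [RealForm.tw]
    · rw [(isFieldAutPSUOf_iff hF _ φ).1 hφ, uGraph, map_one, one_mul]; rfl
  obtain ⟨a⟩ := centralizer_model hn hex hF hj hm1
  obtain ⟨e⟩ := (AutPSL.Graph.inverse_transpose (n := n) (F := F₀) (by rwa [hF₀]) hm hnm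
    (AutPSL.iota) ((AutPSL.isInverseTransposeAutPSL_iff _).2 rfl)).1 (by
      obtain ⟨k, rfl⟩ := h4
      obtain ⟨l, hl⟩ := hodd
      rw [hF₀, mul_assoc, Nat.mul_div_cancel_left _ (by norm_num), hl, Nat.add_sub_cancel]
      exact ⟨k * l, by ring⟩)
  refine ⟨a.trans ?_⟩
  rw [show graphAut (1 : GL (Fin n) F₀) = AutPSL.iota by rw [graphAut, map_one, one_mul]]
  exact e

end CfsgLib.Known.AutPSU
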