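import Cfsg.Agent.Lib.Known.AutPSU.TransMain
import Cfsg.Agent.Lib.Known.AutPSL.Structure
import Cfsg.Agent.Lib.Classical.Unitary.DetQuot

/-!
# The outer automorphism group of `PSU`
-/

set_option autoImplicit false
set_option linter.unusedSectionVars false

namespace CfsgLib.Known.AutPSU

open CfsgLib.Classical
open CfsgLib.Known.AutPSL (glMap)

variable {n : ℕ} {F : Type*} [Field F] [Fintype F] {q : ℕ} (hF : Fintype.card F = q ^ 2)

theorem exists_semi (hn : 3 ≤ n) (hex : n = 3 → q ≠ 2) (β : MulAut (Cfsg.PSU n F q)) :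
    ∃ (g : uGL n hF) (θ : F ≃+* F), (g : GL (Fin n) F) ∈ Cfsg.GU n F q ∧ β = uSemi hF g θ := by
  obtain ⟨g, hg, θ, h⟩ := Trans.exists_eq_uSemi (hF := hF) hn hex β
  exact ⟨_, θ, hg, h⟩

theorem uSemi_eq_iff (hn : 3 ≤ n) (hex : n = 3 → q ≠ 2) (g g' : uGL n hF) (θ θ' : F ≃+* F) :
    uSemi hF g θ = uSemi hF g' θ' ↔ θ = θ' ∧ pr n F (g : GL (Fin n) F) = pr n F (g' : GL (Fin n) F) := by
  have hinv : (uSemi hF g' θ')⁻¹ = uSemi hF (uMap hF θ'.symm g'⁻¹) θ'.symm := by
    refine inv_eq_of_mul_eq_one_right ?_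
    rw [uSemi_mul, show uMap hF θ' (uMap hF θ'.symm g'⁻¹) = g'⁻¹ from
      Subtype.ext (Units.ext (Matrix.ext fun i j => θ'.apply_symm_apply _)), mul_inv_cancel,
      RingEquiv.symm_trans_self, uSemi_one]
  rw [← mul_inv_eq_one, hinv, uSemi_mul, uSemi_eq_one_iff hF hn hex]
  have hback : ∀ x : GL (Fin n) F, glMap θ (glMap θ.symm x) = x := fun x =>
    Units.ext (Matrix.ext fun i j => θ.apply_symm_apply _)
  constructor
  · rintro ⟨h1, h2⟩
    have hθ : θ = θ' := RingEquiv.ext fun x => by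
      have := RingEquiv.congr_fun h1 (θ' x)
      simpa using this
    subst hθ
    refine ⟨rfl, ?_⟩
    simp only [Subgroup.coe_mul, coe_uMap, Subgroup.coe_inv] at h2
    rw [hback, map_mul, map_inv, mul_inv_eq_one] at h2
    exact h2
  · rintro ⟨rfl, h⟩
    refine ⟨RingEquiv.symm_trans_self θ, ?_⟩
    simp only [Subgroup.coe_mul, coe_uMap, Subgroup.coe_inv]
    rw [hback, map_mul, map_inv, h, mul_inv_cancel]

theorem conj_mk_eq_uInn (t : Cfsg.SU n F q) :
    MulAut.conj (QuotientGroup.mk t : Cfsg.PSU n F q) =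
      uInn n hF ⟨Matrix.SpecialLinearGroup.toGL (t : Matrix.SpecialLinearGroup (Fin n) F),
        GU_le_uGL hF (Herm.toGL_mem_GU t)⟩ :=
  psu_ext fun s => by
    rw [uInn_apply, uSemi_mk, MulAut.conj_apply]
    rfl

/-- the field part of an automorphism -/
theorem exists_field_hom (hn : 3 ≤ n) (hex : n = 3 → q ≠ 2) :
    ∃ ψ : MulAut (Cfsg.PSU n F q) →* (F ≃+* F), ∀ g θ, ψ (uSemi hF g θ) = θ := by
  choose g θ hg h using exists_semi hF hn hex
  have key : ∀ β g' θ', β = uSemi hF g' θ' → θ β = θ' := fun β g' θ' hβ =>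
    ((uSemi_eq_iff hF hn hex _ _ _ _).1 ((h β).symm.trans hβ)).1
  refine ⟨MonoidHom.mk' θ fun a b => ?_, fun g' θ' => key _ g' θ' rfl⟩
  refine key _ (g a * uMap hF (θ a) (g b)) _ ?_
  conv_lhs => rw [h a, h b, uSemi_mul]
  rfl

include hF in
theorem mem_inn_uInn_iff (hn : 3 ≤ n) (hex : n = 3 → q ≠ 2) :
    ((QuotientGroup.mk' (Cfsg.Inn (Cfsg.PSU n F q))).comp
      ((uInn n hF).comp (Subgroup.inclusion (GU_le_uGL hF)))).ker =
      (Matrix.GeneralLinearGroup.det : Matrix.GeneralLinearGroup (Fin n) F →* Fˣ).ker.subgroupOf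
        (Cfsg.GU n F q) ⊔ Subgroup.center ↥(Cfsg.GU n F q) := by
  refine le_antisymm (fun g hg => ?_) (sup_le (fun g hg => ?_) fun g hg => ?_)
  · obtain ⟨x, hx⟩ := (QuotientGroup.eq_one_iff _).1 hg
    obtain ⟨t, rfl⟩ := QuotientGroup.mk_surjective x
    rw [conj_mk_eq_uInn hF] at hx
    obtain ⟨-, hpr⟩ := (uSemi_eq_iff hF hn hex _ _ _ _).1 hx
    obtain ⟨c, hc⟩ := (pr_eq_iff _ _).1 hpr
    let t' : Cfsg.GU n F q :=
      ⟨Matrix.SpecialLinearGroup.toGL (t : Matrix.SpecialLinearGroup (Fin n) F), Herm.toGL_mem_GU t⟩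
    have hdiff : t'⁻¹ * g ∈ Subgroup.center (Cfsg.GU n F q) := by
      refine Subgroup.mem_center_iff.2 fun y => Subtype.ext (Units.ext ?_)
      have hm : (((t'⁻¹ * g : Cfsg.GU n F q) : GL (Fin n) F) : Matrix (Fin n) (Fin n) F) = (c : F) • 1 := by
        change (((g : GL (Fin n) F)) : Matrix (Fin n) (Fin n) F) = (c : F) • _ at hc
        rw [Subgroup.coe_mul, Units.val_mul, hc, Matrix.mul_smul]
        congr 1
        exact Units.inv_mul (Matrix.SpecialLinearGroup.toGL (t : Matrix.SpecialLinearGroup (Fin n) F))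
      have hmul : ∀ a b : Cfsg.GU n F q, ((((a * b : Cfsg.GU n F q) : GL (Fin n) F)) : Matrix (Fin n) (Fin n) F) =
          ((a : GL (Fin n) F) : Matrix (Fin n) (Fin n) F) * ((b : GL (Fin n) F) : Matrix (Fin n) (Fin n) F) :=
        fun _ _ => rfl
      rw [hmul, hmul (t'⁻¹ * g), hm, Matrix.mul_smul, Matrix.smul_mul, mul_one, one_mul]
    rw [← mul_inv_cancel_left t' g]
    refine Subgroup.mul_mem_sup (Subgroup.mem_subgroupOf.2 (MonoidHom.mem_ker.2 (Units.ext ?_))) hdiff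
    exact t.1.2
  · have hdet : ((g : GL (Fin n) F) : Matrix (Fin n) (Fin n) F).det = 1 :=
      congrArg Units.val (MonoidHom.mem_ker.1 (Subgroup.mem_subgroupOf.1 hg))
    let S : Matrix.SpecialLinearGroup (Fin n) F := ⟨((g : GL (Fin n) F) : Matrix (Fin n) (Fin n) F), hdet⟩
    have hS : Matrix.SpecialLinearGroup.toGL S = (g : GL (Fin n) F) := Units.ext rfl
    have hmem : Matrix.SpecialLinearGroup.toGL S ∈ Cfsg.GU n F q := hS ▸ g.2
    let t : Cfsg.SU n F q := ⟨S, hmem⟩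
    refine (QuotientGroup.eq_one_iff _).2 ⟨QuotientGroup.mk t, ?_⟩
    rw [conj_mk_eq_uInn hF]
    exact congrArg (uInn n hF) (Subtype.ext (Units.ext rfl))
  · refine (QuotientGroup.eq_one_iff _).2 ?_
    have h1 : uInn n hF (Subgroup.inclusion (GU_le_uGL hF) g) = 1 := psu_ext fun s => by
      rw [uInn_apply, uSemi_mk, MulAut.one_apply]
      congr 1
      have hs : g * ⟨_, Herm.toGL_mem_GU s⟩ * g⁻¹ = ⟨_, Herm.toGL_mem_GU s⟩ :=
        mul_inv_eq_iff_eq_mul.2 (Subgroup.mem_center_iff.1 hg _).symm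
      refine Subtype.ext (Subtype.ext (Eq.trans ?_ (congrArg
        (fun x : Cfsg.GU n F q => ((x : GL (Fin n) F) : Matrix (Fin n) (Fin n) F)) hs)))
      rfl
    show uInn n hF _ ∈ Cfsg.Inn _
    rw [h1]
    exact Subgroup.one_mem _

include hF in
/-- the outer automorphism group of `PSU` -/
theorem exists_out (hn : 3 ≤ n) (hex : n = 3 → q ≠ 2) {p f : ℕ} [Fact p.Prime] (hf : 1 ≤ f) (hq : q = p ^ f) :
    ∃ φ : Cfsg.Out (Cfsg.PSU n F q) →* Multiplicative (ZMod (2 * f)),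
      Function.Surjective φ ∧ IsCyclic φ.ker ∧ Nat.card φ.ker = Nat.gcd n (q + 1) := by
  obtain ⟨ψ, hψ⟩ := exists_field_hom hF hn hex
  obtain ⟨hcard, hcyc⟩ := AutPSL.card_ringAut (F := F) (p := p) (f := 2 * f)
    (by rw [hF, hq, ← pow_mul, mul_comm]) (by omega)
  haveI := hcyc
  let ε : (F ≃+* F) ≃* Multiplicative (ZMod (2 * f)) := (hcard ▸ zmodCyclicMulEquiv hcyc).symm
  have hinn : Cfsg.Inn (Cfsg.PSU n F q) ≤ (ε.toMonoidHom.comp ψ).ker := by
    rintro _ ⟨x, rfl⟩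
    obtain ⟨t, rfl⟩ := QuotientGroup.mk_surjective x
    rw [MonoidHom.mem_ker, MonoidHom.comp_apply, conj_mk_eq_uInn hF, uInn_apply, hψ]
    exact map_one ε
  set φ := QuotientGroup.lift _ (ε.toMonoidHom.comp ψ) hinn with hφ
  refine ⟨φ, fun y => ⟨QuotientGroup.mk (uSemi hF 1 (ε.symm y)), ?_⟩, ?_⟩
  · rw [hφ, QuotientGroup.lift_mk, MonoidHom.comp_apply, hψ]
    exact ε.apply_symm_apply y
  let χ : Cfsg.GU n F q →* Cfsg.Out (Cfsg.PSU n F q) :=
    (QuotientGroup.mk' _).comp ((uInn n hF).comp (Subgroup.inclusion (GU_le_uGL hF)))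
  have hrange : χ.range = φ.ker := by
    ext x
    induction x using QuotientGroup.induction_on with
    | H β =>
      constructor
      · rintro ⟨g, hg⟩
        rw [MonoidHom.mem_ker, ← hg]
        show φ (QuotientGroup.mk (uInn n hF _)) = 1
        rw [hφ, QuotientGroup.lift_mk, MonoidHom.comp_apply, uInn_apply, hψ]
        exact map_one ε
      · intro h
        obtain ⟨g, θ, hg, rfl⟩ := exists_semi hF hn hex β
        rw [MonoidHom.mem_ker, hφ, QuotientGroup.lift_mk, MonoidHom.comp_apply, hψ] at h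
        obtain rfl : θ = RingEquiv.refl F := ε.injective (h.trans (map_one ε).symm)
        exact ⟨⟨g, hg⟩, rfl⟩
  obtain ⟨π, hπ, hπker⟩ := Herm.exists_gu_quot hF n (by omega)
  have hker : χ.ker = π.ker := by rw [hπker]; exact mem_inn_uInn_iff hF hn hex
  let e : φ.ker ≃* Multiplicative (ZMod (Nat.gcd n (q + 1))) :=
    (MulEquiv.subgroupCongr hrange.symm).trans ((QuotientGroup.quotientKerEquivRange χ).symm.trans
      ((QuotientGroup.quotientMulEquivOfEq hker).trans (QuotientGroup.quotientKerEquivOfSurjective π hπ)))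
  exact ⟨isCyclic_of_surjective e.symm e.symm.surjective, by
    rw [Nat.card_congr e.toEquiv, Nat.card_congr Multiplicative.toAdd, Nat.card_zmod]⟩

end CfsgLib.Known.AutPSU
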