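import Cfsg.Agent.Lib.Known.AutPSU.Aut
import Cfsg.Agent.Lib.Classical.Unitary.Order

/-!
# Transvections and root subgroups of `PSU`
-/

set_option autoImplicit false
set_option linter.style.haveILetI false
set_option linter.unusedSectionVars false

namespace CfsgLib.Known.AutPSU.Trans

open scoped Matrix
open CfsgLib.Classical

variable {n : ℕ} {F : Type*} [Field F] [Fintype F] {q : ℕ} (hF : Fintype.card F = q ^ 2)

/-- the natural module -/
abbrev Vec (n : ℕ) (F : Type*) : Type _ := Fin n → F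

/-- the Hermitian form, semilinear in the first variable -/
noncomputable abbrev bf : Vec n F →ₛₗ[Herm.powHom hF] Vec n F →ₗ[F] F := Herm.hermStd n hF

/-- the conjugation of the field -/
noncomputable abbrev cj : F →+* F := Herm.powHom hF

theorem cj_cj (a : F) : cj hF (cj hF a) = a := (Herm.powHom_isInvol hF).invol a

theorem bf_symm (x y : Vec n F) : cj hF (bf hF x y) = bf hF y x := (Herm.hermStd_isHerm hF).symm x y

theorem bf_smul_left (a : F) (x y : Vec n F) : bf hF (a • x) y = cj hF a * bf hF x y :=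
  Herm.smul_left (B := bf hF) a x y

theorem bf_smul_right (a : F) (x y : Vec n F) : bf hF x (a • y) = a * bf hF x y :=
  Herm.smul_right (B := bf hF) a x y

theorem bf_add_left (x x' y : Vec n F) : bf hF (x + x') y = bf hF x y + bf hF x' y :=
  Herm.add_left (B := bf hF) x x' y

theorem bf_add_right (x y y' : Vec n F) : bf hF x (y + y') = bf hF x y + bf hF x y' := map_add _ _ _

theorem bf_sub_left (x x' y : Vec n F) : bf hF (x - x') y = bf hF x y - bf hF x' y :=
  Herm.sub_left (B := bf hF) x x' y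

theorem bf_eq_zero_comm {x y : Vec n F} (h : bf hF x y = 0) : bf hF y x = 0 :=
  (Herm.hermStd_isHerm hF).eq_zero_symm h

/-- the action on vectors -/
def act (s : Cfsg.SU n F q) (x : Vec n F) : Vec n F :=
  ((s : Matrix.SpecialLinearGroup (Fin n) F) : Matrix (Fin n) (Fin n) F) *ᵥ x

theorem act_mul (s t : Cfsg.SU n F q) (x : Vec n F) : act (s * t) x = act s (act t x) :=
  (Matrix.mulVec_mulVec _ _ _).symm

theorem act_one (x : Vec n F) : act (1 : Cfsg.SU n F q) x = x := Matrix.one_mulVec _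

theorem act_inv_act (s : Cfsg.SU n F q) (x : Vec n F) : act s⁻¹ (act s x) = x := by
  rw [← act_mul, inv_mul_cancel, act_one]

theorem act_act_inv (s : Cfsg.SU n F q) (x : Vec n F) : act s (act s⁻¹ x) = x := by
  rw [← act_mul, mul_inv_cancel, act_one]

theorem act_add (s : Cfsg.SU n F q) (x y : Vec n F) : act s (x + y) = act s x + act s y := Matrix.mulVec_add _ _ _

theorem act_sub (s : Cfsg.SU n F q) (x y : Vec n F) : act s (x - y) = act s x - act s y := Matrix.mulVec_sub _ _ _

theorem act_smul (s : Cfsg.SU n F q) (a : F) (x : Vec n F) : act s (a • x) = a • act s x :=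
  Matrix.mulVec_smul _ _ _

theorem act_zero (s : Cfsg.SU n F q) : act s (0 : Vec n F) = 0 := Matrix.mulVec_zero _

theorem act_injective (s : Cfsg.SU n F q) : Function.Injective (act s) := fun x y h => by
  rw [← act_inv_act s x, h, act_inv_act]

theorem act_ne_zero (s : Cfsg.SU n F q) {x : Vec n F} (hx : x ≠ 0) : act s x ≠ 0 := fun h =>
  hx (act_injective s (h.trans (act_zero s).symm))

theorem act_eq (s : Cfsg.SU n F q) (x : Vec n F) :
    act s x = ((Herm.suEquiv n hF s : Herm.HU (bf (n := n) hF)) : Vec n F ≃ₗ[F] Vec n F) x := rfl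

theorem bf_act (s : Cfsg.SU n F q) (x y : Vec n F) : bf hF (act s x) (act s y) = bf hF x y := by
  rw [act_eq hF, act_eq hF]
  exact Herm.HU.map_eq _ _ _

theorem ext_act {s t : Cfsg.SU n F q} (h : ∀ x, act s x = act t x) : s = t :=
  Subtype.ext (Subtype.ext (Matrix.toLin'.injective (LinearMap.ext fun x => h x)))

theorem exists_su_eq {g : Herm.HU (bf (n := n) hF)} (hg : g ∈ Herm.HSU (bf hF)) :
    ∃ s : Cfsg.SU n F q, ∀ x, act s x = (g : Vec n F ≃ₗ[F] Vec n F) x :=
  ⟨(Herm.suEquiv n hF).symm ⟨g, hg⟩, fun x => by rw [act_eq hF, MulEquiv.apply_symm_apply]⟩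

include hF in
theorem mem_center_iff (hn : 3 ≤ n) {s : Cfsg.SU n F q} :
    s ∈ Subgroup.center (Cfsg.SU n F q) ↔ ∃ a : F, ∀ x, act s x = a • x := by
  constructor
  · intro hs
    obtain ⟨c, hc⟩ := scalar_of_mem_center hF hn s hs
    exact ⟨c, fun x => by rw [act, hc, Matrix.smul_mulVec, Matrix.one_mulVec]⟩
  · rintro ⟨a, ha⟩
    exact Subgroup.mem_center_iff.2 fun t => ext_act fun x => by rw [act_mul, act_mul, ha, ha, act_smul]

/-- the projection to `PSU` -/
def proj (n : ℕ) (F : Type*) [Field F] (q : ℕ) : Cfsg.SU n F q →* Cfsg.PSU n F q := QuotientGroup.mk' _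

theorem proj_surjective : Function.Surjective (proj n F q) := QuotientGroup.mk_surjective

include hF in
theorem exists_scalar (hn : 3 ≤ n) {s t : Cfsg.SU n F q} (h : proj n F q s = proj n F q t) :
    ∃ a : F, ∀ x, act t x = a • act s x := by
  obtain ⟨a, ha⟩ := (mem_center_iff hF hn).1 (QuotientGroup.eq.1 h)
  refine ⟨a, fun x => ?_⟩
  have h1 := congrArg (act s) (ha x)
  rwa [act_mul, act_act_inv, act_smul] at h1

include hF in
/-- equal images and a common fixed vector force equality -/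
theorem eq_of_proj_eq (hn : 3 ≤ n) {s t : Cfsg.SU n F q} (h : proj n F q s = proj n F q t) {x : Vec n F}
    (hx : x ≠ 0) (hs : act s x = x) (ht : act t x = x) : s = t := by
  obtain ⟨a, ha⟩ := exists_scalar hF hn h
  have h1 := ha x
  rw [hs, ht] at h1
  have ha1 : a = 1 := smul_left_injective F hx (h1.symm.trans (one_smul F x).symm)
  exact ext_act fun y => by rw [ha, ha1, one_smul]

include hF in
theorem proj_eq_of_scalar (hn : 3 ≤ n) {s t : Cfsg.SU n F q} {a : F} (h : ∀ x, act t x = a • act s x) :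
    proj n F q s = proj n F q t :=
  QuotientGroup.eq.2 ((mem_center_iff hF hn).2 ⟨a, fun x => act_injective s (by
    rw [act_mul, act_act_inv, h, act_smul])⟩)

/-- the scalars of transvections -/
def IsSk (c : F) : Prop := c + cj hF c = 0

theorem IsSk.map {c : F} (h : IsSk hF c) : cj hF c = -c := eq_neg_of_add_eq_zero_right h

theorem isSk_zero : IsSk hF (0 : F) := by rw [IsSk, map_zero, add_zero]

theorem IsSk.add {c d : F} (hc : IsSk hF c) (hd : IsSk hF d) : IsSk hF (c + d) := by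
  rw [IsSk, map_add, hc.map, hd.map]; ring

theorem IsSk.neg {c : F} (hc : IsSk hF c) : IsSk hF (-c) := by rw [IsSk, map_neg, hc.map]; ring

theorem IsSk.sub {c d : F} (hc : IsSk hF c) (hd : IsSk hF d) : IsSk hF (c - d) := by
  rw [IsSk, map_sub, hc.map, hd.map]; ring

theorem IsSk.inv {c : F} (hc : IsSk hF c) : IsSk hF c⁻¹ := by rw [IsSk, map_inv₀, hc.map, inv_neg, add_neg_cancel]

theorem IsSk.mul_fixed {c r : F} (hc : IsSk hF c) (hr : cj hF r = r) : IsSk hF (r * c) := by
  rw [IsSk, map_mul, hr, hc.map]; ring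

theorem exists_isSk : ∃ c : F, c ≠ 0 ∧ IsSk hF c := (Herm.hermStd_isHerm (n := 1) hF).exists_skew

theorem exists_tv {v : Vec n F} {c : F} (hv : bf hF v v = 0) (hc : IsSk hF c) :
    ∃ s : Cfsg.SU n F q, ∀ x, act s x = x + (c * bf hF v x) • v := by
  obtain ⟨s, hs⟩ := exists_su_eq hF (MonoidHom.mem_ker.2 ((Herm.hermStd_isHerm hF).det_tr hv hc))
  exact ⟨s, fun x => (hs x).trans ((Herm.hermStd_isHerm hF).tr_apply hv hc x)⟩

/-- the transvection, `1` if the data are not admissible -/
noncomputable def tv (v : Vec n F) (c : F) : Cfsg.SU n F q :=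
  @dite _ (bf hF v v = 0 ∧ IsSk hF c) (_root_.Classical.propDecidable _)
    (fun h => (exists_tv hF h.1 h.2).choose) (fun _ => 1)

theorem tv_act {v : Vec n F} {c : F} (hv : bf hF v v = 0) (hc : IsSk hF c) (x : Vec n F) :
    act (tv hF v c) x = x + (c * bf hF v x) • v := by
  rw [tv, dif_pos ⟨hv, hc⟩]
  exact (exists_tv hF hv hc).choose_spec x

theorem tv_fix {v x : Vec n F} (c : F) (h : bf hF v x = 0) : act (tv hF v c) x = x := by
  by_cases h' : bf hF v v = 0 ∧ IsSk hF c
  · rw [tv_act hF h'.1 h'.2, h, mul_zero, zero_smul, add_zero]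
  · rw [tv, dif_neg h', act_one]

theorem tv_mul {v : Vec n F} {c d : F} (hv : bf hF v v = 0) (hc : IsSk hF c) (hd : IsSk hF d) :
    tv hF v c * tv hF v d = tv hF v (c + d) := ext_act fun x => by
  rw [act_mul, tv_act hF hv hd, tv_act hF hv hc, tv_act hF hv (hc.add hF hd), bf_add_right, bf_smul_right, hv,
    mul_zero, add_zero]
  module

theorem tv_zero (v : Vec n F) : tv hF v 0 = 1 := ext_act fun x => by
  by_cases hv : bf hF v v = 0
  · rw [tv_act hF hv (isSk_zero hF), zero_mul, zero_smul, add_zero, act_one]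
  · rw [tv, dif_neg (fun h => hv h.1)]

theorem tv_inv {v : Vec n F} {c : F} (hv : bf hF v v = 0) (hc : IsSk hF c) :
    (tv hF v c)⁻¹ = tv hF v (-c) :=
  inv_eq_of_mul_eq_one_right (by rw [tv_mul hF hv hc (hc.neg hF), add_neg_cancel, tv_zero])

/-- the norm -/
noncomputable def nm (a : F) : F := a * cj hF a

theorem cj_nm (a : F) : cj hF (nm hF a) = nm hF a := by rw [nm, map_mul, cj_cj, mul_comm]

theorem nm_mul (a b : F) : nm hF (a * b) = nm hF a * nm hF b := by rw [nm, nm, nm, map_mul]; ring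

theorem nm_ne_zero {a : F} (ha : a ≠ 0) : nm hF a ≠ 0 := mul_ne_zero ha ((map_ne_zero _).2 ha)

theorem bf_self_smul (a : F) (v : Vec n F) : bf hF (a • v) (a • v) = nm hF a * bf hF v v := by
  rw [bf_smul_left, bf_smul_right, nm]; ring

theorem tv_smul {v : Vec n F} {c : F} (a : F) (hv : bf hF v v = 0) (hc : IsSk hF c) :
    tv hF (a • v) c = tv hF v (nm hF a * c) := ext_act fun x => by
  rw [tv_act hF (by rw [bf_self_smul, hv, mul_zero]) hc, tv_act hF hv (hc.mul_fixed hF (cj_nm hF a)),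
    bf_smul_left, smul_smul, nm]
  congr 2
  ring

theorem conj_tv {v : Vec n F} {c : F} (hv : bf hF v v = 0) (hc : IsSk hF c) (s : Cfsg.SU n F q) :
    s * tv hF v c * s⁻¹ = tv hF (act s v) c := ext_act fun x => by
  rw [act_mul, act_mul, tv_act hF hv hc, tv_act hF (by rw [bf_act, hv]) hc, act_add, act_smul, act_act_inv,
    ← bf_act hF s v (act s⁻¹ x), act_act_inv]

/-- a transvection of `PSU` -/
noncomputable def T (v : Vec n F) (c : F) : Cfsg.PSU n F q := proj n F q (tv hF v c)

theorem T_mul {v : Vec n F} {c d : F} (hv : bf hF v v = 0) (hc : IsSk hF c) (hd : IsSk hF d) :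
    T hF v c * T hF v d = T hF v (c + d) := by rw [T, T, T, ← map_mul, tv_mul hF hv hc hd]

theorem T_zero (v : Vec n F) : T hF v 0 = 1 := by rw [T, tv_zero, map_one]

theorem T_inv {v : Vec n F} {c : F} (hv : bf hF v v = 0) (hc : IsSk hF c) :
    (T hF v c)⁻¹ = T hF v (-c) := by rw [T, T, ← map_inv, tv_inv hF hv hc]

theorem T_smul {v : Vec n F} {c : F} (a : F) (hv : bf hF v v = 0) (hc : IsSk hF c) :
    T hF (a • v) c = T hF v (nm hF a * c) := by rw [T, tv_smul hF a hv hc, T]

theorem conj_T {v : Vec n F} {c : F} (hv : bf hF v v = 0) (hc : IsSk hF c) (s : Cfsg.SU n F q) :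
    proj n F q s * T hF v c * (proj n F q s)⁻¹ = T hF (act s v) c := by
  rw [T, T, ← map_inv, ← map_mul, ← map_mul, conj_tv hF hv hc]

include hF in
theorem exists_perp_two (hn : 3 ≤ n) (v w : Vec n F) : ∃ x : Vec n F, x ≠ 0 ∧ bf hF v x = 0 ∧ bf hF w x = 0 := by
  obtain ⟨x, hx, hx0⟩ := Submodule.exists_mem_ne_zero_of_ne_bot
    (LinearMap.ker_ne_bot_of_finrank_lt (f := (bf hF v).prod (bf hF w)) (by
      rw [Module.finrank_fin_fun, Module.finrank_prod, Module.finrank_self]; omega))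
  have h := LinearMap.mem_ker.1 hx
  exact ⟨x, hx0, congrArg Prod.fst h, congrArg Prod.snd h⟩

theorem exists_bf_one {v : Vec n F} (hv : v ≠ 0) : ∃ x, bf hF v x = 1 :=
  (Herm.hermStd_isHerm hF).exists_apply_eq_one hv

/-- vectors with the same orthogonal hyperplane are parallel -/
theorem par_of_perp {w w' : Vec n F} (hw : w ≠ 0) (h : ∀ u, bf hF w u = 0 → bf hF w' u = 0) :
    ∃ a : F, w' = a • w := by
  obtain ⟨x, hx⟩ := exists_bf_one hF hw
  refine ⟨cj hF (bf hF w' x), sub_eq_zero.1 ((Herm.hermStd_isHerm hF).nondeg _ fun u => ?_)⟩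
  have h2 := h (u - bf hF w u • x) (by rw [map_sub, bf_smul_right, hx, mul_one, sub_self])
  rw [map_sub, bf_smul_right, sub_eq_zero] at h2
  rw [bf_sub_left, bf_smul_left, cj_cj, h2]
  ring

theorem T_eq_iff (hn : 3 ≤ n) {v w : Vec n F} {c d : F} (hv : bf hF v v = 0) (hw : bf hF w w = 0)
    (hc : IsSk hF c) (hd : IsSk hF d) (hv0 : v ≠ 0) (hc0 : c ≠ 0) (h : T hF v c = T hF w d) :
    ∃ a : F, a ≠ 0 ∧ w = a • v ∧ c = nm hF a * d := by
  obtain ⟨x, hx0, hxv, hxw⟩ := exists_perp_two hF hn v w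
  have he := eq_of_proj_eq hF hn h hx0 (tv_fix hF c hxv) (tv_fix hF d hxw)
  have h2 : ∀ y, (c * bf hF v y) • v = (d * bf hF w y) • w := fun y => by
    have h3 := congrArg (fun s => act s y) he
    simpa [tv_act hF hv hc, tv_act hF hw hd] using h3
  obtain ⟨y, hy⟩ := exists_bf_one hF hv0
  have h4 := h2 y
  rw [hy, mul_one] at h4
  have hk : d * bf hF w y ≠ 0 := fun e => by
    rw [e, zero_smul] at h4
    exact hc0 ((smul_eq_zero.1 h4).resolve_right hv0)
  obtain ⟨a, rfl⟩ : ∃ a : F, w = a • v := ⟨(d * bf hF w y)⁻¹ * c, by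
    rw [← smul_smul, h4, smul_smul, inv_mul_cancel₀ hk, one_smul]⟩
  rw [bf_smul_left, hy, mul_one, smul_smul] at h4
  have h5 : c = d * cj hF a * a := smul_left_injective F hv0 h4
  refine ⟨a, fun e => hc0 (by rw [h5, e, mul_zero]), rfl, ?_⟩
  rw [h5, nm]; ring

theorem T_ne_one (hn : 3 ≤ n) {v : Vec n F} {c : F} (hv : bf hF v v = 0) (hc : IsSk hF c) (hv0 : v ≠ 0)
    (hc0 : c ≠ 0) : T hF v c ≠ 1 := by
  intro h
  rw [← T_zero hF v] at h
  obtain ⟨a, -, -, h2⟩ := T_eq_iff hF hn hv hv hc (isSk_zero hF) hv0 hc0 h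
  exact hc0 (by rw [h2, mul_zero])

theorem T_zero_vec (c : F) : T hF (0 : Vec n F) c = 1 := by
  rw [T, show tv hF (0 : Vec n F) c = 1 from ext_act fun x => by rw [tv_fix hF c (by simp), act_one], map_one]

theorem T_inj (hn : 3 ≤ n) {v : Vec n F} {c d : F} (hv : bf hF v v = 0) (hv0 : v ≠ 0) (hc : IsSk hF c)
    (hd : IsSk hF d) (h : T hF v c = T hF v d) : c = d := by
  rcases eq_or_ne c d with e | e
  · exact e
  refine absurd ?_ (T_ne_one hF hn hv (hc.sub hF hd) hv0 (sub_ne_zero.2 e))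
  rw [sub_eq_add_neg, ← T_mul hF hv hc (hd.neg hF), h, T_mul hF hv hd (hd.neg hF), add_neg_cancel, T_zero]

theorem T_conj_T {v w : Vec n F} {c d : F} (hv : bf hF v v = 0) (hw : bf hF w w = 0) (hc : IsSk hF c)
    (hd : IsSk hF d) :
    T hF v c * T hF w d * (T hF v c)⁻¹ = T hF (w + (c * bf hF v w) • v) d := by
  rw [show T hF v c = proj n F q (tv hF v c) from rfl, conj_T hF hw hd, tv_act hF hv hc]

theorem T_commute_iff (hn : 3 ≤ n) {v w : Vec n F} {c d : F} (hv : bf hF v v = 0) (hw : bf hF w w = 0)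
    (hc : IsSk hF c) (hd : IsSk hF d) (hv0 : v ≠ 0) (hw0 : w ≠ 0) (hc0 : c ≠ 0) (hd0 : d ≠ 0) :
    Commute (T hF v c) (T hF w d) ↔ bf hF v w = 0 := by
  constructor
  · intro h
    have h1 := T_conj_T hF hv hw hc hd
    rw [h.eq, mul_inv_cancel_right] at h1
    have hu : bf hF (w + (c * bf hF v w) • v) (w + (c * bf hF v w) • v) = 0 := by
      rw [← tv_act hF hv hc, bf_act, hw]
    obtain ⟨a, -, h2, -⟩ := T_eq_iff hF hn hw hu hd hd hw0 hd0 h1
    by_contra hvw
    have h3 := congrArg (bf hF v) h2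
    rw [bf_add_right, bf_smul_right, bf_smul_right, hv, mul_zero, add_zero] at h3
    have ha : a = 1 := mul_right_cancel₀ hvw (by rw [one_mul]; exact h3.symm)
    rw [ha, one_smul, add_eq_left, smul_eq_zero, mul_eq_zero] at h2
    exact h2.elim (fun h4 => h4.elim hc0 hvw) hv0
  · intro h
    show T hF v c * T hF w d = T hF w d * T hF v c
    rw [← mul_inv_eq_iff_eq_mul, T_conj_T hF hv hw hc hd, h, mul_zero, zero_smul, add_zero]

include hF in
theorem exists_act_eq (hn : 3 ≤ n) {u w : Vec n F} (hu : u ≠ 0) (hw : w ≠ 0) (huu : bf hF u u = 0)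
    (hww : bf hF w w = 0) : ∃ s : Cfsg.SU n F q, act s u = w := by
  obtain ⟨g, hg, hgu⟩ := (Herm.hermStd_isHerm hF).transitive_isotropic
    (by rw [Herm.finrank_std]; exact hn) hu hw huu hww
  obtain ⟨s, hs⟩ := exists_su_eq hF ((Herm.hermStd_isHerm hF).trGroup_le hg)
  exact ⟨s, by rw [hs, hgu]⟩

include hF in
theorem exists_act_pair (hn : 3 ≤ n) {u f u' f' : Vec n F} (huu : bf hF u u = 0) (hff : bf hF f f = 0)
    (huf : bf hF u f = 1) (huu' : bf hF u' u' = 0) (hff' : bf hF f' f' = 0) (huf' : bf hF u' f' = 1) :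
    ∃ s : Cfsg.SU n F q, act s u = u' ∧ act s f = f' := by
  have h1 : u ≠ 0 := by rintro rfl; simp at huf
  have h2 : u' ≠ 0 := by rintro rfl; simp at huf'
  obtain ⟨s, hs⟩ := exists_act_eq hF hn h1 h2 huu huu'
  obtain ⟨g, hg, hgu, hgf⟩ := (Herm.hermStd_isHerm hF).transitive_hyperbolic (by rw [Herm.finrank_std]; exact hn)
    huu' (show bf hF u' (act s f) = 1 by rw [← hs, bf_act, huf]) huf' (by rw [bf_act, hff]) hff'
  obtain ⟨t, ht⟩ := exists_su_eq hF hg
  exact ⟨t * s, by rw [act_mul, hs, ht, hgu], by rw [act_mul, ht, hgf]⟩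

include hF in
theorem psu_hom_ext (hn : 3 ≤ n) (hex : n = 3 → q ≠ 2) {α β : MulAut (Cfsg.PSU n F q)}
    (h : ∀ v c, bf hF v v = 0 → IsSk hF c → α (T hF v c) = β (T hF v c)) : α = β := by
  refine psu_ext fun s => ?_
  have hs : s ∈ Subgroup.closure {A : ↥(Cfsg.SU n F q) | ∃ (v : Fin n → F) (c : F),
      Cfsg.hermForm n F q v v = 0 ∧
      ((A : Matrix.SpecialLinearGroup (Fin n) F) : Matrix (Fin n) (Fin n) F) =
        Cfsg.unitaryTransvection n q v c} := by
    rw [Herm.su_closure_transvections hF n (by omega) hex]; trivial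
  show α (proj n F q s) = β (proj n F q s)
  have key : ∀ A : Cfsg.SU n F q, (∃ (v : Fin n → F) (c : F), Cfsg.hermForm n F q v v = 0 ∧
      ((A : Matrix.SpecialLinearGroup (Fin n) F) : Matrix (Fin n) (Fin n) F) =
        Cfsg.unitaryTransvection n q v c) → α (proj n F q A) = β (proj n F q A) := by
    rintro A ⟨v, c, hv, hA⟩
    replace hv : bf hF v v = 0 := hv
    have hact : ∀ x, act A x = x + (c * bf hF v x) • v := fun x => by
      rw [act, hA, Herm.unitaryTransvection_mulVec hF]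
    rcases eq_or_ne v 0 with rfl | hv0
    · rw [show A = 1 from ext_act fun x => by simp [hact, act_one], map_one, map_one, map_one]
    have hc : IsSk hF c := by
      obtain ⟨f, hf⟩ := exists_bf_one hF hv0
      have h1 := bf_act hF A f f
      have hfv : bf hF f v = 1 := by rw [← bf_symm, hf, map_one]
      rw [hact, hf, mul_one, bf_add_right, bf_add_left, bf_add_left, bf_smul_left, bf_smul_left, bf_smul_right,
        bf_smul_right, hv, hf, hfv] at h1
      rw [IsSk]
      linear_combination h1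
    rw [show A = tv hF v c from ext_act fun x => by rw [hact, tv_act hF hv hc]]
    exact h v c hv hc
  induction hs using Subgroup.closure_induction with
  | mem A hA => exact key A hA
  | one => simp
  | mul a b _ _ ea eb => rw [map_mul, map_mul, ea, eb, map_mul]
  | inv a _ ea => rw [map_inv, map_inv, ea, map_inv]

end CfsgLib.Known.AutPSU.Trans
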