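import Cfsg.Agent.Lib.Known.AutPSU.TransPoint

/-!
# Coordinates on the unipotent radical of a point of `PSU`
-/

set_option autoImplicit false
set_option linter.style.haveILetI false
set_option linter.unusedSectionVars false

namespace CfsgLib.Known.AutPSU.Trans

open scoped Matrix
open CfsgLib.Classical

variable {n : ℕ} {F : Type*} [Field F] [Fintype F] {q : ℕ} (hF : Fintype.card F = q ^ 2)

/-- admissible scalars of the elements of a radical -/
def Adm (x : Vec n F) (a : F) : Prop := a + cj hF a = -bf hF x x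

theorem adm_zero_iff {c : F} : Adm hF (0 : Vec n F) c ↔ IsSk hF c := by simp [Adm, IsSk]

theorem adm_zero {x : Vec n F} (hx : bf hF x x = 0) : Adm hF x 0 := by rw [Adm, hx, map_zero, add_zero, neg_zero]

theorem Adm.add_sk {x : Vec n F} {a c : F} (h : Adm hF x a) (hc : IsSk hF c) : Adm hF x (a + c) := by
  rw [Adm, map_add]; rw [Adm] at h; rw [IsSk] at hc
  linear_combination h + hc

theorem Adm.sub {x : Vec n F} {a b : F} (ha : Adm hF x a) (hb : Adm hF x b) : IsSk hF (a - b) := by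
  rw [IsSk, map_sub]; rw [Adm] at ha hb
  linear_combination ha - hb

theorem Adm.ne_zero {x : Vec n F} {a : F} (h : Adm hF x a) (hx : bf hF x x ≠ 0) : a ≠ 0 := fun e => hx (by
  rw [Adm, e, map_zero, zero_add] at h
  exact neg_eq_zero.1 h.symm)

theorem Adm.mul {x y : Vec n F} {a b : F} (ha : Adm hF x a) (hb : Adm hF y b) :
    Adm hF (x + y) (a + b - bf hF x y) := by
  rw [Adm, map_sub, map_add, bf_symm, bf_add_left, bf_add_right, bf_add_right]; rw [Adm] at ha hb
  linear_combination ha + hb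

/-- elements of the unipotent radical of `e` -/
noncomputable def el (e x : Vec n F) (a : F) : Cfsg.SU n F q :=
  @dite _ (bf hF e e = 0 ∧ bf hF e x = 0 ∧ Adm hF x a) (_root_.Classical.propDecidable _)
    (fun h => (exists_rad hF h.1 h.2.1 h.2.2).choose) (fun _ => 1)

theorem el_mem {e x : Vec n F} {a : F} : el hF e x a ∈ rad hF e := by
  unfold el
  split_ifs with h
  · exact (exists_rad hF h.1 h.2.1 h.2.2).choose_spec.1
  · exact (rad hF e).one_mem

variable {hF}
variable {e f : Vec n F}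

theorem el_act (h : Hyp hF e f) {x : Vec n F} {a : F} (hx : InW hF e f x) (ha : Adm hF x a) (y : Vec n F) :
    act (el hF e x a) y = y + bf hF e y • x + (a * bf hF e y - bf hF x y) • e := by
  rw [el, dif_pos ⟨h.ee, hx.1, ha⟩]
  exact (exists_rad hF h.ee hx.1 ha).choose_spec.2 y

theorem el_act_f (h : Hyp hF e f) {x : Vec n F} {a : F} (hx : InW hF e f x) (ha : Adm hF x a) :
    act (el hF e x a) f = f + x + a • e := by
  rw [el_act h hx ha, h.ef, bf_eq_zero_comm hF hx.2, one_smul, mul_one, sub_zero]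

theorem rad_eq_one (h : Hyp hF e f) {g : Cfsg.SU n F q} (hg : g ∈ rad hF e) (hgf : act g f = f) : g = 1 :=
  ext_act fun y => by
    have hy : y = (y - bf hF e y • f) + bf hF e y • f := (sub_add_cancel _ _).symm
    have hperp : bf hF e (y - bf hF e y • f) = 0 := by rw [map_sub, bf_smul_right, h.ef, mul_one, sub_self]
    obtain ⟨k, hk⟩ := hg.2 _ hperp
    have h2 := bf_act hF g f (y - bf hF e y • f)
    rw [hgf, hk, bf_add_right, bf_smul_right, h.fe, mul_one, add_eq_left] at h2
    rw [act_one]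
    conv_lhs => rw [hy, act_add, act_smul, hgf, hk, h2, zero_smul, add_zero, ← hy]

theorem rad_eq (h : Hyp hF e f) {g g' : Cfsg.SU n F q} (hg : g ∈ rad hF e) (hg' : g' ∈ rad hF e)
    (hf : act g f = act g' f) : g = g' :=
  (inv_mul_eq_one.1 (rad_eq_one h ((rad hF e).mul_mem ((rad hF e).inv_mem hg') hg)
    (by rw [act_mul, hf, act_inv_act]))).symm

theorem exists_el (h : Hyp hF e f) {g : Cfsg.SU n F q} (hg : g ∈ rad hF e) :
    ∃ x a, InW hF e f x ∧ Adm hF x a ∧ g = el hF e x a := by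
  set u := act g f - f with hu
  have heu : bf hF e u = 0 := rad_perp hF hg f
  have hx : InW hF e f (u - bf hF f u • e) :=
    ⟨by rw [map_sub, bf_smul_right, h.ee, mul_zero, sub_zero, heu],
      by rw [map_sub, bf_smul_right, h.fe, mul_one, sub_self]⟩
  have hgf : act g f = f + (u - bf hF f u • e) + bf hF f u • e := by rw [hu]; abel
  have ha : Adm hF (u - bf hF f u • e) (bf hF f u) := by
    have h2 := bf_act hF g f f
    rw [hgf] at h2
    simp only [bf_add_left, bf_add_right, bf_smul_left, bf_smul_right, h.ee, h.ff, h.ef, h.fe, hx.1, hx.2,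
      bf_eq_zero_comm hF hx.1, bf_eq_zero_comm hF hx.2] at h2
    rw [Adm]
    linear_combination h2
  exact ⟨_, _, hx, ha, rad_eq h hg (el_mem hF) (by rw [el_act_f h hx ha, hgf])⟩

theorem inW_zero : InW hF e f (0 : Vec n F) := ⟨map_zero _, map_zero _⟩

theorem InW.add {x y : Vec n F} (hx : InW hF e f x) (hy : InW hF e f y) : InW hF e f (x + y) :=
  ⟨by rw [map_add, hx.1, hy.1, add_zero], by rw [map_add, hx.2, hy.2, add_zero]⟩

theorem InW.smul {x : Vec n F} (a : F) (hx : InW hF e f x) : InW hF e f (a • x) :=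
  ⟨by rw [bf_smul_right, hx.1, mul_zero], by rw [bf_smul_right, hx.2, mul_zero]⟩

theorem InW.sum {ι : Type*} (s : Finset ι) {x : ι → Vec n F} (hx : ∀ i ∈ s, InW hF e f (x i)) :
    InW hF e f (∑ i ∈ s, x i) :=
  ⟨by rw [map_sum]; exact Finset.sum_eq_zero fun i hi => (hx i hi).1,
    by rw [map_sum]; exact Finset.sum_eq_zero fun i hi => (hx i hi).2⟩

theorem el_mul (h : Hyp hF e f) {x y : Vec n F} {a b : F} (hx : InW hF e f x) (hy : InW hF e f y)
    (ha : Adm hF x a) (hb : Adm hF y b) :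
    el hF e x a * el hF e y b = el hF e (x + y) (a + b - bf hF x y) := by
  refine rad_eq h ((rad hF e).mul_mem (el_mem hF) (el_mem hF)) (el_mem hF) ?_
  rw [act_mul, el_act_f h hy hb, el_act_f h (hx.add hy) (Adm.mul hF ha hb), el_act h hx ha]
  simp only [bf_add_right, bf_smul_right, h.ee, h.ef, hy.1, bf_eq_zero_comm hF hx.2, bf_eq_zero_comm hF hx.1]
  module

theorem el_zero (h : Hyp hF e f) {c : F} (hc : IsSk hF c) : el hF e 0 c = tv hF e c := by
  refine rad_eq h (el_mem hF) (tv_mem_rad hF h.ee hc) ?_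
  rw [el_act_f h inW_zero ((adm_zero_iff hF).2 hc), tv_act hF h.ee hc, h.ef]
  simp

theorem proj_el_inj (hn : 3 ≤ n) (h : Hyp hF e f) {x y : Vec n F} {a b : F} (hx : InW hF e f x) (hy : InW hF e f y)
    (ha : Adm hF x a) (hb : Adm hF y b) (he : proj n F q (el hF e x a) = proj n F q (el hF e y b)) :
    x = y ∧ a = b := by
  have h1 := congrArg (fun g => act g f) (eq_of_proj_eq hF hn he h.ne_zero (el_mem hF).1 (el_mem hF).1)
  simp only [el_act_f h hx ha, el_act_f h hy hb] at h1
  have h2 := congrArg (bf hF f) h1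
  simp only [bf_add_right, bf_smul_right, h.ff, h.fe, hx.2, hy.2] at h2
  have hab : a = b := by linear_combination h2
  rw [hab, add_left_inj, add_right_inj] at h1
  exact ⟨h1, hab⟩

/-- coordinates of an automorphism fixing the point of `e` -/
structure Side (β : MulAut (Cfsg.PSU n F q)) (e f : Vec n F) (h : F → F) (A : Vec n F → Vec n F)
    (Φ : Vec n F → F → F) : Prop where
  hn : 3 ≤ n
  hyp : Hyp hF e f
  sk : ∀ c, IsSk hF c → IsSk hF (h c)
  hT : ∀ c, IsSk hF c → β (T hF e c) = T hF e (h c)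
  memW : ∀ x, InW hF e f x → InW hF e f (A x)
  adm : ∀ x a, InW hF e f x → Adm hF x a → Adm hF (A x) (Φ x a)
  hel : ∀ x a, InW hF e f x → Adm hF x a →
    β (proj n F q (el hF e x a)) = proj n F q (el hF e (A x) (Φ x a))

theorem exists_side (hn : 3 ≤ n) (β : MulAut (Cfsg.PSU n F q)) (hyp : Hyp hF e f)
    (hpt : ∀ c, IsSk hF c → ∃ d, IsSk hF d ∧ β (T hF e c) = T hF e d) :
    ∃ h A Φ, Side (hF := hF) β e f h A Φ := by
  classical
  choose h hsk hT using hpt
  let h' : F → F := fun c => if hc : IsSk hF c then h c hc else 0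
  obtain ⟨j, hj0, hj⟩ := exists_isSk hF
  have hd0 : h j hj ≠ 0 := fun e0 => T_ne_one hF hn hyp.ee hj hyp.ne_zero hj0
    (β.injective (by rw [hT j hj, e0, T_zero, map_one]))
  have key : ∀ x a, InW hF e f x → Adm hF x a → ∃ x' a', InW hF e f x' ∧ Adm hF x' a' ∧
      β (proj n F q (el hF e x a)) = proj n F q (el hF e x' a') := fun x a _ _ => by
    obtain ⟨g, hg, hg'⟩ := rad_image hn β hyp hj (hsk j hj) hj0 hd0 (hT j hj) (el_mem hF (x := x) (a := a))
    obtain ⟨x', a', h1, h2, rfl⟩ := exists_el hyp hg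
    exact ⟨x', a', h1, h2, hg'⟩
  choose X Y hX hY hXY using key
  let A : Vec n F → Vec n F := fun x =>
    if hx : InW hF e f x then X x _ hx (exists_trace hF x).choose_spec else 0
  let Φ : Vec n F → F → F := fun x a =>
    if hxa : InW hF e f x ∧ Adm hF x a then Y x a hxa.1 hxa.2 else 0
  have hAX : ∀ x a (hx : InW hF e f x) (ha : Adm hF x a), A x = X x a hx ha := fun x a hx ha => by
    simp only [A, dif_pos hx]
    set a₀ := (exists_trace hF x).choose
    have ha₀ : Adm hF x a₀ := (exists_trace hF x).choose_spec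
    have hc : IsSk hF (a - a₀) := ha.sub hF ha₀
    have h1 := hXY x a hx ha
    have h2 : el hF e x a = el hF e x a₀ * el hF e 0 (a - a₀) := by
      rw [el_mul hyp hx inW_zero ha₀ ((adm_zero_iff hF).2 hc), add_zero]
      congr 1
      rw [map_zero]; ring
    rw [h2, map_mul, map_mul, hXY x a₀ hx ha₀, el_zero hyp hc, show proj n F q (tv hF e (a - a₀)) = T hF e (a - a₀)
      from rfl, hT _ hc, T, ← el_zero hyp (hsk _ hc), ← map_mul, el_mul hyp (hX _ _ hx ha₀) inW_zero (hY _ _ hx ha₀)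
      ((adm_zero_iff hF).2 (hsk _ hc)), add_zero] at h1
    exact (proj_el_inj hn hyp (hX _ _ hx ha₀) (hX _ _ hx ha) (by
      have := Adm.add_sk hF (hY _ _ hx ha₀) (hsk _ hc)
      simpa using this) (hY _ _ hx ha) h1).1
  refine ⟨h', A, Φ, hn, hyp, fun c hc => ?_, fun c hc => ?_, fun x hx => ?_, fun x a hx ha => ?_, fun x a hx ha => ?_⟩
  · simp only [h', dif_pos hc]; exact hsk c hc
  · simp only [h', dif_pos hc]; exact hT c hc
  · simp only [A, dif_pos hx]; exact hX _ _ hx _
  · rw [hAX x a hx ha]; simp only [Φ]; rw [dif_pos ⟨hx, ha⟩]; exact hY x a hx ha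
  · rw [hAX x a hx ha]; simp only [Φ]; rw [dif_pos ⟨hx, ha⟩]; exact hXY x a hx ha

variable {β : MulAut (Cfsg.PSU n F q)} {h : F → F} {A : Vec n F → Vec n F} {Φ : Vec n F → F → F}

theorem Side.h_add (S : Side (hF := hF) β e f h A Φ) {c d : F} (hc : IsSk hF c) (hd : IsSk hF d) :
    h (c + d) = h c + h d :=
  T_inj hF S.hn S.hyp.ee S.hyp.ne_zero (S.sk _ (hc.add hF hd)) ((S.sk c hc).add hF (S.sk d hd)) (by
    rw [← S.hT _ (hc.add hF hd), ← T_mul hF S.hyp.ee hc hd, map_mul, S.hT c hc, S.hT d hd,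
      T_mul hF S.hyp.ee (S.sk c hc) (S.sk d hd)])

theorem Side.h_zero (S : Side (hF := hF) β e f h A Φ) : h 0 = 0 := by
  have := S.h_add (isSk_zero hF) (isSk_zero hF)
  rwa [add_zero, left_eq_add] at this

theorem Side.h_eq_zero (S : Side (hF := hF) β e f h A Φ) {c : F} (hc : IsSk hF c) (h0 : h c = 0) : c = 0 := by
  by_contra hc0
  exact T_ne_one hF S.hn S.hyp.ee hc S.hyp.ne_zero hc0 (β.injective (by rw [S.hT c hc, h0, T_zero, map_one]))

theorem Side.h_neg (S : Side (hF := hF) β e f h A Φ) {c : F} (hc : IsSk hF c) : h (-c) = -h c := by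
  have := S.h_add hc (hc.neg hF)
  rw [add_neg_cancel, S.h_zero] at this
  linear_combination -this

theorem Side.mul_rule (S : Side (hF := hF) β e f h A Φ) {x y : Vec n F} {a b : F} (hx : InW hF e f x)
    (hy : InW hF e f y) (ha : Adm hF x a) (hb : Adm hF y b) :
    A (x + y) = A x + A y ∧ Φ (x + y) (a + b - bf hF x y) = Φ x a + Φ y b - bf hF (A x) (A y) := by
  have h1 := S.hel _ _ (hx.add hy) (Adm.mul hF ha hb)
  rw [← el_mul S.hyp hx hy ha hb, map_mul, map_mul, S.hel x a hx ha, S.hel y b hy hb, ← map_mul,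
    el_mul S.hyp (S.memW x hx) (S.memW y hy) (S.adm x a hx ha) (S.adm y b hy hb)] at h1
  obtain ⟨h2, h3⟩ := proj_el_inj S.hn S.hyp ((S.memW x hx).add (S.memW y hy)) (S.memW _ (hx.add hy))
    (Adm.mul hF (S.adm x a hx ha) (S.adm y b hy hb)) (S.adm _ _ (hx.add hy) (Adm.mul hF ha hb)) h1
  exact ⟨h2.symm, h3.symm⟩

theorem Side.A_add (S : Side (hF := hF) β e f h A Φ) {x y : Vec n F} (hx : InW hF e f x) (hy : InW hF e f y) :
    A (x + y) = A x + A y := by
  obtain ⟨a, ha⟩ := exists_trace hF x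
  obtain ⟨b, hb⟩ := exists_trace hF y
  exact (S.mul_rule hx hy ha hb).1

theorem Side.A_zero (S : Side (hF := hF) β e f h A Φ) : A 0 = 0 := by
  have := S.A_add inW_zero inW_zero
  rwa [add_zero, left_eq_add] at this

theorem Side.A_sum (S : Side (hF := hF) β e f h A Φ) {ι : Type*} (s : Finset ι) {x : ι → Vec n F}
    (hx : ∀ i ∈ s, InW hF e f (x i)) : A (∑ i ∈ s, x i) = ∑ i ∈ s, A (x i) := by
  classical
  induction s using Finset.induction with
  | empty => simp [S.A_zero]
  | insert a s ha ih =>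
    rw [Finset.sum_insert ha, Finset.sum_insert ha, S.A_add (hx a (Finset.mem_insert_self a s))
      (InW.sum s fun i hi => hx i (Finset.mem_insert_of_mem hi)), ih fun i hi => hx i (Finset.mem_insert_of_mem hi)]

theorem Side.Φ_zero_vec (S : Side (hF := hF) β e f h A Φ) {c : F} (hc : IsSk hF c) : Φ 0 c = h c := by
  have hc' := (adm_zero_iff (n := n) hF).2 hc
  have h1 := S.hel 0 c inW_zero hc'
  rw [el_zero S.hyp hc, show proj n F q (tv hF e c) = T hF e c from rfl, S.hT c hc, T, ← el_zero S.hyp (S.sk c hc),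
    S.A_zero] at h1
  have h2 := S.adm 0 c inW_zero hc'
  rw [S.A_zero] at h2
  exact (proj_el_inj S.hn S.hyp inW_zero inW_zero ((adm_zero_iff hF).2 (S.sk c hc)) h2 h1).2.symm

theorem Side.Φ_add_sk (S : Side (hF := hF) β e f h A Φ) {x : Vec n F} {a c : F} (hx : InW hF e f x)
    (ha : Adm hF x a) (hc : IsSk hF c) : Φ x (a + c) = Φ x a + h c := by
  have h1 := (S.mul_rule hx inW_zero ha ((adm_zero_iff hF).2 hc)).2
  rwa [add_zero, map_zero, sub_zero, S.A_zero, map_zero, sub_zero, S.Φ_zero_vec hc] at h1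

/-- the commutator rule -/
theorem Side.comm_rule (S : Side (hF := hF) β e f h A Φ) {x y : Vec n F} (hx : InW hF e f x) (hy : InW hF e f y) :
    h (bf hF y x - bf hF x y) = bf hF (A y) (A x) - bf hF (A x) (A y) := by
  obtain ⟨a, ha⟩ := exists_trace hF x
  obtain ⟨b, hb⟩ := exists_trace hF y
  have h1 := (S.mul_rule hx hy ha hb).2
  have h2 := (S.mul_rule hy hx hb ha).2
  have hc : IsSk hF (bf hF y x - bf hF x y) := by rw [IsSk, map_sub, bf_symm, bf_symm]; ring
  have h3 := S.Φ_add_sk (hy.add hx) (Adm.mul hF hb ha) hc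
  rw [show b + a - bf hF y x + (bf hF y x - bf hF x y) = a + b - bf hF x y by ring, h2, add_comm y x, h1] at h3
  linear_combination -h3

theorem Side.A_eq_zero (S : Side (hF := hF) β e f h A Φ) {x : Vec n F} (hx : InW hF e f x)
    (hxx : bf hF x x ≠ 0) : A x ≠ 0 := by
  intro h0
  obtain ⟨b, hb⟩ := exists_not_fixed hF
  have h1 := S.comm_rule hx (hx.smul b)
  rw [h0, map_zero, map_zero, LinearMap.zero_apply, sub_zero] at h1
  have h2 := S.h_eq_zero (by rw [IsSk, map_sub, bf_symm, bf_symm]; ring) h1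
  rw [bf_smul_left, bf_smul_right, ← sub_mul] at h2
  exact hb (sub_eq_zero.1 ((mul_eq_zero.1 h2).resolve_right hxx))

end CfsgLib.Known.AutPSU.Trans
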