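import Cfsg.Agent.Lib.Known.AutPSU.TransCoord

/-!
# Automorphisms of `PSU` fixing two opposite points
-/

set_option autoImplicit false
set_option linter.style.haveILetI false
set_option linter.unusedSectionVars false

namespace CfsgLib.Known.AutPSU.Trans

open scoped Matrix
open CfsgLib.Classical

variable {n : ℕ} {F : Type*} [Field F] [Fintype F] {q : ℕ} {hF : Fintype.card F = q ^ 2}
variable {e f : Vec n F} {β : MulAut (Cfsg.PSU n F q)} {h k : F → F} {A A' : Vec n F → Vec n F}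
  {Φ Φ' : Vec n F → F → F}

/-- the product of transvections representing the Weyl element -/
noncomputable def weyl (e f : Vec n F) (z : F) : Cfsg.SU n F q := tv hF e z * tv hF f (-z⁻¹) * tv hF e z

theorem weyl_act (H : Hyp hF e f) {z : F} (hz : IsSk hF z) (hz0 : z ≠ 0) (y : Vec n F) :
    act (weyl (hF := hF) e f z) y =
      y + (z * bf hF e y) • e - bf hF e y • f - bf hF f y • e - (z⁻¹ * bf hF f y) • f := by
  rw [weyl, act_mul, act_mul, tv_act hF H.ee hz, tv_act hF H.ff (hz.inv hF |>.neg hF), tv_act hF H.ee hz]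
  simp only [bf_add_right, bf_smul_right, H.ee, H.ff, H.ef, H.fe]
  match_scalars <;> field_simp <;> ring

/-- the torus element of a pair of skew scalars -/
theorem torus_act (H : Hyp hF e f) {z w : F} (hz : IsSk hF z) (hw : IsSk hF w) (hz0 : z ≠ 0) (hw0 : w ≠ 0) :
    act (weyl (hF := hF) e f z * weyl (hF := hF) e f w) e = (-(z / w)) • e ∧
    act (weyl (hF := hF) e f z * weyl (hF := hF) e f w) f = (-(w / z)) • f ∧
    ∀ y, InW hF e f y → act (weyl (hF := hF) e f z * weyl (hF := hF) e f w) y = y := by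
  refine ⟨?_, ?_, fun y hy => ?_⟩
  · rw [act_mul, weyl_act H hw hw0, weyl_act H hz hz0]
    simp only [map_sub, bf_add_right, bf_smul_right, H.ee, H.ff, H.ef, H.fe]
    match_scalars <;> field_simp <;> ring
  · rw [act_mul, weyl_act H hw hw0, weyl_act H hz hz0]
    simp only [map_sub, bf_add_right, bf_smul_right, H.ee, H.ff, H.ef, H.fe]
    match_scalars <;> field_simp <;> ring
  · rw [act_mul, weyl_act H hw hw0, weyl_act H hz hz0]
    simp [hy.1, hy.2]

theorem recip (S : Side (hF := hF) β e f h A Φ) (S' : Side (hF := hF) β f e k A' Φ') {x y : F}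
    (hx : IsSk hF x) (hx0 : x ≠ 0) (hy : IsSk hF y) (hy0 : y ≠ 0) :
    h x * k x⁻¹ = 1 ∧ h (-(x ^ 2) * y) = -(h x) ^ 2 * k y := by
  have H := S.hyp
  have hxy : IsSk hF (-(x ^ 2) * y) := hy.mul_fixed hF (by rw [map_neg, map_pow, hx.map, neg_sq])
  have hxi : IsSk hF x⁻¹ := hx.inv hF
  have hiso : bf hF (f + x • e) (f + x • e) = 0 := by
    simp only [bf_add_left, bf_add_right, bf_smul_left, bf_smul_right, H.ee, H.ff, H.ef, H.fe]
    rw [IsSk] at hx
    linear_combination hx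
  have hiso' : bf hF (e + x⁻¹ • f) (e + x⁻¹ • f) = 0 := by
    simp only [bf_add_left, bf_add_right, bf_smul_left, bf_smul_right, H.ee, H.ff, H.ef, H.fe]
    rw [IsSk] at hxi
    linear_combination hxi
  have rel : T hF e x * T hF f y * (T hF e x)⁻¹ = T hF f x⁻¹ * T hF e (-(x ^ 2) * y) * (T hF f x⁻¹)⁻¹ := by
    rw [T_conj_T hF H.ee H.ff hx hy, T_conj_T hF H.ff H.ee hxi hxy, H.ef, H.fe, mul_one, mul_one,
      show f + x • e = x • (e + x⁻¹ • f) by rw [smul_add, smul_smul, mul_inv_cancel₀ hx0, one_smul, add_comm],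
      T_smul hF x hiso' hy, nm, hx.map]
    congr 1
    ring
  have h1 := congrArg β rel
  simp only [map_mul, map_inv, S.hT x hx, S'.hT y hy, S'.hT _ hxi, S.hT _ hxy] at h1
  rw [T_conj_T hF H.ee H.ff (S.sk x hx) (S'.sk y hy), T_conj_T hF H.ff H.ee (S'.sk _ hxi) (S.sk _ hxy), H.ef, H.fe,
    mul_one, mul_one] at h1
  have hk0 : k y ≠ 0 := fun e0 => hy0 (S'.h_eq_zero hy e0)
  have hne : f + h x • e ≠ 0 := fun e0 => by
    have := congrArg (bf hF e) e0
    rw [bf_add_right, bf_smul_right, H.ee, H.ef, map_zero] at this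
    simp at this
  have hiso1 : bf hF (f + h x • e) (f + h x • e) = 0 := by
    simp only [bf_add_left, bf_add_right, bf_smul_left, bf_smul_right, H.ee, H.ff, H.ef, H.fe]
    have := S.sk x hx
    rw [IsSk] at this
    linear_combination this
  have hiso2 : bf hF (e + k x⁻¹ • f) (e + k x⁻¹ • f) = 0 := by
    simp only [bf_add_left, bf_add_right, bf_smul_left, bf_smul_right, H.ee, H.ff, H.ef, H.fe]
    have := S'.sk _ hxi
    rw [IsSk] at this
    linear_combination this
  obtain ⟨a, -, ha, hn⟩ :=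
    T_eq_iff hF S.hn hiso1 hiso2 (S'.sk y hy) (S.sk _ hxy) hne hk0 h1
  have e1 := congrArg (bf hF e) ha
  have e2 := congrArg (bf hF f) ha
  simp only [bf_add_right, bf_smul_right, H.ee, H.ff, H.ef, H.fe] at e1 e2
  have ha' : a = k x⁻¹ := by linear_combination -e1
  have hr : h x * k x⁻¹ = 1 := by
    rw [← ha']
    linear_combination -e2
  refine ⟨hr, ?_⟩
  rw [ha', nm, (S'.sk _ hxi).map] at hn
  linear_combination (-(h x) ^ 2) * (-hn) + h (-(x ^ 2) * y) * (-(h x * k x⁻¹) - 1) * hr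

/-- both root groups are semilinear over the fixed field for the same automorphism -/
theorem exists_sigma (S : Side (hF := hF) β e f h A Φ) (S' : Side (hF := hF) β f e k A' Φ') :
    ∃ σ : F → F, σ 1 = 1 ∧ (∀ r, cj hF r = r → cj hF (σ r) = σ r) ∧
      (∀ r s, cj hF r = r → cj hF s = s → σ (r + s) = σ r + σ s ∧ σ (r * s) = σ r * σ s) ∧
      (∀ r c, cj hF r = r → IsSk hF c → h (r * c) = σ r * h c ∧ k (r * c) = σ r * k c) := by
  obtain ⟨j, hj0, hj⟩ := exists_isSk hF
  have hj' : h j ≠ 0 := fun e0 => hj0 (S.h_eq_zero hj e0)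
  obtain ⟨σ, hσ⟩ : ∃ σ : F → F, ∀ r, σ r = h (r * j) / h j := ⟨_, fun r => rfl⟩
  have hh : ∀ r, h (r * j) = σ r * h j := fun r => by rw [hσ, div_mul_cancel₀ _ hj']
  have h1 : σ 1 = 1 := by rw [hσ, one_mul, div_self hj']
  have hfix : ∀ r, cj hF r = r → cj hF (σ r) = σ r := fun r hr => by
    rw [hσ, map_div₀, (S.sk _ (hj.mul_fixed hF hr)).map, (S.sk j hj).map, neg_div_neg_eq]
  have hadd : ∀ r s, cj hF r = r → cj hF s = s → σ (r + s) = σ r + σ s := fun r s hr hs => by
    rw [hσ, hσ, hσ, add_mul, S.h_add (hj.mul_fixed hF hr) (hj.mul_fixed hF hs), add_div]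
  have hinvfix : ∀ s, cj hF s = s → cj hF s⁻¹ = s⁻¹ := fun s hs => by rw [map_inv₀, hs]
  have hk : ∀ s, cj hF s = s → s ≠ 0 → k (s * j⁻¹) * (σ s⁻¹ * h j) = 1 := fun s hs hs0 => by
    have h2 := (recip S S' (hj.mul_fixed hF (hinvfix s hs)) (mul_ne_zero (inv_ne_zero hs0) hj0) hj hj0).1
    rw [mul_inv, inv_inv, hh] at h2
    linear_combination h2
  have hsq : ∀ r s, cj hF r = r → cj hF s = s → r ≠ 0 → s ≠ 0 →
      σ (r ^ 2 * s) * σ s⁻¹ = σ r ^ 2 := fun r s hr hs hr0 hs0 => by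
    have hy : IsSk hF (s * j⁻¹) := (hj.inv hF).mul_fixed hF hs
    have h2 := (recip S S' (hj.mul_fixed hF hr) (mul_ne_zero hr0 hj0) hy (mul_ne_zero hs0 (inv_ne_zero hj0))).2
    have hfr : cj hF (r ^ 2 * s) = r ^ 2 * s := by rw [map_mul, map_pow, hr, hs]
    rw [show -((r * j) ^ 2) * (s * j⁻¹) = -(r ^ 2 * s * j) by field_simp, S.h_neg (hj.mul_fixed hF hfr), hh, hh] at h2
    refine mul_right_cancel₀ (mul_ne_zero hj' hj') ?_
    linear_combination (-(σ s⁻¹ * h j)) * h2 + (σ r * h j) ^ 2 * hk s hs hs0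
  have hone : ∀ s, cj hF s = s → s ≠ 0 → σ s * σ s⁻¹ = 1 := fun s hs hs0 => by
    have := hsq 1 s (map_one _) hs one_ne_zero hs0
    rwa [one_pow, one_mul, h1, one_pow] at this
  have h0 : σ 0 = 0 := by rw [hσ, zero_mul, S.h_zero, zero_div]
  have hsq' : ∀ r s, cj hF r = r → cj hF s = s → σ (r ^ 2 * s) = σ r ^ 2 * σ s := by
    intro r s hr hs
    rcases eq_or_ne s 0 with rfl | hs0
    · rw [mul_zero, h0, mul_zero]
    rcases eq_or_ne r 0 with rfl | hr0
    · rw [zero_pow (by norm_num), zero_mul, h0]; ring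
    linear_combination σ s * hsq r s hr hs hr0 hs0 - σ (r ^ 2 * s) * hone s hs hs0
  have hmul : ∀ r s, cj hF r = r → cj hF s = s → σ (r * s) = σ r * σ s := by
    intro r s hr hs
    by_cases h2 : (2 : F) = 0
    · haveI : CharP F 2 := (CharP.charP_iff_prime_eq_zero Nat.prime_two).2 (by exact_mod_cast h2)
      obtain ⟨t, ht⟩ := ((frobenius_inj F 2).bijective_of_finite).2 r
      rw [frobenius_def] at ht
      have htf : cj hF t = t := frobenius_inj F 2 (by rw [frobenius_def, frobenius_def, ← map_pow, ht, hr])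
      have e1 := hsq' t 1 htf (map_one _)
      rw [mul_one, h1, mul_one, ht] at e1
      rw [← ht, hsq' t s htf hs, ht, e1]
    · have e1 := hsq' (r + 1) s (by rw [map_add, hr, map_one]) hs
      rw [hadd r 1 hr (map_one _), h1, show (r + 1) ^ 2 * s = r ^ 2 * s + (r * s + r * s) + s by ring] at e1
      have f1 : cj hF (r ^ 2 * s) = r ^ 2 * s := by rw [map_mul, map_pow, hr, hs]
      have f2 : cj hF (r * s) = r * s := by rw [map_mul, hr, hs]
      rw [hadd _ s (by rw [map_add, map_add, f1, f2]) hs, hadd _ _ f1 (by rw [map_add, f2]), hadd _ _ f2 f2,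
        hsq' r s hr hs] at e1
      exact mul_left_cancel₀ h2 (by linear_combination e1)
  have hcj : ∀ c, IsSk hF c → cj hF (c / j) = c / j := fun c hc => by
    rw [map_div₀, hc.map, hj.map, neg_div_neg_eq]
  refine ⟨σ, h1, hfix, fun r s hr hs => ⟨hadd r s hr hs, hmul r s hr hs⟩, fun r c hr hc => ⟨?_, ?_⟩⟩
  · have h2 := hh (r * (c / j))
    rw [hmul r _ hr (hcj c hc), mul_assoc, mul_assoc, ← hh, div_mul_cancel₀ _ hj0] at h2
    exact h2
  · have hkk : ∀ s, cj hF s = s → k (s * j⁻¹) = σ s / h j := fun s hs => by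
      rcases eq_or_ne s 0 with rfl | hs0
      · rw [zero_mul, S'.h_zero, h0, zero_div]
      rw [eq_div_iff hj']
      linear_combination σ s * hk s hs hs0 - k (s * j⁻¹) * h j * hone s hs hs0
    have hu : cj hF (c * j) = c * j := by rw [map_mul, hc.map, hj.map, neg_mul_neg]
    have e1 := hkk (r * (c * j)) (by rw [map_mul, hr, hu])
    have e2 := hkk (c * j) hu
    rw [mul_assoc r, mul_assoc c, mul_inv_cancel₀ hj0, mul_one] at e1
    rw [mul_assoc c, mul_inv_cancel₀ hj0, mul_one] at e2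
    rw [e1, e2, hmul r _ hr hu, mul_div_assoc]

theorem weyl_image (S : Side (hF := hF) β e f h A Φ) (S' : Side (hF := hF) β f e k A' Φ') {z : F}
    (hz : IsSk hF z) (hz0 : z ≠ 0) :
    β (proj n F q (weyl (hF := hF) e f z)) = proj n F q (weyl (hF := hF) e f (h z)) := by
  have h1 := (recip S S' hz hz0 hz hz0).1
  have hz' : k (-z⁻¹) = -(h z)⁻¹ := by
    rw [S'.h_neg (hz.inv hF), eq_inv_of_mul_eq_one_right h1]
  have he : ∀ z : F, proj n F q (weyl (hF := hF) e f z) = T hF e z * T hF f (-z⁻¹) * T hF e z := fun z => by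
    rw [weyl, map_mul, map_mul]; rfl
  rw [he, he, map_mul, map_mul, S.hT z hz, S'.hT _ (hz.inv hF |>.neg hF), hz']

theorem torus_conj_el (H : Hyp hF e f) {z w : F} (hz : IsSk hF z) (hw : IsSk hF w) (hz0 : z ≠ 0) (hw0 : w ≠ 0)
    {x : Vec n F} {a : F} (hx : InW hF e f x) (ha : Adm hF x a) :
    weyl (hF := hF) e f z * weyl (hF := hF) e f w * el hF e x a *
        (weyl (hF := hF) e f z * weyl (hF := hF) e f w)⁻¹ =
      el hF e ((-(z / w)) • x) ((-(z / w)) ^ 2 * a) := by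
  set D := weyl (hF := hF) e f z * weyl (hF := hF) e f w
  obtain ⟨hDe, hDf, hDW⟩ := torus_act H hz hw hz0 hw0
  have hr0 : -(z / w) ≠ 0 := neg_ne_zero.2 (div_ne_zero hz0 hw0)
  set r := -(z / w) with hr
  have hri : -(w / z) = r⁻¹ := by rw [hr, inv_neg, inv_div]
  have hie : act D⁻¹ e = r⁻¹ • e := act_injective D (by
    rw [act_act_inv, act_smul, hDe, smul_smul, inv_mul_cancel₀ hr0, one_smul])
  have hif : act D⁻¹ f = r • f := act_injective D (by
    rw [act_act_inv, act_smul, hDf, hri, smul_smul, mul_inv_cancel₀ hr0, one_smul])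
  have hrfix : cj hF r = r := by rw [hr, map_neg, map_div₀, hz.map, hw.map, neg_div_neg_eq]
  have ha' : Adm hF (r • x) (r ^ 2 * a) := by
    rw [Adm, map_mul, map_pow, hrfix, bf_self_smul, nm, hrfix]
    rw [Adm] at ha
    linear_combination r ^ 2 * ha
  refine rad_eq H ?_ (el_mem hF) ?_
  · refine ⟨?_, fun y hy => ?_⟩
    · rw [act_mul, act_mul, hie, act_smul, (el_mem hF).1, act_smul, hDe, smul_smul, inv_mul_cancel₀ hr0, one_smul]
    · have hy' : bf hF e (act D⁻¹ y) = 0 := by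
        have := bf_act hF D⁻¹ e y
        rw [hie, bf_smul_left, hy] at this
        exact (mul_eq_zero.1 this).resolve_left ((map_ne_zero _).2 (inv_ne_zero hr0))
      obtain ⟨l, hl⟩ := (el_mem hF (e := e) (x := x) (a := a)).2 _ hy'
      exact ⟨l * r, by rw [act_mul, act_mul, hl, act_add, act_smul, act_act_inv, hDe, smul_smul]⟩
  · rw [act_mul, act_mul, hif, act_smul, el_act_f H hx ha, act_smul, act_add, act_add, act_smul, hDf, hDe, hDW x hx,
      el_act_f H (hx.smul r) ha', hri]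
    simp only [smul_add, smul_smul, mul_inv_cancel₀ hr0, one_smul]
    rw [show r * (a * r) = r ^ 2 * a by ring]

theorem torus (S : Side (hF := hF) β e f h A Φ) (S' : Side (hF := hF) β f e k A' Φ') {σ : F → F}
    (hσ : ∀ r c, cj hF r = r → IsSk hF c → h (r * c) = σ r * h c)
    {x : Vec n F} (hx : InW hF e f x) {r : F} (hr : cj hF r = r) : A (r • x) = σ r • A x := by
  obtain ⟨j, hj0, hj⟩ := exists_isSk hF
  have hj' : h j ≠ 0 := fun e0 => hj0 (S.h_eq_zero hj e0)
  rcases eq_or_ne r 0 with rfl | hr0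
  · have h2 := hσ 0 j (map_zero _) hj
    rw [zero_mul, S.h_zero] at h2
    rw [(mul_eq_zero.1 h2.symm).resolve_right hj', zero_smul, zero_smul, S.A_zero]
  obtain ⟨a, ha⟩ : ∃ a, Adm hF x a := exists_trace hF x
  have hz := hj.mul_fixed hF hr
  have hz0 := mul_ne_zero hr0 hj0
  have hr1 : -(r * j / -j) = r := by field_simp
  have e1 := torus_conj_el S.hyp hz (hj.neg hF) hz0 (neg_ne_zero.2 hj0) hx ha
  rw [hr1] at e1
  have e2 := congrArg (fun g => β (proj n F q g)) e1
  simp only [map_mul, map_inv, weyl_image S S' hz hz0, weyl_image S S' (hj.neg hF) (neg_ne_zero.2 hj0),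
    S.hel x a hx ha] at e2
  have hhz0 : h (r * j) ≠ 0 := fun e0 => hz0 (S.h_eq_zero hz e0)
  have hhw : h (-j) = -h j := S.h_neg hj
  have hs : -(h (r * j) / h (-j)) = σ r := by rw [hhw, div_neg, neg_neg, hσ r j hr hj, mul_div_cancel_right₀ _ hj']
  rw [← map_mul, ← map_inv, ← map_mul, ← map_mul,
    torus_conj_el S.hyp (S.sk _ hz) (S.sk _ (hj.neg hF)) hhz0 (by rw [hhw]; exact neg_ne_zero.2 hj')
      (S.memW x hx) (S.adm x a hx ha), hs] at e2
  have ha' : Adm hF (r • x) (r ^ 2 * a) := by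
    rw [Adm, map_mul, map_pow, hr, bf_self_smul, nm, hr]
    rw [Adm] at ha
    linear_combination r ^ 2 * ha
  rw [S.hel _ _ (hx.smul r) ha'] at e2
  have hσfix : cj hF (σ r) = σ r := by
    rw [← hs, map_neg, map_div₀, (S.sk _ hz).map, (S.sk _ (hj.neg hF)).map, neg_div_neg_eq]
  have ha'' : Adm hF (σ r • A x) (σ r ^ 2 * Φ x a) := by
    rw [Adm, map_mul, map_pow, hσfix, bf_self_smul, nm, hσfix]
    have := S.adm x a hx ha
    rw [Adm] at this
    linear_combination σ r ^ 2 * this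
  exact (proj_el_inj S.hn S.hyp ((S.memW x hx).smul _) (S.memW _ (hx.smul r)) ha'' (S.adm _ _ (hx.smul r) ha') e2).1.symm

/-- the image of a general transvection -/
theorem point_image (S : Side (hF := hF) β e f h A Φ) (S' : Side (hF := hF) β f e k A' Φ') {x : Vec n F} {a c : F}
    (hx : InW hF e f x) (ha : Adm hF x a) (hc : IsSk hF c) :
    β (T hF (f + x + a • e) c) = T hF (f + A x + Φ x a • e) (k c) := by
  rw [← el_act_f S.hyp hx ha, ← conj_T hF S.hyp.ff hc, map_mul, map_mul, map_inv, S.hel x a hx ha, S'.hT c hc,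
    conj_T hF S.hyp.ff (S'.sk c hc), el_act_f S.hyp (S.memW x hx) (S.adm x a hx ha)]

theorem point_iso (H : Hyp hF e f) {x : Vec n F} {a : F} (hx : InW hF e f x) (ha : Adm hF x a) :
    bf hF (f + x + a • e) (f + x + a • e) = 0 ∧ f + x + a • e ≠ 0 := by
  rw [← el_act_f H hx ha]
  exact ⟨by rw [bf_act, H.ff], act_ne_zero _ H.swap.ne_zero⟩

/-- isotropic vectors are sent to isotropic vectors, orthogonality between them is preserved -/
theorem iso_image (S : Side (hF := hF) β e f h A Φ) (S' : Side (hF := hF) β f e k A' Φ') {x y : Vec n F}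
    (hx : InW hF e f x) (hy : InW hF e f y) (hxx : bf hF x x = 0) (hyy : bf hF y y = 0) (hxy : bf hF x y = 0) :
    Φ x 0 = 0 ∧ bf hF (A x) (A y) = 0 := by
  obtain ⟨j, hj0, hj⟩ := exists_isSk hF
  have hk0 : k j ≠ 0 := fun e0 => hj0 (S'.h_eq_zero hj e0)
  have H := S.hyp
  have key : ∀ z, InW hF e f z → bf hF z z = 0 → bf hF x z = 0 →
      bf hF (f + A x + Φ x 0 • e) (f + A z + Φ z 0 • e) = 0 := by
    intro z hz hzz hxz
    obtain ⟨hv, hv0⟩ := point_iso H hx (adm_zero hF hxx)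
    obtain ⟨hw, hw0⟩ := point_iso H hz (adm_zero hF hzz)
    obtain ⟨hv', hv0'⟩ := point_iso H (S.memW x hx) (S.adm x 0 hx (adm_zero hF hxx))
    obtain ⟨hw', hw0'⟩ := point_iso H (S.memW z hz) (S.adm z 0 hz (adm_zero hF hzz))
    have hc : Commute (T hF (f + x + (0 : F) • e) j) (T hF (f + z + (0 : F) • e) j) :=
      (T_commute_iff hF S.hn hv hw hj hj hv0 hw0 hj0 hj0).2 (by
        simp only [zero_smul, add_zero, bf_add_left, bf_add_right, H.ff, hxz, hz.2,
          bf_eq_zero_comm hF hx.2])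
    have h2 := hc.map β.toMonoidHom
    simp only [MulEquiv.coe_toMonoidHom, point_image S S' hx (adm_zero hF hxx) hj,
      point_image S S' hz (adm_zero hF hzz) hj] at h2
    exact (T_commute_iff hF S.hn hv' hw' (S'.sk j hj) (S'.sk j hj) hv0' hw0' hk0 hk0).1 h2
  have hAW : ∀ z, InW hF e f z → bf hF z z = 0 → Φ z 0 = 0 ∧ True := fun z hz hzz => ⟨by
    have hz0 : bf hF (0 : Vec n F) 0 = 0 := map_zero _
    obtain ⟨hv, hv0⟩ := point_iso H hz (adm_zero hF hzz)
    obtain ⟨hv', hv0'⟩ := point_iso H (S.memW z hz) (S.adm z 0 hz (adm_zero hF hzz))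
    have hc : Commute (T hF (f + z + (0 : F) • e) j) (T hF f j) :=
      (T_commute_iff hF S.hn hv H.ff hj hj hv0 H.swap.ne_zero hj0 hj0).2 (by
        simp only [zero_smul, add_zero, bf_add_left, H.ff, bf_eq_zero_comm hF hz.2])
    have h2 := hc.map β.toMonoidHom
    simp only [MulEquiv.coe_toMonoidHom, point_image S S' hz (adm_zero hF hzz) hj, S'.hT j hj] at h2
    have h3 := (T_commute_iff hF S.hn hv' H.ff (S'.sk j hj) (S'.sk j hj) hv0' H.swap.ne_zero hk0 hk0).1 h2
    rw [bf_add_left, bf_add_left, bf_smul_left, H.ff, H.ef, bf_eq_zero_comm hF (S.memW z hz).2] at h3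
    rw [zero_add, zero_add, mul_one] at h3
    exact (map_eq_zero _).1 h3, trivial⟩
  have h1 := key y hy hyy hxy
  rw [(hAW x hx hxx).1, (hAW y hy hyy).1] at h1
  simp only [zero_smul, add_zero, bf_add_left, bf_add_right, H.ff, (S.memW y hy).2,
    bf_eq_zero_comm hF (S.memW x hx).2, zero_add] at h1
  exact ⟨(hAW x hx hxx).1, h1⟩

/-- the comparison of the two radicals -/
theorem key (S : Side (hF := hF) β e f h A Φ) (S' : Side (hF := hF) β f e k A' Φ') {x : Vec n F} {a : F}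
    (hx : InW hF e f x) (ha : Adm hF x a) (ha0 : a ≠ 0) :
    Φ x a ≠ 0 ∧ A' (a⁻¹ • x) = (Φ x a)⁻¹ • A x ∧
      ∀ c, IsSk hF c → h (nm hF a * c) = nm hF (Φ x a) * k c := by
  have H := S.hyp
  have hx' : InW hF f e (a⁻¹ • x) := ((hx.smul a⁻¹).swap hF)
  have hb : Adm hF (a⁻¹ • x) a⁻¹ := by
    rw [Adm, map_inv₀, bf_self_smul, nm, map_inv₀]
    have hca : cj hF a ≠ 0 := (map_ne_zero _).2 ha0
    rw [Adm] at ha
    field_simp
    linear_combination ha
  obtain ⟨j, hj0, hj⟩ := exists_isSk hF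
  have hsplit : f + x + a • e = a • (e + a⁻¹ • x + a⁻¹ • f) := by
    rw [smul_add, smul_add, smul_smul, smul_smul, mul_inv_cancel₀ ha0, one_smul, one_smul]; abel
  have hrel : ∀ c, IsSk hF c → T hF (f + A x + Φ x a • e) (k c) =
      T hF (e + A' (a⁻¹ • x) + Φ' (a⁻¹ • x) a⁻¹ • f) (h (nm hF a * c)) := fun c hc => by
    rw [← point_image S S' hx ha hc, ← point_image S' S hx' hb (hc.mul_fixed hF (cj_nm hF a)), hsplit,
      T_smul hF a (point_iso S'.hyp hx' hb).1 hc]
  obtain ⟨hv, hv0⟩ := point_iso H (S.memW x hx) (S.adm x a hx ha)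
  obtain ⟨hw, -⟩ := point_iso S'.hyp (S'.memW _ hx') (S'.adm _ _ hx' hb)
  have main : ∀ c, IsSk hF c → c ≠ 0 → ∃ m, m * Φ x a = 1 ∧ A' (a⁻¹ • x) = m • A x ∧
      k c = nm hF m * h (nm hF a * c) := fun c hc hc0 => by
    obtain ⟨m, -, hm, hkc⟩ := T_eq_iff hF S.hn hv hw (S'.sk c hc) (S.sk _ (hc.mul_fixed hF (cj_nm hF a))) hv0
      (fun e0 => hc0 (S'.h_eq_zero hc e0)) (hrel c hc)
    have e1 := congrArg (bf hF f) hm
    simp only [bf_add_right, bf_smul_right, H.ff, H.fe, (S'.memW _ hx').1, (S.memW x hx).2] at e1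
    have e2 := congrArg (bf hF e) hm
    simp only [bf_add_right, bf_smul_right, H.ee, H.ef, (S'.memW _ hx').2, (S.memW x hx).1] at e2
    have hmΦ : m * Φ x a = 1 := by linear_combination -e1
    have hmΦ' : Φ' (a⁻¹ • x) a⁻¹ = m := by linear_combination e2
    refine ⟨m, hmΦ, ?_, hkc⟩
    rw [hmΦ', smul_add, smul_add, smul_smul, hmΦ, one_smul] at hm
    exact add_left_cancel (a := e + m • f) (by rw [← sub_eq_zero] at hm ⊢; rw [← hm]; abel)
  obtain ⟨m, hm, hA, -⟩ := main j hj hj0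
  have hΦ0 : Φ x a ≠ 0 := fun e0 => by rw [e0, mul_zero] at hm; exact zero_ne_one hm
  refine ⟨hΦ0, by rw [hA, eq_inv_of_mul_eq_one_left hm], fun c hc => ?_⟩
  rcases eq_or_ne c 0 with rfl | hc0
  · rw [mul_zero, S.h_zero, S'.h_zero, mul_zero]
  obtain ⟨m', hm', -, hkc⟩ := main c hc hc0
  rw [hkc, ← mul_assoc, ← nm_mul, mul_comm (Φ x a), hm', show nm hF (1 : F) = 1 by rw [nm, map_one, one_mul], one_mul]

end CfsgLib.Known.AutPSU.Trans
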