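import Cfsg.Agent.Lib.Known.AutPSU.TransRoot

/-!
# Automorphisms of `PSU` act on isotropic points and on their unipotent radicals
-/

set_option autoImplicit false
set_option linter.style.haveILetI false
set_option linter.unusedSectionVars false

namespace CfsgLib.Known.AutPSU.Trans

open scoped Matrix
open CfsgLib.Classical

variable {n : ℕ} {F : Type*} [Field F] [Fintype F] {q : ℕ} (hF : Fintype.card F = q ^ 2)

include hF in
/-- the product of two transvections is a transvection only when the centres are parallel -/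
theorem parallel_of_prod (hn : 3 ≤ n) {w w' u : Vec n F} {d d' d'' : F} (hw : bf hF w w = 0)
    (hw' : bf hF w' w' = 0) (hu : bf hF u u = 0) (hd : IsSk hF d) (hd' : IsSk hF d') (hd'' : IsSk hF d'')
    (hd0 : d ≠ 0) (hd'0 : d' ≠ 0) (hd''0 : d'' ≠ 0) (hw0 : w ≠ 0) (hww' : bf hF w w' = 0)
    (h : T hF w d * T hF w' d' = T hF u d'') : ∃ a : F, w' = a • w := by
  by_contra hne
  obtain ⟨z, hz⟩ : ∃ z, bf hF w z = 0 ∧ bf hF w' z ≠ 0 := by
    by_contra hc
    push Not at hc
    exact hne (par_of_perp hF hw0 hc)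
  have hw'0 : w' ≠ 0 := fun e => hz.2 (by rw [e]; simp)
  obtain ⟨x, hx⟩ : ∃ x, bf hF w' x = 0 ∧ bf hF w x ≠ 0 := by
    by_contra hc
    push Not at hc
    obtain ⟨a, ha⟩ := par_of_perp hF hw'0 hc
    have ha0 : a ≠ 0 := fun e => hw0 (by rw [ha, e, zero_smul])
    exact hne ⟨a⁻¹, by rw [ha, smul_smul, inv_mul_cancel₀ ha0, one_smul]⟩
  rw [T, T, T, ← map_mul] at h
  obtain ⟨l, hl⟩ := exists_scalar hF hn h
  have hprod : ∀ y, act (tv hF w d * tv hF w' d') y = y + (d' * bf hF w' y) • w' + (d * bf hF w y) • w := fun y => by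
    rw [act_mul, tv_act hF hw' hd', tv_act hF hw hd, bf_add_right, bf_smul_right, hww', mul_zero, add_zero]
  have hfix : act (tv hF w d * tv hF w' d') w = w := by
    rw [hprod, bf_eq_zero_comm hF hww', hw]; simp
  have h1 := hl w
  rw [hfix, tv_act hF hu hd''] at h1
  have huw : bf hF u w = 0 := by
    by_contra h0
    have hk : d'' * bf hF u w ≠ 0 := mul_ne_zero hd''0 h0
    have h2 : u = ((d'' * bf hF u w)⁻¹ * (l - 1)) • w := by
      rw [← smul_smul, sub_smul, one_smul, ← h1, add_sub_cancel_left, smul_smul, inv_mul_cancel₀ hk, one_smul]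
    exact h0 (by rw [h2, bf_smul_left, hw, mul_zero])
  rw [huw, mul_zero, zero_smul, add_zero] at h1
  have hl1 : l = 1 := smul_left_injective F hw0 (h1.symm.trans (one_smul F w).symm)
  have key : ∀ y, (d'' * bf hF u y) • u = (d' * bf hF w' y) • w' + (d * bf hF w y) • w := fun y => by
    have h2 := hl y
    rw [hl1, one_smul, tv_act hF hu hd'', hprod, add_assoc] at h2
    exact add_left_cancel h2
  have e1 := key z
  have e2 := key x
  rw [hz.1, mul_zero, zero_smul, add_zero] at e1
  rw [hx.1, mul_zero, zero_smul, zero_add] at e2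
  have k1 : d'' * bf hF u z ≠ 0 := fun e => by
    rw [e, zero_smul, eq_comm, smul_eq_zero, mul_eq_zero] at e1
    exact e1.elim (fun h4 => h4.elim hd'0 hz.2) hw'0
  refine hne ⟨(d' * bf hF w' z)⁻¹ * (d'' * bf hF u z) * ((d'' * bf hF u x)⁻¹ * (d * bf hF w x)), ?_⟩
  have k2 : d'' * bf hF u x ≠ 0 := fun e => by
    rw [e, zero_smul, eq_comm, smul_eq_zero, mul_eq_zero] at e2
    exact e2.elim (fun h4 => h4.elim hd0 hx.2) hw0
  rw [← smul_smul, ← smul_smul ((d'' * bf hF u x)⁻¹), ← e2, smul_smul _ (d'' * bf hF u x), inv_mul_cancel₀ k2,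
    one_smul, ← smul_smul, e1, smul_smul, inv_mul_cancel₀ (mul_ne_zero hd'0 hz.2), one_smul]

/-- an automorphism sends the root group of a point to the root group of a point -/
theorem exists_point (hn : 3 ≤ n) (β : MulAut (Cfsg.PSU n F q)) {v : Vec n F} (hv : bf hF v v = 0) (hv0 : v ≠ 0) :
    ∃ w, w ≠ 0 ∧ bf hF w w = 0 ∧ ∀ c, IsSk hF c → ∃ d, IsSk hF d ∧ β (T hF v c) = T hF w d := by
  obtain ⟨j, hj0, hj⟩ := exists_isSk hF
  obtain ⟨w, d, hw0, hd0, hw, hd, hwd⟩ := root_image hF hn β hv hj hv0 hj0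
  refine ⟨w, hw0, hw, fun c hc => ?_⟩
  rcases eq_or_ne c 0 with rfl | hc0
  · exact ⟨0, isSk_zero hF, by rw [T_zero, T_zero, map_one]⟩
  rcases eq_or_ne (j + c) 0 with h0 | h0
  · exact ⟨-d, hd.neg hF, by rw [eq_neg_of_add_eq_zero_right h0, ← T_inv hF hv hj, map_inv, hwd, T_inv hF hw hd]⟩
  obtain ⟨w', d', hw'0, hd'0, hw', hd', hwd'⟩ := root_image hF hn β hv hc hv0 hc0
  obtain ⟨u, d'', -, hd''0, hu, hd'', hud⟩ := root_image hF hn β hv (hj.add hF hc) hv0 h0
  rw [← T_mul hF hv hj hc, map_mul, hwd, hwd'] at hud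
  have hcomm := ((T_commute_iff hF hn hv hv hj hc hv0 hv0 hj0 hc0).2 hv).map β.toMonoidHom
  simp only [MulEquiv.coe_toMonoidHom, hwd, hwd'] at hcomm
  obtain ⟨a, rfl⟩ := parallel_of_prod hF hn hw hw' hu hd hd' hd'' hd0 hd'0 hd''0 hw0
    ((T_commute_iff hF hn hw hw' hd hd' hw0 hw'0 hd0 hd'0).1 hcomm) hud
  exact ⟨nm hF a * d', hd'.mul_fixed hF (cj_nm hF a), by rw [hwd', T_smul hF a hw hd']⟩

/-- the two points are orthogonal to `x` -/
def InW (e f x : Vec n F) : Prop := bf hF e x = 0 ∧ bf hF f x = 0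

theorem InW.swap {e f x : Vec n F} (h : InW hF e f x) : InW hF f e x := ⟨h.2, h.1⟩

/-- a hyperbolic pair -/
structure Hyp (e f : Vec n F) : Prop where
  ee : bf hF e e = 0
  ff : bf hF f f = 0
  ef : bf hF e f = 1

variable {hF}

theorem Hyp.fe {e f : Vec n F} (h : Hyp hF e f) : bf hF f e = 1 := by rw [← bf_symm, h.ef, map_one]

theorem Hyp.swap {e f : Vec n F} (h : Hyp hF e f) : Hyp hF f e := ⟨h.ff, h.ee, h.fe⟩

theorem Hyp.ne_zero {e f : Vec n F} (h : Hyp hF e f) : e ≠ 0 := fun e0 => by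
  have := h.ef
  rw [e0] at this
  simp at this

theorem Hyp.orthonormal (hn : 2 ≤ n) {e f : Vec n F} (h : Hyp hF e f) :
    ∃ x : Fin (n - 2) → Vec n F, (∀ i, InW hF e f (x i)) ∧
      (∀ i j, bf hF (x i) (x j) = if i = j then 1 else 0) ∧
      ∀ y, y = bf hF f y • e + bf hF e y • f + ∑ i, bf hF (x i) y • x i := by
  have hB := Herm.hermStd_isHerm (n := n) hF
  set U := Submodule.span F ({e, f} : Set (Vec n F)) with hU
  have hd := hB.hyperbolic_disc (u := e) (f := f) h.ee h.ef
  have hnd := hB.orth_nondeg (W := U) (hB.pair_nondeg hd)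
  have hdim : Module.finrank F (hB.orth U) = n - 2 := by
    have h1 := hB.finrank_orth (W := U) (hB.pair_nondeg hd)
    rw [hB.pair_finrank hd, Module.finrank_fin_fun] at h1
    omega
  obtain ⟨b, hb⟩ := (hB.restrict_herm hnd).exists_orthonormal_basis hdim
  have hperp : ∀ y : hB.orth U, InW hF e f (y : Vec n F) := fun y =>
    ⟨hB.mem_orth.1 y.2 e (Submodule.subset_span (Set.mem_insert e _)),
      hB.mem_orth.1 y.2 f (Submodule.subset_span (Set.mem_insert_of_mem e rfl))⟩
  refine ⟨fun i => (b i : Vec n F), fun i => hperp _, fun i j => by simpa using hb i j, fun y => ?_⟩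
  obtain ⟨z, hz⟩ : ∃ z : hB.orth U, (z : Vec n F) = y - (bf hF f y • e + bf hF e y • f) := by
    refine ⟨⟨_, hB.mem_orth.2 fun w hw => ?_⟩, rfl⟩
    obtain ⟨r, s, rfl⟩ := Submodule.mem_span_pair.1 hw
    show bf hF (r • e + s • f) _ = 0
    rw [bf_add_left, bf_smul_left, bf_smul_left, map_sub, map_sub, bf_add_right, bf_add_right, bf_smul_right,
      bf_smul_right, bf_smul_right, bf_smul_right, h.ee, h.ff, h.ef, h.fe]
    ring
  have hi : ∀ i, bf hF (b i : Vec n F) y = bf hF (b i : Vec n F) (z : Vec n F) := fun i => by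
    rw [hz, map_sub, bf_add_right, bf_smul_right, bf_smul_right, bf_eq_zero_comm hF (hperp (b i)).1,
      bf_eq_zero_comm hF (hperp (b i)).2]
    ring
  have hsum : (z : Vec n F) = ∑ i, bf hF (b i : Vec n F) (z : Vec n F) • (b i : Vec n F) := by
    have h2 := congrArg Subtype.val (b.sum_repr z)
    rw [Submodule.coe_sum] at h2
    refine h2.symm.trans (Finset.sum_congr rfl fun i _ => ?_)
    rw [Submodule.coe_smul]
    congr 1
    conv_rhs => rw [← h2, map_sum, Finset.sum_eq_single i (fun j _ hj => by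
      rw [Submodule.coe_smul, bf_smul_right, show bf hF (b i : Vec n F) (b j : Vec n F) = 0 by
        simpa [Ne.symm hj] using hb i j, mul_zero]) (by simp)]
    rw [Submodule.coe_smul, bf_smul_right, show bf hF (b i : Vec n F) (b i : Vec n F) = 1 by simpa using hb i i,
      mul_one]
  simp only [hi]
  rw [← hsum, hz, add_sub_cancel]

theorem Hyp.eq_zero {e f x : Vec n F} (hn : 2 ≤ n) (h : Hyp hF e f) (hx : InW hF e f x)
    (h0 : ∀ y, InW hF e f y → bf hF x y = 0) : x = 0 := by
  obtain ⟨b, hb, -, hs⟩ := h.orthonormal hn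
  refine (Herm.hermStd_isHerm hF).nondeg x fun y => ?_
  show bf hF x y = 0
  rw [hs y, bf_add_right, bf_add_right, bf_smul_right, bf_smul_right, bf_eq_zero_comm hF hx.1,
    bf_eq_zero_comm hF hx.2, map_sum]
  simp [bf_smul_right, h0 _ (hb _)]

/-- in a space of dimension at least four the isotropic vectors of the complement span it -/
theorem Hyp.exists_isotropic_pair (hn : 4 ≤ n) {e f : Vec n F} (h : Hyp hF e f) :
    ∃ u s, InW hF e f u ∧ InW hF e f s ∧ Hyp hF u s := by
  obtain ⟨b, hb, hon, -⟩ := h.orthonormal (by omega)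
  let i : Fin (n - 2) := ⟨0, by omega⟩
  let j : Fin (n - 2) := ⟨1, by omega⟩
  have hij : i ≠ j := by simp [i, j, Fin.ext_iff]
  obtain ⟨a, ha⟩ := (Herm.powHom_isInvol hF).exists_norm_eq (μ := (-1 : F)) (by rw [map_neg, map_one])
  obtain ⟨d, hd⟩ := (Herm.powHom_isInvol hF).exists_trace_eq (μ := (-1 : F)) (by rw [map_neg, map_one])
  have hu : InW hF e f (b i + a • b j) := by
    constructor <;> simp [bf_add_right, bf_smul_right, (hb i).1, (hb i).2, (hb j).1, (hb j).2]
  refine ⟨b i + a • b j, b i + d • (b i + a • b j), hu, ?_, ?_, ?_, ?_⟩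
  · constructor <;> simp [bf_add_right, bf_smul_right, (hb i).1, (hb i).2, hu.1, hu.2, (hb j).1, (hb j).2]
  · simp only [bf_add_left, bf_add_right, bf_smul_left, bf_smul_right, hon, if_neg hij, if_neg hij.symm,
      if_true]
    change a * cj hF a = -1 at ha
    linear_combination ha
  · simp only [bf_add_left, bf_add_right, bf_smul_left, bf_smul_right, hon, if_neg hij, if_neg hij.symm,
      if_true]
    change a * cj hF a = -1 at ha
    change d + cj hF d = -1 at hd
    linear_combination hd + d * cj hF d * ha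
  · simp only [bf_add_left, bf_add_right, bf_smul_left, bf_smul_right, hon, if_neg hij, if_neg hij.symm,
      if_true]
    change a * cj hF a = -1 at ha
    linear_combination d * ha

theorem Hyp.exists_isotropic_bf_ne (hn : 4 ≤ n) {e f x : Vec n F} (h : Hyp hF e f) (hx : InW hF e f x)
    (hx0 : x ≠ 0) : ∃ u, InW hF e f u ∧ bf hF u u = 0 ∧ bf hF u x ≠ 0 := by
  obtain ⟨u, s, hu, hs, hus⟩ := h.exists_isotropic_pair hn
  by_contra hc
  push Not at hc
  refine hx0 (h.eq_zero (by omega) hx fun y hy => ?_)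
  -- write `y` as a combination of `u`, `s` and a third isotropic vector
  set z := y - (bf hF s y • u + bf hF u y • s) with hz
  have hzu : bf hF u z = 0 := by
    rw [hz, map_sub, bf_add_right, bf_smul_right, bf_smul_right, hus.ee, hus.ef]; ring
  have hzs : bf hF s z = 0 := by
    rw [hz, map_sub, bf_add_right, bf_smul_right, bf_smul_right, hus.fe, hus.ff]; ring
  obtain ⟨a, ha⟩ := exists_trace hF z
  have hv : InW hF e f (s + z + a • u) := by
    constructor <;>
      simp [hz, bf_add_right, bf_smul_right, map_sub, hu.1, hu.2, hs.1, hs.2, hy.1, hy.2]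
  have hviso : bf hF (s + z + a • u) (s + z + a • u) = 0 := by
    simp only [bf_add_left, bf_add_right, bf_smul_left, bf_smul_right, hus.ee, hus.ff, hus.ef, hus.fe, hzu, hzs,
      bf_eq_zero_comm hF hzu, bf_eq_zero_comm hF hzs]
    linear_combination ha
  have e1 := hc _ hv hviso
  have e2 := hc _ hu hus.ee
  have e3 := hc _ hs hus.ff
  rw [bf_add_left, bf_add_left, bf_smul_left, e2, e3, mul_zero, zero_add, add_zero] at e1
  have hxy : bf hF y x = 0 := by
    have : y = z + (bf hF s y • u + bf hF u y • s) := (sub_add_cancel _ _).symm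
    rw [this, bf_add_left, bf_add_left, bf_smul_left, bf_smul_left, e1, e2, e3]; ring
  exact bf_eq_zero_comm hF hxy

/-- projection of the orthogonal of `e` on the complement of the hyperbolic pair -/
noncomputable def prW (e f : Vec n F) (x : Vec n F) : Vec n F := x - bf hF f x • e

theorem prW_mem {e f x : Vec n F} (h : Hyp hF e f) (hx : bf hF e x = 0) : InW hF e f (prW (hF := hF) e f x) := by
  constructor <;> simp [prW, map_sub, bf_smul_right, h.ee, h.fe, hx]

/-- a `p`-group normalised by the stabiliser of a point and fixing it lies in the unipotent radical -/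
theorem le_rad (p : ℕ) [Fact p.Prime] [CharP F p] (hn : 3 ≤ n) {e f : Vec n F} (h : Hyp hF e f)
    (M : Subgroup (Cfsg.SU n F q)) (hM : IsPGroup p M) (hfix : ∀ s ∈ M, act s e = e)
    (hnorm : ∀ t : Cfsg.SU n F q, act t e = e → ∀ s ∈ M, t⁻¹ * s * t ∈ M) :
    ∀ s ∈ M, s ∈ rad hF e := by
  classical
  -- the vectors fixed modulo `e`
  let X : Submodule F (Vec n F) :=
    { carrier := {x | ∀ s ∈ M, ∃ k : F, act s x = x + k • e}
      add_mem' := fun {x y} hx hy s hs => by
        obtain ⟨k, hk⟩ := hx s hs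
        obtain ⟨l, hl⟩ := hy s hs
        exact ⟨k + l, by rw [act_add, hk, hl]; module⟩
      zero_mem' := fun s _ => ⟨0, by rw [act_zero, zero_smul, add_zero]⟩
      smul_mem' := fun a x hx s hs => by
        obtain ⟨k, hk⟩ := hx s hs
        exact ⟨a * k, by rw [act_smul, hk]; module⟩ }
  have hmem : ∀ x, x ∈ X ↔ ∀ s ∈ M, ∃ k : F, act s x = x + k • e := fun x => Iff.rfl
  suffices hall : ∀ x, InW hF e f x → x ∈ X by
    intro s hs
    refine ⟨hfix s hs, fun x hx => ?_⟩
    obtain ⟨k, hk⟩ := (hmem _).1 (hall _ (prW_mem h hx)) s hs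
    rw [prW, act_sub, act_smul, hfix s hs] at hk
    exact ⟨k, by linear_combination (norm := module) hk⟩
  have hinv : ∀ t, act t e = e → ∀ x ∈ X, act t x ∈ X := fun t ht x hx s hs => by
    obtain ⟨k, hk⟩ := (hmem x).1 hx _ (hnorm t ht s hs)
    rw [act_mul, act_mul] at hk
    refine ⟨k, act_injective t⁻¹ ?_⟩
    rw [hk, act_add, act_inv_act, act_smul, show act t⁻¹ e = e by conv_lhs => rw [← ht, act_inv_act]]
  -- a fixed nonzero vector of the complement
  obtain ⟨x, hxW, hx0, hxX⟩ : ∃ x, InW hF e f x ∧ x ≠ 0 ∧ x ∈ X := by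
    have hWact : ∀ s ∈ M, ∀ x, InW hF e f x → InW hF e f (prW (hF := hF) e f (act s x)) := fun s hs x hx =>
      prW_mem h (by rw [← hfix s hs, bf_act, hx.1])
    let W := {x : Vec n F // InW hF e f x}
    letI : MulAction M W :=
      { smul := fun s x => ⟨prW (hF := hF) e f (act s.1 x.1), hWact _ s.2 _ x.2⟩
        one_smul := fun x => Subtype.ext (by
          show prW (hF := hF) e f (act 1 x.1) = x.1
          rw [act_one, prW, x.2.2, zero_smul, sub_zero])
        mul_smul := fun s t x => Subtype.ext (by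
          show prW (hF := hF) e f (act (s.1 * t.1) x.1) =
            prW (hF := hF) e f (act s.1 (prW (hF := hF) e f (act t.1 x.1)))
          simp only [prW, act_mul, act_sub, act_smul, hfix s.1 s.2, map_sub, bf_smul_right, h.fe, mul_one, sub_smul]
          abel) }
    have hz : InW hF e f (0 : Vec n F) := ⟨map_zero _, map_zero _⟩
    obtain ⟨b, hb, hon, -⟩ := h.orthonormal (by omega)
    let U : AddSubgroup (Vec n F) :=
      { carrier := {x | InW hF e f x}
        add_mem' := fun {x y} hx hy => ⟨by simp [hx.1, hy.1], by simp [hx.2, hy.2]⟩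
        zero_mem' := hz
        neg_mem' := fun {x} hx => ⟨by simp [hx.1], by simp [hx.2]⟩ }
    have hb0 : b ⟨0, by omega⟩ ≠ 0 := fun e0 => by
      have := hon ⟨0, by omega⟩ ⟨0, by omega⟩
      rw [e0] at this
      simp at this
    have hcard : p ∣ Nat.card W := by
      let u : U := ⟨_, hb ⟨0, by omega⟩⟩
      have hu : addOrderOf u = p := addOrderOf_eq_prime (Subtype.ext (by
        show p • (u : Vec n F) = 0
        rw [← Nat.cast_smul_eq_nsmul F, CharP.cast_eq_zero, zero_smul])) (fun e0 => hb0 (congrArg Subtype.val e0))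
      exact hu ▸ addOrderOf_dvd_natCard u
    have hfix0 : (⟨0, hz⟩ : W) ∈ MulAction.fixedPoints M W := fun s => Subtype.ext (by
      show prW (hF := hF) e f (act s.1 0) = 0
      rw [act_zero, prW, map_zero, zero_smul, sub_zero])
    obtain ⟨y, hy, hy0⟩ := hM.exists_fixed_point_of_prime_dvd_card_of_fixed_point W hcard hfix0
    refine ⟨y.1, y.2, fun e0 => hy0 (Subtype.ext e0.symm), (hmem _).2 fun s hs => ⟨bf hF f (act s y.1), ?_⟩⟩
    have h2 : prW (hF := hF) e f (act s y.1) = y.1 := congrArg Subtype.val (hy ⟨s, hs⟩)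
    rw [prW, sub_eq_iff_eq_add] at h2
    exact h2
  intro y hy
  rcases Nat.eq_or_lt_of_le hn with h3 | h4
  · obtain ⟨b, hb, hon, hs⟩ := h.orthonormal (by omega)
    haveI : Subsingleton (Fin (n - 2)) := ⟨fun a b => Fin.ext (by omega)⟩
    let i : Fin (n - 2) := ⟨0, by omega⟩
    have hline : ∀ z, InW hF e f z → z = bf hF (b i) z • b i := fun z hz => by
      conv_lhs => rw [hs z, hz.1, hz.2, zero_smul, zero_smul, zero_add, zero_add]
      exact Finset.sum_eq_single i (fun j _ hj => absurd (Subsingleton.elim j i) hj) (by simp)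
    have hbi : bf hF (b i) x ≠ 0 := fun e0 => hx0 (by rw [hline x hxW, e0, zero_smul])
    rw [hline y hy]
    have hbX : b i ∈ X := by
      have := X.smul_mem (bf hF (b i) x)⁻¹ hxX
      rwa [hline x hxW, smul_smul, ← hline x hxW, inv_mul_cancel₀ hbi, one_smul] at this
    exact X.smul_mem _ hbX
  · have hn4 : 4 ≤ n := h4
    -- an isotropic vector not orthogonal to an element of `X` lies in `X`
    have step : ∀ u, InW hF e f u → bf hF u u = 0 → ∀ z ∈ X, bf hF u z ≠ 0 → u ∈ X := by
      intro u hu huu z hz huz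
      obtain ⟨j, hj0, hj⟩ := exists_isSk hF
      have h1 := X.sub_mem (hinv (tv hF u j) (tv_fix hF j (bf_eq_zero_comm hF hu.1)) z hz) hz
      rw [tv_act hF huu hj, add_sub_cancel_left] at h1
      have := X.smul_mem (j * bf hF u z)⁻¹ h1
      rwa [smul_smul, inv_mul_cancel₀ (mul_ne_zero hj0 huz), one_smul] at this
    obtain ⟨u, hu, huu, hux⟩ := h.exists_isotropic_bf_ne hn4 hxW hx0
    have huX : u ∈ X := step u hu huu x hxX hux
    have hu0 : u ≠ 0 := fun e0 => hux (by rw [e0]; simp)
    obtain ⟨s, hs, hss, hus⟩ : ∃ s, InW hF e f s ∧ bf hF s s = 0 ∧ bf hF u s ≠ 0 := by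
      obtain ⟨s, hs, hss, hsu⟩ := h.exists_isotropic_bf_ne hn4 hu hu0
      exact ⟨s, hs, hss, fun e0 => hsu (bf_eq_zero_comm hF e0)⟩
    have hsX : s ∈ X := step s hs hss u huX (fun e0 => hus (bf_eq_zero_comm hF e0))
    have hiso : ∀ v, InW hF e f v → bf hF v v = 0 → v ∈ X := by
      intro v hv hvv
      by_cases hvu : bf hF v u = 0
      · by_cases hvs : bf hF v s = 0
        · have h1 : v + u ∈ X := step _ ⟨by simp [hv.1, hu.1], by simp [hv.2, hu.2]⟩
            (by rw [bf_add_left, bf_add_right, bf_add_right, hvv, hvu, bf_eq_zero_comm hF hvu, huu]; ring) s hsX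
            (by rw [bf_add_left, hvs, zero_add]; exact hus)
          simpa using X.sub_mem h1 huX
        · exact step v hv hvv s hsX hvs
      · exact step v hv hvv u huX hvu
    obtain ⟨u', s', hu', hs', hus'⟩ := h.exists_isotropic_pair hn4
    set z := y - (bf hF s' y • u' + bf hF u' y • s') with hz
    have hzu : bf hF u' z = 0 := by
      rw [hz, map_sub, bf_add_right, bf_smul_right, bf_smul_right, hus'.ee, hus'.ef]; ring
    have hzs : bf hF s' z = 0 := by
      rw [hz, map_sub, bf_add_right, bf_smul_right, bf_smul_right, hus'.fe, hus'.ff]; ring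
    obtain ⟨a, ha⟩ := exists_trace hF z
    have hvX : s' + z + a • u' ∈ X := hiso _
      (by constructor <;>
        simp [hz, bf_add_right, bf_smul_right, map_sub, hu'.1, hu'.2, hs'.1, hs'.2, hy.1, hy.2])
      (by
        simp only [bf_add_left, bf_add_right, bf_smul_left, bf_smul_right, hus'.ee, hus'.ff, hus'.ef, hus'.fe, hzu,
          hzs, bf_eq_zero_comm hF hzu, bf_eq_zero_comm hF hzs]
        linear_combination ha)
    have e1 := hiso u' hu' hus'.ee
    have e2 := hiso s' hs' hus'.ff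
    have : y = (s' + z + a • u') - s' - a • u' + (bf hF s' y • u' + bf hF u' y • s') := by rw [hz]; module
    rw [this]
    exact X.add_mem (X.sub_mem (X.sub_mem hvX e2) (X.smul_mem _ e1))
      (X.add_mem (X.smul_mem _ e1) (X.smul_mem _ e2))

/-- an automorphism fixing a point fixes its unipotent radical -/
theorem rad_image (hn : 3 ≤ n) (β : MulAut (Cfsg.PSU n F q)) {e f : Vec n F} (h : Hyp hF e f) {j d : F}
    (hj : IsSk hF j) (hd : IsSk hF d) (hj0 : j ≠ 0) (hd0 : d ≠ 0) (hβ : β (T hF e j) = T hF e d)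
    {g : Cfsg.SU n F q} (hg : g ∈ rad hF e) :
    ∃ g' ∈ rad hF e, β (proj n F q g) = proj n F q g' := by
  obtain ⟨p, hp⟩ := CharP.exists F
  haveI : Fact p.Prime := ⟨CharP.char_is_prime F p⟩
  let N : Subgroup (Cfsg.PSU n F q) := ((rad hF e).map (proj n F q)).map β.toMonoidHom
  have hNp : IsPGroup p N := ((isPGroup_rad hF p (by omega) e).map _).map _
  -- the centraliser of `T e d` is the stabiliser of the point
  have hline : ∀ {c : F}, IsSk hF c → c ≠ 0 → ∀ t : Cfsg.SU n F q,
      Commute (proj n F q t) (T hF e c) → ∃ l : F, l ≠ 0 ∧ act t e = l • e := fun {c} hc hc0 t ht => by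
    have h1 := ht.eq
    rw [← mul_inv_eq_iff_eq_mul, conj_T hF h.ee hc] at h1
    obtain ⟨l, hl, hl', -⟩ :=
      T_eq_iff hF hn h.ee (by rw [bf_act, h.ee]) hc hc h.ne_zero hc0 h1.symm
    exact ⟨l, hl, hl'⟩
  have hcomm : ∀ {c : F}, IsSk hF c → ∀ t : Cfsg.SU n F q, act t e = e → Commute (proj n F q t) (T hF e c) :=
    fun {c} hc t ht => by
      show proj n F q t * T hF e c = T hF e c * proj n F q t
      rw [← mul_inv_eq_iff_eq_mul, conj_T hF h.ee hc, ht]
  let Ñ := N.comap (proj n F q)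
  let M : Subgroup (Cfsg.SU n F q) :=
    { carrier := {s | s ∈ Ñ ∧ act s e = e}
      one_mem' := ⟨Ñ.one_mem, act_one e⟩
      mul_mem' := fun {a b} ha hb => ⟨Ñ.mul_mem ha.1 hb.1, by rw [act_mul, hb.2, ha.2]⟩
      inv_mem' := fun {a} ha => ⟨Ñ.inv_mem ha.1, by conv_lhs => rw [← ha.2, act_inv_act]⟩ }
  have hMp : IsPGroup p M := by
    refine hNp.of_injective (MonoidHom.codRestrict ((proj n F q).comp M.subtype) N fun s => s.2.1) ?_
    intro a b hab
    exact Subtype.ext (eq_of_proj_eq hF hn (congrArg Subtype.val hab) h.ne_zero a.2.2 b.2.2)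
  have hMnorm : ∀ t : Cfsg.SU n F q, act t e = e → ∀ s ∈ M, t⁻¹ * s * t ∈ M := by
    rintro t ht s ⟨hs, hse⟩
    refine ⟨?_, by rw [act_mul, act_mul, ht, hse]; conv_lhs => rw [← ht, act_inv_act]⟩
    obtain ⟨_, ⟨r, hr, rfl⟩, hrs⟩ := hs
    obtain ⟨t₀, ht₀⟩ := proj_surjective (β.symm (proj n F q t))
    obtain ⟨l, hl0, hl⟩ := hline hj hj0 t₀ (by
      rw [ht₀]
      have := (hcomm hd t ht).map β.symm.toMonoidHom
      simpa [← hβ] using this)
    have hl' : act t₀⁻¹ e = l⁻¹ • e := act_injective t₀ (by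
      rw [act_act_inv, act_smul, hl, smul_smul, inv_mul_cancel₀ hl0, one_smul])
    have hr' : t₀⁻¹ * r * t₀ ∈ rad hF e := by
      refine ⟨by rw [act_mul, act_mul, hl, act_smul, hr.1, act_smul, hl', smul_smul, mul_inv_cancel₀ hl0,
        one_smul], fun x hx => ?_⟩
      obtain ⟨k, hk⟩ := hr.2 (act t₀ x) (by
        have := bf_act hF t₀ e x
        rw [hl, bf_smul_left, hx] at this
        exact (mul_eq_zero.1 this).resolve_left ((map_ne_zero _).2 hl0))
      exact ⟨k * l⁻¹, by rw [act_mul, act_mul, hk, act_add, act_smul, act_inv_act, hl', smul_smul]⟩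
    refine ⟨_, ⟨_, hr', rfl⟩, ?_⟩
    change β (proj n F q r) = proj n F q s at hrs
    show β (proj n F q (t₀⁻¹ * r * t₀)) = proj n F q (t⁻¹ * s * t)
    simp only [map_mul, map_inv, ht₀, hrs, MulEquiv.apply_symm_apply]
  have hrad := le_rad p hn h M hMp (fun s hs => hs.2) hMnorm
  -- every element of `N` has a lift fixing `e`
  obtain ⟨s, hs⟩ := proj_surjective (β (proj n F q g))
  have hsN : proj n F q s ∈ N := ⟨_, ⟨g, hg, rfl⟩, hs.symm⟩
  obtain ⟨k, hk⟩ := hNp ⟨_, hsN⟩
  obtain ⟨l, hl0, hl⟩ := hline hd hd0 s (by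
    rw [hs, ← hβ]
    exact (hcomm hj g hg.1).map β.toMonoidHom)
  set m : ℕ := p ^ k with hm
  -- a power of `s` prime to the characteristic corrects the scalar
  have hsm : proj n F q (s ^ m) = 1 := by rw [map_pow]; exact congrArg Subtype.val hk
  obtain ⟨a, ha⟩ := exists_scalar hF hn (hsm.trans (map_one _).symm)
  obtain ⟨o, ho, hcop⟩ : ∃ o, a ^ o = 1 ∧ Nat.Coprime o m := by
    have hcard : Nat.card Fˣ = Fintype.card F - 1 := by rw [Nat.card_units, Nat.card_eq_fintype_card]
    have ha0 : a ≠ 0 := fun e0 => by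
      have := ha e
      rw [act_one, e0, zero_smul] at this
      exact h.ne_zero this
    refine ⟨Nat.card Fˣ, ?_, ?_⟩
    · have := congrArg Units.val (pow_card_eq_one' (x := Units.mk0 a ha0))
      rw [Units.val_pow_eq_pow_val] at this
      exact this
    · rw [hcard]
      refine Nat.Coprime.pow_right k ?_
      rw [Nat.coprime_comm, (Fact.out : p.Prime).coprime_iff_not_dvd]
      intro hdvd
      obtain ⟨f', hp', hf'⟩ := FiniteField.card F p
      have hpos : 0 < Fintype.card F := Fintype.card_pos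
      have h1 : p ∣ Fintype.card F := hf' ▸ dvd_pow_self p (by exact f'.ne_zero)
      have := Nat.dvd_sub h1 hdvd
      rw [Nat.sub_sub_self (by omega)] at this
      exact hp'.one_lt.ne' (Nat.dvd_one.1 this)
  obtain ⟨x, y, hxy⟩ : ∃ x y : ℤ, (x : ℤ) * o + y * m = 1 := by
    obtain ⟨u, v, huv⟩ := Nat.isCoprime_iff_coprime.2 hcop
    exact ⟨u, v, huv⟩
  refine ⟨s ^ (x * o : ℤ), hrad _ ⟨?_, ?_⟩, ?_⟩
  · show proj n F q (s ^ (x * o : ℤ)) ∈ N
    rw [map_zpow]
    exact N.zpow_mem hsN _
  · -- the scalar on `e`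
    have hpow : ∀ i : ℕ, act (s ^ i) e = l ^ i • e := fun i => by
      induction i with
      | zero => rw [pow_zero, pow_zero, act_one, one_smul]
      | succ i ih => rw [pow_succ', act_mul, ih, act_smul, hl, smul_smul, pow_succ]
    have h1 : l ^ m = a⁻¹ := by
      have h2 := ha e
      rw [act_one, hpow, smul_smul] at h2
      exact eq_inv_of_mul_eq_one_right (smul_left_injective F h.ne_zero (h2.symm.trans (one_smul F e).symm))
    have h3 : act (s ^ o) e = e := by
      rw [hpow]
      obtain ⟨p', hp'⟩ : ∃ p' : ℕ, m = p ^ p' := ⟨k, rfl⟩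
      have h4 : (l ^ o) ^ m = 1 := by rw [← pow_mul, mul_comm, pow_mul, h1, inv_pow, ho, inv_one]
      have h5 : l ^ o = 1 := by
        haveI : ExpChar F p := ExpChar.prime Fact.out
        exact iterateFrobenius_inj F p k (by rw [iterateFrobenius_def, iterateFrobenius_def, ← hm, h4, one_pow])
      rw [h5, one_smul]
    let S : Subgroup (Cfsg.SU n F q) :=
      { carrier := {t | act t e = e}
        one_mem' := act_one e
        mul_mem' := fun {a b} ha hb => by show act (a * b) e = e; rw [act_mul, hb, ha]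
        inv_mem' := fun {a} ha => by show act a⁻¹ e = e; conv_lhs => rw [← ha, act_inv_act] }
    show s ^ (x * o : ℤ) ∈ S
    rw [mul_comm, zpow_mul]
    exact S.zpow_mem (by rw [zpow_natCast]; exact h3) x
  · rw [map_zpow, ← hs, show x * (o : ℤ) = 1 - y * m by linear_combination hxy, zpow_sub, zpow_one, mul_comm y,
      zpow_mul, zpow_natCast, ← map_pow, hsm, one_zpow, inv_one, mul_one]

end CfsgLib.Known.AutPSU.Trans
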