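import Cfsg.Agent.Lib.Known.AutPSU.TransBasic

/-!
# Automorphisms of `PSU` send transvections to transvections

The elements commuting with the unipotent radical of a point are scalars times transvections with that centre.
-/

set_option autoImplicit false
set_option linter.style.haveILetI false
set_option linter.unusedSectionVars false

namespace CfsgLib.Known.AutPSU.Trans

open scoped Matrix
open CfsgLib.Classical

variable {n : ℕ} {F : Type*} [Field F] [Fintype F] {q : ℕ} (hF : Fintype.card F = q ^ 2)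

/-- elements of the unipotent radical of the point of `e` -/
def InRad (e : Vec n F) (g : Cfsg.SU n F q) : Prop :=
  act g e = e ∧ ∀ x, bf hF e x = 0 → ∃ k : F, act g x = x + k • e

/-- the unipotent radical of the point of `e` -/
noncomputable def rad (e : Vec n F) : Subgroup (Cfsg.SU n F q) where
  carrier := {g | InRad hF e g}
  one_mem' := ⟨act_one e, fun x _ => ⟨0, by rw [act_one, zero_smul, add_zero]⟩⟩
  mul_mem' {g h} hg hh := by
    refine ⟨by rw [act_mul, hh.1, hg.1], fun x hx => ?_⟩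
    obtain ⟨k, hk⟩ := hh.2 x hx
    obtain ⟨l, hl⟩ := hg.2 x hx
    exact ⟨l + k, by rw [act_mul, hk, act_add, act_smul, hg.1, hl, add_smul, add_assoc]⟩
  inv_mem' {g} hg := by
    have h1 : act g⁻¹ e = e := by conv_lhs => rw [← hg.1, act_inv_act]
    refine ⟨h1, fun x hx => ?_⟩
    obtain ⟨k, hk⟩ := hg.2 x hx
    refine ⟨-k, act_injective g ?_⟩
    rw [act_act_inv, act_add, act_smul, hg.1, hk, add_assoc, ← add_smul, add_neg_cancel, zero_smul, add_zero]

theorem rad_perp {e : Vec n F} {g : Cfsg.SU n F q} (hg : g ∈ rad hF e) (y : Vec n F) :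
    bf hF e (act g y - y) = 0 := by
  rw [map_sub, sub_eq_zero]
  conv_lhs => rw [← hg.1]
  exact bf_act hF g e y

theorem isPGroup_rad (p : ℕ) [Fact p.Prime] [CharP F p] (hn : 1 ≤ n) (e : Vec n F) :
    IsPGroup p (rad hF e (n := n)) := by
  haveI : Nonempty (Fin n) := ⟨⟨0, hn⟩⟩
  rintro ⟨g, hg⟩
  refine ⟨2, Subtype.ext (Subtype.ext (Subtype.ext ?_))⟩
  set M := ((g : Matrix.SpecialLinearGroup (Fin n) F) : Matrix (Fin n) (Fin n) F)
  show (((g ^ p ^ 2 : Cfsg.SU n F q) : Matrix.SpecialLinearGroup (Fin n) F) : Matrix (Fin n) (Fin n) F) = 1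
  rw [SubgroupClass.coe_pow, Matrix.SpecialLinearGroup.coe_pow]
  have hN : ∀ y, (M - 1) *ᵥ y = act g y - y := fun y => by rw [Matrix.sub_mulVec, Matrix.one_mulVec]; rfl
  have h3 : (M - 1) ^ 3 = 0 := by
    refine Matrix.toLin'.injective (LinearMap.ext fun y => ?_)
    rw [Matrix.toLin'_apply, map_zero, LinearMap.zero_apply, pow_succ', pow_two, ← Matrix.mulVec_mulVec,
      ← Matrix.mulVec_mulVec, hN y, hN (act g y - y)]
    obtain ⟨k, hk⟩ := hg.2 _ (rad_perp hF hg y)
    rw [hk, add_sub_cancel_left, hN, act_smul, hg.1, sub_self]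
  have h4 : (M - 1) ^ p ^ 2 = 0 :=
    pow_eq_zero_of_le ((by norm_num : 3 ≤ 2 ^ 2).trans (Nat.pow_le_pow_left (Fact.out : p.Prime).two_le 2)) h3
  show M ^ p ^ 2 = 1
  rw [show M = (M - 1) + 1 from (sub_add_cancel _ _).symm, add_pow_char_pow_of_commute _ _ (Commute.one_right _),
    one_pow, h4, zero_add]

theorem exists_rad {e x : Vec n F} {a : F} (he : bf hF e e = 0) (hx : bf hF e x = 0)
    (ha : a + cj hF a = -bf hF x x) :
    ∃ g ∈ rad hF e, ∀ y, act g y = y + bf hF e y • x + (a * bf hF e y - bf hF x y) • e := by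
  obtain ⟨g, hg⟩ := exists_su_eq hF ((Herm.hermStd_isHerm hF).eich_mem he hx ha)
  have hact : ∀ y, act g y = y + bf hF e y • x + (a * bf hF e y - bf hF x y) • e := fun y =>
    (hg y).trans ((Herm.hermStd_isHerm hF).eich_apply he hx ha y)
  refine ⟨g, ⟨?_, fun y hy => ⟨-bf hF x y, ?_⟩⟩, hact⟩
  · rw [hact, he, bf_eq_zero_comm hF hx]; simp
  · rw [hact, hy]; simp

theorem tv_mem_rad {e : Vec n F} {c : F} (he : bf hF e e = 0) (hc : IsSk hF c) : tv hF e c ∈ rad hF e :=
  ⟨tv_fix hF c he, fun x hx => ⟨0, by rw [tv_fix hF c hx, zero_smul, add_zero]⟩⟩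

include hF in
theorem exists_not_fixed : ∃ b : F, cj hF b ≠ b := (Herm.powHom_isInvol hF).exists_ne

theorem exists_trace (x : Vec n F) : ∃ a : F, a + cj hF a = -bf hF x x :=
  (Herm.powHom_isInvol hF).exists_trace_eq (by rw [map_neg, bf_symm])

/-- the centraliser of a unipotent radical -/
theorem centralizer_rad (hn : 3 ≤ n) {e : Vec n F} (he0 : e ≠ 0) (he : bf hF e e = 0) {z : Cfsg.SU n F q}
    (hz : ∀ g ∈ rad hF e, Commute (proj n F q z) (proj n F q g)) :
    ∃ c, IsSk hF c ∧ proj n F q z = T hF e c := by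
  obtain ⟨j, hj0, hj⟩ := exists_isSk hF
  have h1 := (hz _ (tv_mem_rad hF he hj)).eq
  rw [← mul_inv_eq_iff_eq_mul, show proj n F q (tv hF e j) = T hF e j from rfl, conj_T hF he hj] at h1
  obtain ⟨l, hl0, hze, hnl⟩ :=
    T_eq_iff hF hn he (by rw [bf_act, he]) hj hj he0 hj0 h1.symm
  have hN : nm hF l = 1 := mul_right_cancel₀ hj0 (by rw [one_mul]; exact hnl.symm)
  have hcomm : ∀ g ∈ rad hF e, ∀ y, act z (act g y) = act g (act z y) := by
    intro g hg y
    have hsg : z * g * z⁻¹ = g := by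
      refine eq_of_proj_eq hF hn ?_ he0 ?_ hg.1
      · rw [map_mul, map_mul, map_inv, (hz g hg).eq, mul_inv_cancel_right]
      · have hinv : act z⁻¹ e = l⁻¹ • e := act_injective z (by
          rw [act_act_inv, act_smul, hze, smul_smul, inv_mul_cancel₀ hl0, one_smul])
        rw [act_mul, act_mul, hinv, act_smul, hg.1, act_smul, hze, smul_smul, inv_mul_cancel₀ hl0, one_smul]
    rw [← act_mul, ← act_mul, ← mul_inv_eq_iff_eq_mul.1 hsg]
  obtain ⟨f, hef, -⟩ := (Herm.hermStd_isHerm hF).exists_isotropic_partner he0 he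
  replace hef : bf hF e f = 1 := hef
  have hezf : bf hF e (act z f) = l := by
    have h2 := bf_act hF z e f
    rw [hze, bf_smul_left, hef] at h2
    calc bf hF e (act z f) = nm hF l * bf hF e (act z f) := by rw [hN, one_mul]
      _ = l * (cj hF l * bf hF e (act z f)) := by rw [nm]; ring
      _ = l := by rw [h2, mul_one]
  obtain ⟨φ, hφ⟩ : ∃ φ : Vec n F → F, ∀ x, φ x = l * bf hF x f - bf hF x (act z f) := ⟨_, fun x => rfl⟩
  have hzx : ∀ x, bf hF e x = 0 → act z x = l • x + φ x • e := by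
    intro x hx
    obtain ⟨a, ha⟩ := exists_trace hF x
    obtain ⟨g, hg, hga⟩ := exists_rad hF he hx ha
    have h3 := hcomm g hg f
    rw [hga, hga, hef, hezf, one_smul, act_add, act_add, act_smul, hze, smul_smul] at h3
    rw [hφ]
    have h4 : act z x = l • x + (a * l - bf hF x (act z f)) • e - ((a * 1 - bf hF x f) * l) • e := by
      rw [eq_sub_iff_add_eq]
      have h5 := congrArg (fun v => v - act z f) h3
      simp only [add_assoc, add_sub_cancel_left] at h5
      exact h5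
    rw [h4, add_sub_assoc, ← sub_smul]
    congr 2
    ring
  have hzx' : ∀ x, bf hF e x = 0 → act z x = l • x := by
    intro x hx
    obtain ⟨b, hb⟩ := exists_not_fixed hF
    have h5 := hzx (b • x) (by rw [bf_smul_right, hx, mul_zero])
    rw [act_smul, hzx x hx, smul_add, smul_comm b l x, smul_smul b, add_right_inj] at h5
    have h6 : b * φ x = φ (b • x) := smul_left_injective F he0 h5
    rw [hφ, hφ, bf_smul_left, bf_smul_left] at h6
    have h7 : (cj hF b - b) * (l * bf hF x f - bf hF x (act z f)) = 0 := by linear_combination -h6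
    rw [hzx x hx, hφ, (mul_eq_zero.1 h7).resolve_left (sub_ne_zero.2 hb), zero_smul, add_zero]
  obtain ⟨c, hc⟩ := par_of_perp hF he0 (w' := l⁻¹ • act z f - f) fun u hu => by
    have h2 := bf_act hF z f u
    rw [hzx' u hu, bf_smul_right] at h2
    have hcl : cj hF l⁻¹ = l := by
      rw [map_inv₀]; exact inv_eq_of_mul_eq_one_left hN
    rw [bf_sub_left, bf_smul_left, hcl]
    linear_combination h2
  have hzf : act z f = l • f + (l * c) • e := by
    rw [sub_eq_iff_eq_add] at hc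
    rw [← smul_smul, ← smul_add, add_comm f, ← hc, smul_smul, mul_inv_cancel₀ hl0, one_smul]
  have hcsk : IsSk hF c := by
    have h2 := bf_act hF z f f
    have hfe : bf hF f e = 1 := by rw [← bf_symm, hef, map_one]
    rw [hzf] at h2
    simp only [bf_add_left, bf_add_right, bf_smul_left, bf_smul_right, hef, hfe, he, map_mul] at h2
    rw [IsSk]
    rw [nm] at hN
    linear_combination h2 - (c + cj hF c + bf hF f f) * hN
  refine ⟨c, hcsk, (proj_eq_of_scalar hF hn (a := l) fun y => ?_).symm⟩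
  have hy : y = (y - bf hF e y • f) + bf hF e y • f := (sub_add_cancel _ _).symm
  rw [tv_act hF he hcsk]
  conv_lhs => rw [hy, act_add, act_smul, hzf, hzx' _ (by rw [map_sub, bf_smul_right, hef, mul_one, sub_self])]
  module

theorem exists_sylow_central (p : ℕ) [Fact p.Prime] [CharP F p] (hn : 3 ≤ n) {v : Vec n F} {c : F}
    (hv : bf hF v v = 0) (hc : IsSk hF c) (hv0 : v ≠ 0) (hc0 : c ≠ 0) :
    ∃ P : Sylow p (Cfsg.PSU n F q), ∀ y ∈ P, Commute (T hF v c) y := by
  obtain ⟨j, hj0, hj⟩ := exists_isSk hF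
  obtain ⟨P, hP⟩ := ((isPGroup_rad hF p (by omega) v).map (proj n F q)).exists_le_sylow
  have hTP : T hF v j ∈ (P : Subgroup (Cfsg.PSU n F q)) := hP ⟨_, tv_mem_rad hF hv hj, rfl⟩
  have hne : Nontrivial (P : Subgroup (Cfsg.PSU n F q)) :=
    ⟨⟨_, hTP⟩, 1, fun e => T_ne_one hF hn hv hj hv0 hj0 (congrArg Subtype.val e)⟩
  have := P.2.center_nontrivial
  obtain ⟨⟨x, hx⟩, hx1⟩ := exists_ne (1 : Subgroup.center (P : Subgroup (Cfsg.PSU n F q)))
  obtain ⟨z, hz⟩ := proj_surjective (x : Cfsg.PSU n F q)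
  obtain ⟨c₀, hc₀, hzc⟩ := centralizer_rad hF hn hv0 hv (z := z) fun g hg => by
    rw [hz]
    have := Subgroup.mem_center_iff.1 hx ⟨_, hP ⟨g, hg, rfl⟩⟩
    exact congrArg Subtype.val this.symm
  rw [hz] at hzc
  have hc₀0 : c₀ ≠ 0 := fun e => hx1 (Subtype.ext (Subtype.ext (by rw [hzc, e, T_zero]; rfl)))
  obtain ⟨a, ha⟩ := (Herm.powHom_isInvol hF).exists_norm_eq (μ := c₀ / c) (by
    show cj hF (c₀ / c) = c₀ / c
    rw [map_div₀, hc₀.map, hc.map, neg_div_neg_eq])
  have ha0 : a ≠ 0 := fun e => by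
    rw [e, zero_mul] at ha
    exact div_ne_zero hc₀0 hc0 ha.symm
  obtain ⟨s, hs⟩ := exists_act_eq hF hn (smul_ne_zero ha0 hv0) hv0 (by rw [bf_self_smul, hv, mul_zero]) hv
  refine ⟨proj n F q s • P, fun y hy => ?_⟩
  have hy' : (proj n F q s)⁻¹ * y * proj n F q s ∈ (P : Subgroup (Cfsg.PSU n F q)) := by
    rw [← SetLike.mem_coe, Sylow.coe_smul, Set.mem_smul_set_iff_inv_smul_mem] at hy
    rw [mul_assoc]
    show _ ∈ P
    simpa [MulAut.conj_inv_apply, mul_assoc, SetLike.mem_coe] using hy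
  have h1 : Commute (T hF (a • v) c) ((proj n F q s)⁻¹ * y * proj n F q s) := by
    rw [T_smul hF a hv hc, show nm hF a * c = c₀ by rw [nm, ha, div_mul_cancel₀ _ hc0], ← hzc]
    exact (congrArg Subtype.val (Subgroup.mem_center_iff.1 hx ⟨_, hy'⟩)).symm
  have h2 := h1.map (MulAut.conj (proj n F q s)).toMonoidHom
  simp only [MulEquiv.coe_toMonoidHom, MulAut.conj_apply] at h2
  rw [conj_T hF (by rw [bf_self_smul, hv, mul_zero]) hc, hs] at h2
  simpa [mul_assoc] using h2

/-- automorphisms of `PSU` send transvections to transvections -/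
theorem root_image (hn : 3 ≤ n) (β : MulAut (Cfsg.PSU n F q)) {v : Vec n F} {c : F} (hv : bf hF v v = 0)
    (hc : IsSk hF c) (hv0 : v ≠ 0) (hc0 : c ≠ 0) :
    ∃ w d, w ≠ 0 ∧ d ≠ 0 ∧ bf hF w w = 0 ∧ IsSk hF d ∧ β (T hF v c) = T hF w d := by
  suffices h : ∃ w d, bf hF w w = 0 ∧ IsSk hF d ∧ β (T hF v c) = T hF w d by
    obtain ⟨w, d, hw, hd, hwd⟩ := h
    have hne : T hF w d ≠ 1 := fun e =>
      T_ne_one hF hn hv hc hv0 hc0 (β.injective (hwd.trans (e.trans (map_one β).symm)))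
    exact ⟨w, d, fun e => hne (by rw [e, T_zero_vec]), fun e => hne (by rw [e, T_zero]), hw, hd, hwd⟩
  obtain ⟨p, hp⟩ := CharP.exists F
  haveI : Fact p.Prime := ⟨CharP.char_is_prime F p⟩
  obtain ⟨P₁, hP₁⟩ := exists_sylow_central hF p hn hv hc hv0 hc0
  obtain ⟨P₂, hP₂⟩ := ((isPGroup_rad hF p (by omega) v).map (proj n F q)).exists_le_sylow
  obtain ⟨g, hg⟩ :=
    MulAction.exists_smul_eq (Cfsg.PSU n F q) P₂ (Sylow.mapSurjective (f := β.toMonoidHom) β.surjective P₁)
  obtain ⟨z, hz⟩ := proj_surjective (g⁻¹ * β (T hF v c) * g)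
  obtain ⟨d, hd, hzd⟩ := centralizer_rad hF hn hv0 hv (z := z) fun s hs => by
    have hmem : g * proj n F q s * g⁻¹ ∈
        ((Sylow.mapSurjective (f := β.toMonoidHom) β.surjective P₁ : Sylow p _) : Subgroup (Cfsg.PSU n F q)) := by
      rw [← hg]
      exact ⟨proj n F q s, hP₂ ⟨s, hs, rfl⟩, rfl⟩
    obtain ⟨y, hy, hy'⟩ :=
      Subgroup.mem_map.1 (Sylow.coe_mapSurjective (f := β.toMonoidHom) β.surjective P₁ ▸ hmem)
    have h := (hP₁ y hy).map β.toMonoidHom
    rw [hy'] at h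
    rw [hz]
    have h' := congrArg (fun x => g⁻¹ * x * g) h.eq
    show g⁻¹ * β (T hF v c) * g * proj n F q s = proj n F q s * (g⁻¹ * β (T hF v c) * g)
    simpa [mul_assoc] using h'
  rw [hz] at hzd
  obtain ⟨u, hu⟩ := proj_surjective g
  refine ⟨act u v, d, by rw [bf_act, hv], hd, ?_⟩
  rw [← conj_T hF hv hd, ← hzd, hu]
  group

end CfsgLib.Known.AutPSU.Trans
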