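import Cfsg.Agent.Lib.Known.AutPSU.TransPair

/-!
# The field automorphism attached to an automorphism of `PSU`
-/

set_option autoImplicit false
set_option linter.style.haveILetI false
set_option linter.unusedSectionVars false

namespace CfsgLib.Known.AutPSU.Trans

open scoped Matrix
open CfsgLib.Classical

variable {n : ℕ} {F : Type*} [Field F] [Fintype F] {q : ℕ} {hF : Fintype.card F = q ^ 2}
variable {e f : Vec n F} {β : MulAut (Cfsg.PSU n F q)} {h k : F → F} {A A' : Vec n F → Vec n F}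
  {Φ Φ' : Vec n F → F → F} {σ : F → F}

/-- the properties of the automorphism of the fixed field -/
structure Sigma (hF : Fintype.card F = q ^ 2) (σ h k : F → F) : Prop where
  one : σ 1 = 1
  fix : ∀ r, cj hF r = r → cj hF (σ r) = σ r
  hom : ∀ r s, cj hF r = r → cj hF s = s → σ (r + s) = σ r + σ s ∧ σ (r * s) = σ r * σ s
  scale : ∀ r c, cj hF r = r → IsSk hF c → h (r * c) = σ r * h c ∧ k (r * c) = σ r * k c

theorem A'_cj (S : Side (hF := hF) β e f h A Φ) (S' : Side (hF := hF) β f e k A' Φ') (hs : Sigma hF σ h k)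
    {j : F} (hj : IsSk hF j) (hj0 : j ≠ 0) {x : Vec n F} {a : F} (hx : InW hF e f x) (ha : Adm hF x a) (ha0 : a ≠ 0) :
    σ (nm hF a) * h j = nm hF (Φ x a) * k j ∧
      A' (cj hF a • x) = (cj hF (Φ x a) * (k j / h j)) • A x := by
  obtain ⟨hΦ, hA, hN⟩ := key S S' hx ha ha0
  have h1 := hN j hj
  rw [(hs.scale _ j (cj_nm hF a) hj).1] at h1
  refine ⟨h1, ?_⟩
  have hN0 := nm_ne_zero hF ha0
  have hfix : cj hF (nm hF a)⁻¹ = (nm hF a)⁻¹ := by rw [map_inv₀, cj_nm]
  rw [show a⁻¹ • x = (nm hF a)⁻¹ • (cj hF a • x) by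
    rw [smul_smul]; congr 1
    have : cj hF a ≠ 0 := (map_ne_zero _).2 ha0
    rw [nm]; field_simp,
    torus S' S (fun r c hr hc => (hs.scale r c hr hc).2) (hx.smul _).swap hfix] at hA
  have hinv : σ (nm hF a) * σ (nm hF a)⁻¹ = 1 := by
    rw [← (hs.hom _ _ (cj_nm hF a) hfix).2, mul_inv_cancel₀ hN0, hs.one]
  have hj' : h j ≠ 0 := fun e0 => hj0 (S.h_eq_zero hj e0)
  have h2 := congrArg (fun v => σ (nm hF a) • v) hA
  simp only [smul_smul] at h2
  rw [hinv, one_smul] at h2
  rw [h2]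
  congr 1
  simp only [nm] at h1 ⊢
  field_simp
  linear_combination h1

theorem A'_skew (S : Side (hF := hF) β e f h A Φ) (S' : Side (hF := hF) β f e k A' Φ') (hs : Sigma hF σ h k)
    {j : F} (hj : IsSk hF j) (hj0 : j ≠ 0) {x : Vec n F} (hx : InW hF e f x) {d : F} (hd : IsSk hF d) :
    A' (d • x) = (h d * (k j / h j)) • A x := by
  rcases eq_or_ne d 0 with rfl | hd0
  · rw [zero_smul, S'.A_zero, S.h_zero, zero_mul, zero_smul]
  rcases eq_or_ne (bf hF x x) 0 with hxx | hxx
  · have hnd : IsSk hF (-d) := hd.neg hF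
    have ha : Adm hF x (-d) := by
      have := Adm.add_sk hF (adm_zero hF hxx) hnd
      rwa [zero_add] at this
    have h1 := (A'_cj S S' hs hj hj0 hx ha (neg_ne_zero.2 hd0)).2
    have hΦ : Φ x (-d) = -h d := by
      have := S.Φ_add_sk hx (adm_zero hF hxx) hnd
      rw [zero_add, (iso_image S S' hx hx hxx hxx hxx).1, zero_add, S.h_neg hd] at this
      exact this
    rw [hΦ, map_neg, map_neg, hd.map, neg_neg, (S.sk d hd).map, neg_neg] at h1
    exact h1
  · obtain ⟨a, ha⟩ : ∃ a, Adm hF x a := exists_trace hF x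
    have ha' : Adm hF x (a + d) := Adm.add_sk hF ha hd
    have h1 := (A'_cj S S' hs hj hj0 hx ha (ha.ne_zero hF hxx)).2
    have h2 := (A'_cj S S' hs hj hj0 hx ha' (ha'.ne_zero hF hxx)).2
    rw [S.Φ_add_sk hx ha hd, map_add, map_add, hd.map, (S.sk d hd).map] at h2
    have h3 := S'.A_add (hx.smul (cj hF a + -d)).swap (hx.smul d).swap
    rw [← add_smul, neg_add_cancel_right, h1, h2] at h3
    have h4 : A' (d • x) = (cj hF (Φ x a) * (k j / h j)) • A x - ((cj hF (Φ x a) + -h d) * (k j / h j)) • A x :=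
      eq_sub_iff_add_eq'.2 h3.symm
    rw [h4, ← sub_smul]
    congr 1
    ring

theorem A_quot (S : Side (hF := hF) β e f h A Φ) (S' : Side (hF := hF) β f e k A' Φ') (hs : Sigma hF σ h k)
    {j : F} (hj : IsSk hF j) (hj0 : j ≠ 0) {x : Vec n F} {a : F} (hx : InW hF e f x) (ha : Adm hF x a) (ha0 : a ≠ 0) :
    A ((cj hF a / j) • x) = (cj hF (Φ x a) / h j) • A x ∧
      nm hF (cj hF (Φ x a) / h j) = σ (nm hF (cj hF a / j)) := by
  obtain ⟨hN, h1⟩ := A'_cj S S' hs hj hj0 hx ha ha0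
  have hj' : h j ≠ 0 := fun e0 => hj0 (S.h_eq_zero hj e0)
  have hk' : k j ≠ 0 := fun e0 => hj0 (S'.h_eq_zero hj e0)
  have h2 := A'_skew S S' hs hj hj0 (hx.smul (cj hF a / j)) hj
  rw [smul_smul, mul_div_cancel₀ _ hj0, h1, mul_div_cancel₀ _ hj'] at h2
  refine ⟨?_, ?_⟩
  · have h3 := congrArg (fun v => (k j)⁻¹ • v) h2
    simp only [smul_smul] at h3
    rw [inv_mul_cancel₀ hk', one_smul] at h3
    rw [← h3]
    congr 1
    field_simp
  · -- `σ` of the norm of `j`
    have hjj : cj hF (-(j ^ 2)) = -(j ^ 2) := by rw [map_neg, map_pow, hj.map, neg_sq]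
    have hq := (recip S S' hj hj0 hj hj0).2
    rw [(hs.scale _ j hjj hj).1] at hq
    have hσj : σ (-(j ^ 2)) = -(h j * k j) := mul_right_cancel₀ hj' (by linear_combination hq)
    have hmul : σ (nm hF (cj hF a / j)) * σ (-(j ^ 2)) = σ (nm hF a) := by
      rw [← (hs.hom _ _ (cj_nm hF _) hjj).2]
      congr 1
      rw [nm, nm, map_div₀, cj_cj, hj.map]
      field_simp
    rw [hσj] at hmul
    rw [show nm hF (cj hF (Φ x a) / h j) = -(nm hF (Φ x a)) / (h j) ^ 2 by
      rw [nm, nm, map_div₀, cj_cj, (S.sk j hj).map]; field_simp]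
    rw [div_eq_iff (pow_ne_zero 2 hj')]
    refine mul_right_cancel₀ hk' ?_
    linear_combination hN + h j * hmul

theorem exists_theta (S : Side (hF := hF) β e f h A Φ) (S' : Side (hF := hF) β f e k A' Φ') (hs : Sigma hF σ h k)
    {x : Vec n F} (hx : InW hF e f x) (hxx : bf hF x x ≠ 0) :
    ∃ θ : F →+* F, (∀ r, cj hF r = r → θ r = σ r) ∧ (∀ b, θ (cj hF b) = cj hF (θ b)) ∧
      ∀ b, A (b • x) = θ b • A x := by
  obtain ⟨j, hj0, hj⟩ := exists_isSk hF
  obtain ⟨a, ha⟩ : ∃ a, Adm hF x a := exists_trace hF x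
  have hAx : A x ≠ 0 := S.A_eq_zero hx hxx
  obtain ⟨b0, hb0⟩ : ∃ b0, b0 = cj hF a / j := ⟨_, rfl⟩
  have hnf : cj hF b0 ≠ b0 := by
    intro e0
    rw [hb0, map_div₀, cj_cj, hj.map, div_neg, ← neg_div, div_left_inj' hj0] at e0
    exact hxx (by rw [Adm] at ha; linear_combination ha + e0)
  have hdec : ∀ b, ∃ r s, cj hF r = r ∧ cj hF s = s ∧ b = r + s * b0 := fun b => by
    have hne : b0 - cj hF b0 ≠ 0 := sub_ne_zero.2 (Ne.symm hnf)
    refine ⟨b - (b - cj hF b) / (b0 - cj hF b0) * b0, (b - cj hF b) / (b0 - cj hF b0), ?_, ?_, by ring⟩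
    · have hne' : cj hF b0 - b0 ≠ 0 := sub_ne_zero.2 hnf
      rw [map_sub, map_mul, map_div₀, map_sub, map_sub, cj_cj, cj_cj]
      field_simp
      ring
    · rw [map_div₀, map_sub, map_sub, cj_cj, cj_cj, ← neg_sub b, ← neg_sub b0, neg_div_neg_eq]
  have hquot := fun a' (ha' : Adm hF x a') => A_quot S S' hs hj hj0 hx ha' (ha'.ne_zero hF hxx)
  have htorus := fun r (hr : cj hF r = r) z (hz : InW hF e f z) =>
    torus S S' (fun r c hr hc => (hs.scale r c hr hc).1) hz hr
  obtain ⟨θ, hθ⟩ : ∃ θ : F → F, ∀ b, A (b • x) = θ b • A x := by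
    have hall : ∀ b, ∃ t : F, A (b • x) = t • A x := fun b => by
      obtain ⟨r, s, hr, hs', rfl⟩ := hdec b
      refine ⟨σ r + σ s * (cj hF (Φ x a) / h j), ?_⟩
      rw [_root_.add_smul r (s * b0) x, S.A_add (hx.smul r) (hx.smul _), ← smul_smul, htorus r hr x hx,
        htorus s hs' _ (hx.smul b0), hb0, (hquot a ha).1, smul_smul, ← _root_.add_smul]
    choose t ht using hall
    exact ⟨t, ht⟩
  have cancel : ∀ {s t : F}, s • A x = t • A x → s = t := fun h => smul_left_injective F hAx h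
  have hfix : ∀ r, cj hF r = r → θ r = σ r := fun r hr => cancel (by rw [← hθ, htorus r hr x hx])
  have hadd : ∀ b c, θ (b + c) = θ b + θ c := fun b c => cancel (by
    rw [← hθ, add_smul, S.A_add (hx.smul b) (hx.smul c), hθ, hθ, add_smul])
  have hsemi : ∀ r b, cj hF r = r → θ (r * b) = σ r * θ b := fun r b hr => cancel (by
    rw [← hθ, ← smul_smul, htorus r hr _ (hx.smul b), hθ, smul_smul])
  have hone : θ 1 = 1 := by rw [hfix 1 (map_one _), hs.one]
  have hnorm : ∀ b, nm hF (θ b) = σ (nm hF b) := fun b => by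
    obtain ⟨r, s, hr, hs', rfl⟩ := hdec b
    rcases eq_or_ne s 0 with rfl | hs0
    · rw [zero_mul, add_zero, hfix r hr, nm, nm, hs.fix r hr, hr, (hs.hom r r hr hr).2]
    have hu : cj hF (r / s) = r / s := by rw [map_div₀, hr, hs']
    have ha' : Adm hF x (a - r / s * j) := by
      rw [sub_eq_add_neg]
      exact Adm.add_sk hF ha ((hj.mul_fixed hF hu).neg hF)
    have hb' : cj hF (a - r / s * j) / j = r / s + b0 := by
      rw [map_sub, map_mul, hu, hj.map, hb0]; field_simp; ring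
    obtain ⟨e1, e2⟩ := hquot _ ha'
    rw [hb'] at e1 e2
    have hv : θ (r / s + b0) = cj hF (Φ x (a - r / s * j)) / h j := cancel (by rw [← hθ, e1])
    rw [show r + s * b0 = s * (r / s + b0) by field_simp, hsemi _ _ hs', nm_mul, nm_mul, hv, e2,
      (hs.hom _ _ (cj_nm hF s) (cj_nm hF _)).2]
    congr 1
    rw [nm, nm, hs.fix s hs', hs', (hs.hom s s hs' hs').2]
  have hT : ∀ b, θ b + cj hF (θ b) = σ (b + cj hF b) := fun b => by
    have e1 := hnorm (b + 1)
    have htr : cj hF (b + cj hF b) = b + cj hF b := by rw [map_add, cj_cj, add_comm]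
    rw [hadd, hone, show nm hF (b + 1) = nm hF b + (b + cj hF b) + 1 by rw [nm, nm, map_add, map_one]; ring,
      (hs.hom _ 1 (by rw [map_add, cj_nm, htr]) (map_one _)).1, (hs.hom _ _ (cj_nm hF b) htr).1, hs.one,
      nm, map_add, map_one] at e1
    have e2 := hnorm b
    rw [nm] at e2
    linear_combination e1 - e2
  have hcj : ∀ b, θ (cj hF b) = cj hF (θ b) := fun b => by
    have e1 := hadd b (cj hF b)
    rw [hfix (b + cj hF b) (by rw [map_add, cj_cj, add_comm]), ← hT] at e1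
    exact (add_left_cancel e1).symm
  have hsq : ∀ b, θ (b * b) = θ b * θ b := fun b => by
    have htr : cj hF (b + cj hF b) = b + cj hF b := by rw [map_add, cj_cj, add_comm]
    have e1 := hadd ((b + cj hF b) * b) (-nm hF b)
    rw [show (b + cj hF b) * b + -nm hF b = b * b by rw [nm]; ring, hsemi _ _ htr, ← hT] at e1
    have e2 : θ (-nm hF b) = -σ (nm hF b) := by
      rw [show -nm hF b = nm hF b * (-1) by ring, hsemi _ _ (cj_nm hF b)]
      have := hadd 1 (-1)
      rw [add_neg_cancel, hone] at this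
      have h0 := hadd 0 0
      rw [add_zero, left_eq_add] at h0
      rw [h0] at this
      linear_combination -(σ (nm hF b)) * this
    rw [e1, e2, ← hnorm b, nm]
    ring
  refine ⟨{ toFun := θ, map_one' := hone, map_mul' := fun b c => ?_, map_zero' := ?_, map_add' := hadd }, hfix, hcj,
    hθ⟩
  · obtain ⟨r, s, hr, hs', rfl⟩ := hdec b
    obtain ⟨r', s', hr', hs'', rfl⟩ := hdec c
    have hss : cj hF (s * s') = s * s' := by rw [map_mul, hs', hs'']
    have hrs : cj hF (r * s' + s * r') = r * s' + s * r' := by rw [map_add, map_mul, map_mul, hr, hs'', hs', hr']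
    have hrr : cj hF (r * r') = r * r' := by rw [map_mul, hr, hr']
    rw [show (r + s * b0) * (r' + s' * b0) = r * r' + (r * s' + s * r') * b0 + s * s' * (b0 * b0) by ring, hadd, hadd,
      hsemi _ _ hrs, hsemi _ _ hss, hadd, hadd, hsemi _ _ hs', hsemi _ _ hs'', hfix _ hrr, hfix r hr, hfix r' hr', hsq,
      (hs.hom r r' hr hr').2, (hs.hom s s' hs' hs'').2,
      (hs.hom (r * s') (s * r') (by rw [map_mul, hr, hs'']) (by rw [map_mul, hs', hr'])).1,
      (hs.hom r s' hr hs'').2, (hs.hom s r' hs' hr').2]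
    ring
  · have h0 := hadd 0 0
    rwa [add_zero, left_eq_add] at h0

end CfsgLib.Known.AutPSU.Trans
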